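import Mathlib
import Groth.Prelude.Def_CAlg2

/-!
# Going-down at a unibranch point (helper61)

* `exists_le_prime_of_isLocalRing_integralClosure`: `A` a local domain whose integral closure in its
  fraction field is local, `B` a domain integral over `A` (injective), `q` a prime of `B` over the maximal
  ideal: every prime `p₁` of `A` is the contraction of a prime `q₁ ≤ q`.
-/

set_option autoImplicit false
universe u

namespace Groth.Agent.Lib.Helper61.UnibranchGoingDown

open IsLocalRing

theorem exists_le_prime_of_isLocalRing_integralClosure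
    {A B : Type*} [CommRing A] [IsDomain A] [IsLocalRing A] [CommRing B] [IsDomain B] [Algebra A B]
    [FaithfulSMul A B] [Algebra.IsIntegral A B]
    (hA : IsLocalRing (integralClosure A (FractionRing A)))
    (q : Ideal B) [q.IsPrime] (hq : q.comap (algebraMap A B) = maximalIdeal A)
    (p₁ : Ideal A) [p₁.IsPrime] :
    ∃ q₁ : Ideal B, q₁.IsPrime ∧ q₁ ≤ q ∧ q₁.comap (algebraMap A B) = p₁ := by
  classical
  let K := FractionRing A
  let L := FractionRing B
  haveI : FaithfulSMul A L := by
    rw [faithfulSMul_iff_algebraMap_injective, IsScalarTower.algebraMap_eq A B L]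
    exact (IsFractionRing.injective B L).comp (FaithfulSMul.algebraMap_injective A B)
  letI : Algebra K L := FractionRing.liftAlgebra A L
  haveI : IsScalarTower A K L := FractionRing.isScalarTower_liftAlgebra A L
  let A' := integralClosure A K
  let C := integralClosure A L
  let φ : A' →ₐ[A] C := (IsScalarTower.toAlgHom A K L).mapIntegralClosure
  letI algA'C : Algebra A' C := φ.toRingHom.toAlgebra
  haveI : IsScalarTower A A' C := IsScalarTower.of_algebraMap_eq (fun a => (φ.commutes a).symm)
  let ψ : B →ₐ[A] C := (IsScalarTower.toAlgHom A B L).codRestrict C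
    (fun b => (Algebra.IsIntegral.isIntegral (R := A) b).map (IsScalarTower.toAlgHom A B L))
  letI algBC : Algebra B C := ψ.toRingHom.toAlgebra
  haveI : IsScalarTower A B C := IsScalarTower.of_algebraMap_eq (fun a => (ψ.commutes a).symm)
  haveI : IsDomain C := inferInstance
  have hφinj : Function.Injective (algebraMap A' C) := by
    intro x y hxy
    have h1 : (algebraMap K L) (x : K) = (algebraMap K L) (y : K) := congrArg Subtype.val hxy
    exact Subtype.ext ((algebraMap K L).injective h1)
  haveI : FaithfulSMul A' C := (faithfulSMul_iff_algebraMap_injective A' C).mpr hφinj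
  haveI : Algebra.IsIntegral A' C := ⟨fun c => (integralClosure.isIntegral (R := A) c).tower_top⟩
  haveI : Algebra.IsIntegral B C := ⟨fun c => (integralClosure.isIntegral (R := A) c).tower_top⟩
  haveI : IsIntegrallyClosed A' := integralClosure.isIntegrallyClosedOfFiniteExtension (R := A) K (L := K)
  haveI : Algebra.HasGoingDown A' C := inferInstance
  have hψinj : Function.Injective (algebraMap B C) := by
    intro x y hxy
    have h1 : (algebraMap B L) x = (algebraMap B L) y := congrArg Subtype.val hxy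
    exact IsFractionRing.injective B L h1
  -- a prime of `C` over `q`
  obtain ⟨Q, hQ, hQq⟩ := Ideal.exists_ideal_over_prime_of_isIntegral_of_isDomain (S := C) q
    (by rw [(RingHom.injective_iff_ker_eq_bot _).mp hψinj]; exact bot_le)
  -- its contraction to `A'` is the maximal ideal
  have hcomm : (algebraMap A' C).comp (algebraMap A A') = (algebraMap B C).comp (algebraMap A B) := by
    rw [← IsScalarTower.algebraMap_eq, ← IsScalarTower.algebraMap_eq]
  have hQA : (Q.comap (algebraMap A' C)).comap (algebraMap A A') = maximalIdeal A := by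
    rw [Ideal.comap_comap, hcomm, ← Ideal.comap_comap, hQq, hq]
  haveI : (Q.comap (algebraMap A' C)).IsPrime := Ideal.comap_isPrime _ _
  have hmax : (Q.comap (algebraMap A' C)).IsMaximal :=
    Ideal.isMaximal_of_isIntegral_of_isMaximal_comap (R := A) _ (by rw [hQA]; infer_instance)
  have hQm : Q.comap (algebraMap A' C) = maximalIdeal A' := IsLocalRing.eq_maximalIdeal hmax
  -- a prime of `A'` over `p₁`
  obtain ⟨p₁', hp₁', hp₁'p⟩ := Ideal.exists_ideal_over_prime_of_isIntegral_of_isDomain (S := A') p₁
    (by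
      have : Function.Injective (algebraMap A A') := FaithfulSMul.algebraMap_injective A A'
      rw [(RingHom.injective_iff_ker_eq_bot _).mp this]; exact bot_le)
  have hle : p₁' ≤ maximalIdeal A' := IsLocalRing.le_maximalIdeal hp₁'.ne_top
  haveI : Q.LiesOver (maximalIdeal A') := ⟨hQm.symm⟩
  obtain ⟨Q₁, hQ₁Q, hQ₁, hQ₁p⟩ := Ideal.exists_ideal_le_liesOver_of_le (p := p₁')
    (q := maximalIdeal A') Q hle
  refine ⟨Q₁.comap (algebraMap B C), Ideal.comap_isPrime _ _, ?_, ?_⟩
  · rw [← hQq]
    exact Ideal.comap_mono hQ₁Q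
  · rw [Ideal.comap_comap, ← hcomm, ← Ideal.comap_comap]
    have : Q₁.comap (algebraMap A' C) = p₁' := (hQ₁p.over).symm
    rw [this, hp₁'p]

/-- Under Zariski's main property at `q`, primes of the integral closure below `q ∩ S'` lift to primes
of `S` below `q`. -/
theorem exists_prime_of_zariskisMainProperty {R S : Type*} [CommRing R] [CommRing S] [Algebra R S]
    (q : Ideal S) [q.IsPrime] (H : Algebra.ZariskisMainProperty R q)
    (q₁' : Ideal (integralClosure R S)) [q₁'.IsPrime]
    (hle : q₁' ≤ q.comap (algebraMap (integralClosure R S) S)) :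
    ∃ q₁ : Ideal S, q₁.IsPrime ∧ q₁ ≤ q ∧
      q₁.comap (algebraMap (integralClosure R S) S) = q₁' := by
  classical
  obtain ⟨r, hrq, hbij⟩ := H
  let f : integralClosure R S →+* S := (integralClosure R S).val.toRingHom
  have hfr : f r = (r : S) := rfl
  let e : Localization.Away r ≃+* Localization.Away (f r) :=
    RingEquiv.ofBijective (Localization.awayMap f r) hbij
  have hcomm : ∀ x : integralClosure R S,
      e (algebraMap _ (Localization.Away r) x) = algebraMap S (Localization.Away (f r)) (f x) :=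
    fun x => by
      change Localization.awayMap f r (algebraMap _ (Localization.Away r) x) = _
      simp only [Localization.awayMap, IsLocalization.Away.map, IsLocalization.map_eq]
  have hrq₁ : r ∉ q₁' := fun h => hrq (hle h)
  have hdisj : Disjoint ((Submonoid.powers r : Submonoid (integralClosure R S)) : Set _)
      (q₁' : Set (integralClosure R S)) := by
    rw [Set.disjoint_left]
    rintro x ⟨n, rfl⟩ hx
    exact hrq₁ (Ideal.IsPrime.mem_of_pow_mem inferInstance n hx)
  have hP : (q₁'.map (algebraMap _ (Localization.Away r))).IsPrime :=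
    IsLocalization.isPrime_of_isPrime_disjoint (Submonoid.powers r) _ q₁' inferInstance hdisj
  have hPc : (q₁'.map (algebraMap _ (Localization.Away r))).comap
      (algebraMap _ (Localization.Away r)) = q₁' :=
    IsLocalization.under_map_of_isPrime_disjoint (Submonoid.powers r) _ inferInstance hdisj
  let P₂ : Ideal (Localization.Away (f r)) :=
    (q₁'.map (algebraMap _ (Localization.Away r))).comap e.symm.toRingHom
  haveI hP₂ : P₂.IsPrime := Ideal.comap_isPrime _ _
  refine ⟨P₂.comap (algebraMap S (Localization.Away (f r))), Ideal.comap_isPrime _ _, ?_, ?_⟩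
  · intro s hs
    have hs' : e.symm (algebraMap S (Localization.Away (f r)) s) ∈
        q₁'.map (algebraMap _ (Localization.Away r)) := hs
    rw [IsLocalization.mem_map_algebraMap_iff (Submonoid.powers r)] at hs'
    obtain ⟨⟨a, m⟩, ham⟩ := hs'
    obtain ⟨n, hn⟩ := m.2
    have h1 := congrArg e ham
    rw [map_mul, RingEquiv.apply_symm_apply, hcomm, hcomm, ← map_mul] at h1
    obtain ⟨c, hc⟩ := (IsLocalization.eq_iff_exists (Submonoid.powers (f r)) _).mp h1
    obtain ⟨k, hk⟩ := c.2
    have h2 : (f r) ^ k * (s * (f r) ^ n) ∈ q := by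
      have hk' : (f r) ^ k = (c : S) := hk
      have hn' : r ^ n = (m : integralClosure R S) := hn
      have h3 : (f r) ^ k * (s * f (m : integralClosure R S)) = (f r) ^ k * f (a : integralClosure R S) := by
        rw [hk']; exact hc
      have h4 : f (m : integralClosure R S) = (f r) ^ n := by rw [← hn', map_pow]
      rw [← h4, h3]
      exact q.mul_mem_left _ (hle a.2)
    have hrn : ∀ j, (f r) ^ j ∉ q := fun j h => hrq (Ideal.IsPrime.mem_of_pow_mem inferInstance j h)
    rcases (Ideal.IsPrime.mem_or_mem inferInstance h2) with h | h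
    · exact absurd h (hrn k)
    · rcases (Ideal.IsPrime.mem_or_mem inferInstance h) with h | h
      · exact h
      · exact absurd h (hrn n)
  · ext x
    have h0 : x ∈ Ideal.comap (algebraMap (integralClosure R S) S)
        (Ideal.comap (algebraMap S (Localization.Away (f r))) P₂) ↔
        e.symm (algebraMap S (Localization.Away (f r)) (f x)) ∈
          q₁'.map (algebraMap _ (Localization.Away r)) := Iff.rfl
    rw [h0, ← hcomm, RingEquiv.symm_apply_apply]
    conv_rhs => rw [← hPc]
    rfl

set_option maxHeartbeats 1600000 in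
/-- **Going-down at a unibranch point for quasi-finite algebras** (ring form of EGA IV 14.4.1.2). -/
theorem exists_le_prime_of_isUnibranch
    {R S : Type u} [CommRing R] [CommRing S] [Algebra R S]
    (q : Ideal S) [q.IsPrime] (H : Algebra.ZariskisMainProperty R q)
    (q₀ : Ideal S) [q₀.IsPrime] (hq₀ : q₀ ≤ nilradical S)
    (hdom : q₀.comap (algebraMap R S) ≤ nilradical R)
    (Ay : Type u) [CommRing Ay] [IsLocalRing Ay] [Algebra R Ay]
    [IsLocalization.AtPrime Ay (q.comap (algebraMap R S))]
    (hy : CAlg2.IsUnibranch Ay)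
    (p₁ : Ideal R) [p₁.IsPrime] (hp₁ : p₁ ≤ q.comap (algebraMap R S)) :
    ∃ q₁ : Ideal S, q₁.IsPrime ∧ q₁ ≤ q ∧ q₁.comap (algebraMap R S) = p₁ := by
  classical
  set p := q.comap (algebraMap R S) with hp
  let ι : integralClosure R S →+* S := algebraMap (integralClosure R S) S
  let ρ : R →+* integralClosure R S := algebraMap R (integralClosure R S)
  have hιρ : ι.comp ρ = algebraMap R S := (IsScalarTower.algebraMap_eq R (integralClosure R S) S).symm
  let q' : Ideal (integralClosure R S) := q.comap ι
  let q₀' : Ideal (integralClosure R S) := q₀.comap ι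
  haveI : q₀'.IsPrime := Ideal.comap_isPrime _ _
  haveI : q'.IsPrime := Ideal.comap_isPrime _ _
  have hq₀q : q₀ ≤ q := hq₀.trans (nilradical_le_prime q)
  have hq₀q' : q₀' ≤ q' := Ideal.comap_mono hq₀q
  let π₀ : integralClosure R S →+* (integralClosure R S ⧸ q₀') := Ideal.Quotient.mk q₀'
  have hπ₀ : Function.Surjective π₀ := Ideal.Quotient.mk_surjective
  let g₀ : R →+* (integralClosure R S ⧸ q₀') := π₀.comp ρ
  have hker : ∀ x : R, g₀ x = 0 → x ∈ nilradical R := fun x hx => hdom (by
    have h1 : ρ x ∈ q₀' := Ideal.Quotient.eq_zero_iff_mem.mp hx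
    have h2 : ι (ρ x) ∈ q₀ := h1
    rwa [← RingHom.comp_apply, hιρ] at h2)
  let M : Submonoid (integralClosure R S ⧸ q₀') := p.primeCompl.map (g₀ : R →* _)
  have hM : M ≤ nonZeroDivisors (integralClosure R S ⧸ q₀') := by
    rintro _ ⟨t, ht, rfl⟩
    apply mem_nonZeroDivisors_of_ne_zero
    intro h0
    exact ht (nilradical_le_prime p (hker t h0))
  suffices key : ∀ (B : Type u) [CommRing B] [Algebra (integralClosure R S ⧸ q₀') B]
      [IsLocalization M B], ∃ q₁ : Ideal S, q₁.IsPrime ∧ q₁ ≤ q ∧ q₁.comap (algebraMap R S) = p₁ from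
    key (Localization M)
  intro B _ _ _
  haveI : IsDomain B := IsLocalization.isDomain_of_le_nonZeroDivisors _ hM
  let lam : (integralClosure R S ⧸ q₀') →+* B := algebraMap _ B
  have hlam : Function.Injective lam := IsLocalization.injective B hM
  have hunit : ∀ y : p.primeCompl, IsUnit ((lam.comp g₀) y) := fun y =>
    IsLocalization.map_units B (⟨g₀ y, y, y.2, rfl⟩ : M)
  let σ : Ay →+* B := IsLocalization.lift (M := p.primeCompl) (g := lam.comp g₀) hunit
  have hσ : ∀ x : R, σ (algebraMap R Ay x) = lam (g₀ x) := fun x =>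
    IsLocalization.lift_eq (M := p.primeCompl) hunit x
  have hσnil : ∀ a ∈ nilradical Ay, σ a = 0 := fun a ha =>
    ((mem_nilradical.mp ha).map σ).eq_zero
  let τ : CAlg2.red Ay →+* B := Ideal.Quotient.lift (nilradical Ay) σ hσnil
  have hτ : ∀ a : Ay, τ (Ideal.Quotient.mk _ a) = σ a := fun a => Ideal.Quotient.lift_mk _ _ _
  haveI : IsDomain (CAlg2.red Ay) := hy.1
  haveI : IsLocalRing (CAlg2.red Ay) :=
    IsLocalRing.of_surjective' (Ideal.Quotient.mk (nilradical Ay)) Ideal.Quotient.mk_surjective
  letI algAB : Algebra (CAlg2.red Ay) B := τ.toAlgebra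
  have halg : algebraMap (CAlg2.red Ay) B = τ := rfl
  let φ : R →+* CAlg2.red Ay := (Ideal.Quotient.mk (nilradical Ay)).comp (algebraMap R Ay)
  have hφ : (algebraMap (CAlg2.red Ay) B).comp φ = (lam.comp π₀).comp ρ := by
    ext x
    change τ (Ideal.Quotient.mk _ (algebraMap R Ay x)) = lam (g₀ x)
    rw [hτ, hσ]
  -- units coming from `p.primeCompl`
  have hunitAy : ∀ t : R, t ∉ p → IsUnit (algebraMap R Ay t) := fun t ht =>
    IsLocalization.map_units Ay (⟨t, ht⟩ : p.primeCompl)
  -- injectivity of `A → B`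
  have hτinj : Function.Injective τ := by
    rw [injective_iff_map_eq_zero]
    intro a' ha'
    obtain ⟨a, rfl⟩ := Ideal.Quotient.mk_surjective a'
    rw [hτ] at ha'
    obtain ⟨⟨x, s⟩, hxs⟩ := IsLocalization.surj p.primeCompl a
    have h1 : lam (g₀ x) = 0 := by
      rw [← hσ, ← hxs, map_mul, ha', zero_mul]
    have h2 : x ∈ nilradical R := hker x (hlam (by rw [h1, map_zero]))
    obtain ⟨n, hn⟩ := mem_nilradical.mp h2
    have h3 : (a * algebraMap R Ay s) ^ n = 0 := by
      rw [hxs, ← map_pow, hn, map_zero]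
    rw [mul_pow] at h3
    have h4 : a ^ n = 0 := by
      have hu : IsUnit ((algebraMap R Ay s) ^ n) := (hunitAy s s.2).pow n
      exact (hu.mul_left_eq_zero).mp h3
    rw [Ideal.Quotient.eq_zero_iff_mem]
    exact mem_nilradical.mpr ⟨n, h4⟩
  haveI : FaithfulSMul (CAlg2.red Ay) B := (faithfulSMul_iff_algebraMap_injective _ _).mpr hτinj
  -- integrality
  haveI : Algebra.IsIntegral (CAlg2.red Ay) B := by
    constructor
    intro b
    obtain ⟨d, m, rfl⟩ := IsLocalization.exists_mk'_eq M b
    obtain ⟨s', rfl⟩ := hπ₀ d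
    obtain ⟨t, ht, htm⟩ := m.2
    have hs' : IsIntegral R s' := Algebra.IsIntegral.isIntegral s'
    have h1 : IsIntegral (CAlg2.red Ay) ((lam.comp π₀) s') :=
      IsIntegral.map_of_comp_eq φ (lam.comp π₀) hφ hs'
    obtain ⟨u, hu⟩ := hunitAy t ht
    have h2 : lam (m : integralClosure R S ⧸ q₀') = algebraMap (CAlg2.red Ay) B
        (Ideal.Quotient.mk _ (u : Ay)) := by
      rw [halg, hτ, hu, hσ]
      exact congrArg lam htm.symm
    have h3 : IsLocalization.mk' B (π₀ s') m = (lam.comp π₀) s' *
        algebraMap (CAlg2.red Ay) B (Ideal.Quotient.mk _ ((u⁻¹ : Ayˣ) : Ay)) := by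
      rw [IsLocalization.mk'_eq_iff_eq_mul]
      change _ = _ * lam (m : integralClosure R S ⧸ q₀')
      rw [h2, mul_assoc, ← map_mul, ← map_mul, Units.inv_mul, map_one, map_one, mul_one]
      rfl
    rw [h3]
    exact h1.mul isIntegral_algebraMap
  -- the prime of `B` over `q'`
  have hkerπ₀ : RingHom.ker π₀ = q₀' := Ideal.mk_ker
  have hqbarprime : (q'.map π₀).IsPrime :=
    Ideal.map_isPrime_of_surjective hπ₀ (by rw [hkerπ₀]; exact hq₀q')
  have hqbarcomap : (q'.map π₀).comap π₀ = q' := by
    rw [Ideal.comap_map_of_surjective π₀ hπ₀, ← RingHom.ker_eq_comap_bot, hkerπ₀]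
    exact sup_eq_left.mpr hq₀q'
  have hdisj : Disjoint (M : Set (integralClosure R S ⧸ q₀')) (q'.map π₀ : Set _) := by
    rw [Set.disjoint_left]
    rintro _ ⟨t, ht, rfl⟩ hmem
    have h1 : ρ t ∈ (q'.map π₀).comap π₀ := hmem
    rw [hqbarcomap] at h1
    have h2 : ι (ρ t) ∈ q := h1
    rw [← RingHom.comp_apply, hιρ] at h2
    exact ht h2
  have hQB : ((q'.map π₀).map lam).IsPrime :=
    IsLocalization.isPrime_of_isPrime_disjoint M B _ hqbarprime hdisj
  have hQBcomap : ((q'.map π₀).map lam).comap lam = q'.map π₀ :=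
    IsLocalization.under_map_of_isPrime_disjoint M B hqbarprime hdisj
  have hQBq' : ((q'.map π₀).map lam).comap (lam.comp π₀) = q' := by
    rw [← Ideal.comap_comap, hQBcomap, hqbarcomap]
  -- its contraction to `A` is the maximal ideal
  have hQBA : ((q'.map π₀).map lam).comap (algebraMap (CAlg2.red Ay) B) =
      IsLocalRing.maximalIdeal (CAlg2.red Ay) := by
    apply le_antisymm
    · exact IsLocalRing.le_maximalIdeal (Ideal.comap_isPrime _ _).ne_top
    · intro a' ha'
      obtain ⟨a, rfl⟩ := Ideal.Quotient.mk_surjective a'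
      have ha : a ∈ IsLocalRing.maximalIdeal Ay := by
        rw [IsLocalRing.mem_maximalIdeal, mem_nonunits_iff] at ha' ⊢
        exact fun h => ha' (h.map _)
      obtain ⟨⟨x, s⟩, hxs⟩ := IsLocalization.surj p.primeCompl a
      have hx : x ∈ p := by
        rw [← IsLocalization.AtPrime.to_map_mem_maximal_iff Ay p, ← hxs]
        exact Ideal.mul_mem_right _ _ ha
      have h1 : lam (g₀ x) ∈ (q'.map π₀).map lam := by
        apply Ideal.mem_map_of_mem
        apply Ideal.mem_map_of_mem
        change ι (ρ x) ∈ q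
        rw [← RingHom.comp_apply, hιρ]
        exact hx
      rw [← hσ, ← hxs, map_mul] at h1
      have h2 : σ (algebraMap R Ay s) ∉ (q'.map π₀).map lam := fun h =>
        hQB.ne_top (Ideal.eq_top_of_isUnit_mem _ h ((hunitAy s s.2).map σ))
      have h3 := (hQB.mem_or_mem h1).resolve_right h2
      have h4 : τ (Ideal.Quotient.mk (nilradical Ay) a) ∈ (q'.map π₀).map lam := by
        rw [hτ]; exact h3
      exact h4
  -- the prime of `A` over `p₁`
  have hdisj₁ : Disjoint (p.primeCompl : Set R) (p₁ : Set R) := by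
    rw [Set.disjoint_left]
    intro x hx hx₁
    exact hx (hp₁ hx₁)
  have hp₁Ay : (p₁.map (algebraMap R Ay)).IsPrime :=
    IsLocalization.isPrime_of_isPrime_disjoint p.primeCompl Ay p₁ inferInstance hdisj₁
  have hp₁Aycomap : (p₁.map (algebraMap R Ay)).comap (algebraMap R Ay) = p₁ :=
    IsLocalization.under_map_of_isPrime_disjoint p.primeCompl Ay inferInstance hdisj₁
  have hmk : Function.Surjective (Ideal.Quotient.mk (nilradical Ay)) := Ideal.Quotient.mk_surjective
  have hkermk : RingHom.ker (Ideal.Quotient.mk (nilradical Ay)) = nilradical Ay := Ideal.mk_ker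
  have hnil₁ : nilradical Ay ≤ p₁.map (algebraMap R Ay) := nilradical_le_prime _
  haveI hP₁ : ((p₁.map (algebraMap R Ay)).map (Ideal.Quotient.mk (nilradical Ay))).IsPrime :=
    Ideal.map_isPrime_of_surjective hmk (by rw [hkermk]; exact hnil₁)
  have hP₁comap : ((p₁.map (algebraMap R Ay)).map (Ideal.Quotient.mk (nilradical Ay))).comap φ
      = p₁ := by
    rw [← Ideal.comap_comap, Ideal.comap_map_of_surjective _ hmk, ← RingHom.ker_eq_comap_bot,
      hkermk, sup_eq_left.mpr hnil₁, hp₁Aycomap]
  haveI := hQB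
  obtain ⟨Q₁, hQ₁, hQ₁le, hQ₁comap⟩ := exists_le_prime_of_isLocalRing_integralClosure
    (A := CAlg2.red Ay) (B := B) hy.2 ((q'.map π₀).map lam) hQBA
    ((p₁.map (algebraMap R Ay)).map (Ideal.Quotient.mk (nilradical Ay)))
  haveI : (Q₁.comap (lam.comp π₀)).IsPrime := Ideal.comap_isPrime _ _
  have hq₁'le : Q₁.comap (lam.comp π₀) ≤ q.comap (algebraMap (integralClosure R S) S) := by
    have := Ideal.comap_mono (f := lam.comp π₀) hQ₁le
    rw [hQBq'] at this
    exact this
  obtain ⟨q₁, hq₁, hq₁le, hq₁comap⟩ :=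
    exists_prime_of_zariskisMainProperty q H (Q₁.comap (lam.comp π₀)) hq₁'le
  refine ⟨q₁, hq₁, hq₁le, ?_⟩
  have h1 : q₁.comap (algebraMap R S) = (q₁.comap ι).comap ρ := by
    rw [Ideal.comap_comap, hιρ]
  have h2 : q₁.comap ι = Q₁.comap (lam.comp π₀) := hq₁comap
  rw [h1, h2, Ideal.comap_comap, ← hφ, ← Ideal.comap_comap, hQ₁comap, hP₁comap]

/-- Variant of `exists_le_prime_of_isUnibranch` with the contraction of `q` named. -/
theorem exists_le_prime_of_isUnibranch'
    {R S : Type u} [CommRing R] [CommRing S] [Algebra R S]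
    (q : Ideal S) [q.IsPrime] (H : Algebra.ZariskisMainProperty R q)
    (q₀ : Ideal S) [q₀.IsPrime] (hq₀ : q₀ ≤ nilradical S)
    (hdom : q₀.comap (algebraMap R S) ≤ nilradical R)
    (p : Ideal R) [p.IsPrime] (hpq : q.comap (algebraMap R S) = p)
    (Ay : Type u) [CommRing Ay] [IsLocalRing Ay] [Algebra R Ay] [IsLocalization.AtPrime Ay p]
    (hy : CAlg2.IsUnibranch Ay)
    (p₁ : Ideal R) [p₁.IsPrime] (hp₁ : p₁ ≤ p) :
    ∃ q₁ : Ideal S, q₁.IsPrime ∧ q₁ ≤ q ∧ q₁.comap (algebraMap R S) = p₁ := by
  subst hpq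
  exact exists_le_prime_of_isUnibranch q H q₀ hq₀ hdom Ay hy p₁ hp₁

end Groth.Agent.Lib.Helper61.UnibranchGoingDown
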