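import Mathlib
import Groth.Agent.Lib.Helper61.UnibranchGoingDown
import Groth.Agent.Lib.Helper69.GUPoly
import Groth.Agent.Lib.Helper69.GULoc

/-!
# Going-down at geometrically unibranch points, universally (polynomial extensions)
-/

set_option autoImplicit false

universe u

open TensorProduct

namespace Groth.Agent.Lib.Helper61.UnibranchPoly

open Groth.Agent.Lib.Helper61.UnibranchGoingDown

section domain

variable (D E : Type u) [CommRing D] [CommRing E] [Algebra D E] (σ : Type u)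

/-- The ring isomorphism `E[σ] ≃ D[σ] ⊗[D] E`. -/
noncomputable def polyEquiv : MvPolynomial σ E ≃+* MvPolynomial σ D ⊗[D] E :=
  (MvPolynomial.algebraTensorAlgEquiv (σ := σ) D E).symm.toRingEquiv.trans
    (Algebra.TensorProduct.comm D E (MvPolynomial σ D)).toRingEquiv

lemma polyEquiv_map (P : MvPolynomial σ D) :
    polyEquiv D E σ (MvPolynomial.map (algebraMap D E) P) = P ⊗ₜ[D] (1 : E) := by
  simp [polyEquiv, MvPolynomial.algebraTensorAlgEquiv_symm_map]


variable {D E σ}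

/-- **Going-down over a unibranch point for polynomial extensions, domain case.** -/
theorem exists_le_prime_map_of_isDomain [IsDomain D] [IsDomain E]
    (hinj : Function.Injective (algebraMap D E))
    [Algebra.FiniteType D E] [Algebra.QuasiFinite D E] [Finite σ]
    (𝔔 : Ideal (MvPolynomial σ E)) [𝔔.IsPrime]
    (hU : CAlg2.IsUnibranch
      (Localization.AtPrime (𝔔.comap (MvPolynomial.map (σ := σ) (algebraMap D E)))))
    (𝔓₁ : Ideal (MvPolynomial σ D)) [𝔓₁.IsPrime]
    (h𝔓₁ : 𝔓₁ ≤ 𝔔.comap (MvPolynomial.map (algebraMap D E))) :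
    ∃ 𝔔₁ : Ideal (MvPolynomial σ E), 𝔔₁.IsPrime ∧ 𝔔₁ ≤ 𝔔 ∧
      𝔔₁.comap (MvPolynomial.map (algebraMap D E)) = 𝔓₁ := by
  letI : Algebra (MvPolynomial σ D) (MvPolynomial σ E) :=
    (MvPolynomial.map (σ := σ) (algebraMap D E)).toAlgebra
  have halg : algebraMap (MvPolynomial σ D) (MvPolynomial σ E) =
      MvPolynomial.map (algebraMap D E) := rfl
  let e : MvPolynomial σ E ≃ₐ[MvPolynomial σ D] MvPolynomial σ D ⊗[D] E :=
    AlgEquiv.ofRingEquiv (f := polyEquiv D E σ) (fun P => by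
      rw [halg, polyEquiv_map, Algebra.TensorProduct.algebraMap_apply]
      rfl)
  haveI : Algebra.FiniteType (MvPolynomial σ D) (MvPolynomial σ E) :=
    Algebra.FiniteType.equiv inferInstance e.symm
  haveI : Algebra.QuasiFinite (MvPolynomial σ D) (MvPolynomial σ E) :=
    (Algebra.QuasiFinite.iff_of_algEquiv e).mpr inferInstance
  have H : Algebra.ZariskisMainProperty (MvPolynomial σ D) 𝔔 :=
    Algebra.ZariskisMainProperty.of_finiteType 𝔔
  have hmapinj : Function.Injective (MvPolynomial.map (σ := σ) (algebraMap D E)) :=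
    MvPolynomial.map_injective _ hinj
  refine exists_le_prime_of_isUnibranch' 𝔔 H ⊥ bot_le ?_
    (𝔔.comap (MvPolynomial.map (algebraMap D E))) rfl
    (Localization.AtPrime (𝔔.comap (MvPolynomial.map (σ := σ) (algebraMap D E)))) hU 𝔓₁ h𝔓₁
  intro a ha
  have : a = 0 := by
    apply hmapinj
    rw [map_zero]
    exact ha
  rw [this]
  exact Ideal.zero_mem _

end domain

section general

open Groth.Agent.Lib.Helper69

variable {R S : Type u} [CommRing R] [CommRing S] [Algebra R S] {σ : Type u}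

/-- Compatibility of `MvPolynomial.map` with `C`. -/
lemma comap_C_comap_map (𝔔 : Ideal (MvPolynomial σ S)) :
    (𝔔.comap (MvPolynomial.map (σ := σ) (algebraMap R S))).comap (MvPolynomial.C (σ := σ)) =
      (𝔔.comap (MvPolynomial.C (σ := σ))).comap (algebraMap R S) := by
  ext a
  simp only [Ideal.mem_comap, MvPolynomial.map_C]

set_option maxHeartbeats 1600000 in
/-- **Going-down over a geometrically unibranch point for polynomial extensions of a quasi-finite
algebra**: `q₀` is a prime of `S` below the contraction of `𝔔` whose contraction to `R` is a minimal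
prime. -/
theorem exists_le_prime_map
    [Algebra.FiniteType R S] [Algebra.QuasiFinite R S] [Finite σ]
    (𝔔 : Ideal (MvPolynomial σ S)) [𝔔.IsPrime]
    (q₀ : Ideal S) [q₀.IsPrime] (hq₀ : q₀ ≤ 𝔔.comap MvPolynomial.C)
    (hmin : q₀.under R ∈ minimalPrimes R)
    (pp : Ideal R) [pp.IsPrime]
    (hpp : (𝔔.comap (MvPolynomial.C (σ := σ))).comap (algebraMap R S) = pp)
    (hGU : CAlg2.IsGeomUnibranch (Localization.AtPrime pp))
    (𝔓₁ : Ideal (MvPolynomial σ R)) [𝔓₁.IsPrime]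
    (h𝔓₁ : 𝔓₁ ≤ 𝔔.comap (MvPolynomial.map (algebraMap R S))) :
    ∃ 𝔔₁ : Ideal (MvPolynomial σ S), 𝔔₁.IsPrime ∧ 𝔔₁ ≤ 𝔔 ∧
      𝔔₁.comap (MvPolynomial.map (algebraMap R S)) = 𝔓₁ := by
  classical
  subst hpp
  set p : Ideal R := (𝔔.comap (MvPolynomial.C (σ := σ))).comap (algebraMap R S) with hp
  set p₀ : Ideal R := q₀.under R with hp₀
  haveI : p₀.IsPrime := hmin.1.1
  have hp₀p : p₀ ≤ p := Ideal.comap_mono hq₀
  -- uniqueness of the minimal prime below `p`
  obtain ⟨P₀, hP₀min, hP₀p, huniq⟩ := GULoc.exists_minimalPrimes_of_isDomain_red p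
    (Localization.AtPrime p) hGU.1.1
  have hP₀ : p₀ = P₀ := huniq p₀ hmin hp₀p
  have huniq' : ∀ P ∈ minimalPrimes R, P ≤ p → P = p₀ := fun P hP hPp => (huniq P hP hPp).trans hP₀.symm
  -- the quotient domains
  let D := R ⧸ p₀
  let E := S ⧸ q₀
  let πR : R →+* D := Ideal.Quotient.mk p₀
  let πS : S →+* E := Ideal.Quotient.mk q₀
  have hinj : Function.Injective (algebraMap D E) := FaithfulSMul.algebraMap_injective D E
  haveI : Algebra.FiniteType R E := inferInstance
  haveI : Algebra.FiniteType D E := Algebra.FiniteType.of_restrictScalars_finiteType R D E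
  haveI : Algebra.QuasiFinite D E := Algebra.QuasiFinite.of_restrictScalars R D E
  let ρR : MvPolynomial σ R →+* MvPolynomial σ D := MvPolynomial.map πR
  let ρS : MvPolynomial σ S →+* MvPolynomial σ E := MvPolynomial.map πS
  have hρR : Function.Surjective ρR := MvPolynomial.map_surjective _ Ideal.Quotient.mk_surjective
  have hρS : Function.Surjective ρS := MvPolynomial.map_surjective _ Ideal.Quotient.mk_surjective
  have hcomp : (algebraMap D E).comp πR = πS.comp (algebraMap R S) := rfl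
  have hsq : ∀ P, MvPolynomial.map (algebraMap D E) (ρR P) =
      ρS (MvPolynomial.map (algebraMap R S) P) := by
    intro P
    simp only [ρR, ρS, MvPolynomial.map_map, hcomp]
  -- kernels
  have hkerS : RingHom.ker ρS = q₀.map MvPolynomial.C := by
    rw [MvPolynomial.ker_map, Ideal.mk_ker]
  have hkerR : RingHom.ker ρR = p₀.map MvPolynomial.C := by
    rw [MvPolynomial.ker_map, Ideal.mk_ker]
  have hkerS𝔔 : RingHom.ker ρS ≤ 𝔔 := by
    rw [hkerS, Ideal.map_le_iff_le_comap]; exact hq₀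
  have hp₁ : p₀ ≤ 𝔓₁.comap MvPolynomial.C := by
    haveI : (𝔓₁.comap (MvPolynomial.C (σ := σ))).IsPrime := Ideal.comap_isPrime _ _
    obtain ⟨P, hPmin, hPle⟩ :=
      Ideal.exists_minimalPrimes_le (bot_le : ⊥ ≤ 𝔓₁.comap (MvPolynomial.C (σ := σ)))
    have hPp : P ≤ p := hPle.trans (by
      rw [hp, ← comap_C_comap_map]; exact Ideal.comap_mono h𝔓₁)
    rw [← huniq' P hPmin hPp]; exact hPle
  have hkerR𝔓₁ : RingHom.ker ρR ≤ 𝔓₁ := by
    rw [hkerR, Ideal.map_le_iff_le_comap]; exact hp₁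
  -- image primes
  let 𝔔' : Ideal (MvPolynomial σ E) := 𝔔.map ρS
  haveI h𝔔'prime : 𝔔'.IsPrime := Ideal.map_isPrime_of_surjective hρS hkerS𝔔
  have h𝔔' : 𝔔'.comap ρS = 𝔔 := by
    rw [Ideal.comap_map_of_surjective ρS hρS, ← RingHom.ker_eq_comap_bot]
    exact sup_eq_left.mpr hkerS𝔔
  let 𝔓₁' : Ideal (MvPolynomial σ D) := 𝔓₁.map ρR
  haveI h𝔓₁'prime : 𝔓₁'.IsPrime := Ideal.map_isPrime_of_surjective hρR hkerR𝔓₁
  have h𝔓₁' : 𝔓₁'.comap ρR = 𝔓₁ := by
    rw [Ideal.comap_map_of_surjective ρR hρR, ← RingHom.ker_eq_comap_bot]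
    exact sup_eq_left.mpr hkerR𝔓₁
  have hle' : 𝔓₁' ≤ 𝔔'.comap (MvPolynomial.map (algebraMap D E)) := by
    rw [Ideal.map_le_iff_le_comap]
    intro P hP
    simp only [Ideal.mem_comap]
    rw [hsq]
    exact Ideal.mem_map_of_mem _ (h𝔓₁ hP)
  -- unibranch
  let 𝔓' : Ideal (MvPolynomial σ D) := 𝔔'.comap (MvPolynomial.map (algebraMap D E))
  haveI : 𝔓'.IsPrime := Ideal.comap_isPrime _ _
  let p' : Ideal D := 𝔓'.comap MvPolynomial.C
  haveI : p'.IsPrime := Ideal.comap_isPrime _ _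
  have hp' : p'.comap πR = p := by
    ext a
    simp only [p', 𝔓', Ideal.mem_comap, hp, MvPolynomial.map_C]
    have h1 : (MvPolynomial.C (algebraMap D E (πR a)) : MvPolynomial σ E) =
        ρS (MvPolynomial.C (algebraMap R S a)) := by
      simp only [ρS, MvPolynomial.map_C]; rfl
    rw [h1, ← Ideal.mem_comap, h𝔔']
  have hGU' : CAlg2.IsGeomUnibranch (Localization.AtPrime p') :=
    (GULoc.isGeomUnibranch_iff_quotient p (Localization.AtPrime p) p₀ p' hp' huniq').mp hGU
  have hGU'' : CAlg2.IsGeomUnibranch (Localization.AtPrime 𝔓') :=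
    GUPoly.isGeomUnibranch_mvPolynomial D σ 𝔓' p' rfl hGU'
  obtain ⟨𝔔₁', h1, h2, h3⟩ := exists_le_prime_map_of_isDomain hinj 𝔔' hGU''.1 𝔓₁' hle'
  refine ⟨𝔔₁'.comap ρS, Ideal.comap_isPrime _ _, ?_, ?_⟩
  · rw [← h𝔔']; exact Ideal.comap_mono h2
  · rw [← h𝔓₁', ← h3]
    ext P
    simp only [Ideal.mem_comap]
    rw [hsq]

/-- Tensor product form of `exists_le_prime_map`. -/
theorem exists_le_prime_tensor
    [Algebra.FiniteType R S] [Algebra.QuasiFinite R S] [Finite σ]
    (t : Ideal (S ⊗[R] MvPolynomial σ R)) [t.IsPrime]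
    (q : Ideal S) (hq : t.comap (Algebra.TensorProduct.includeLeftRingHom
      (R := R) (A := S) (B := MvPolynomial σ R)) = q)
    (p : Ideal R) [p.IsPrime] (hp : q.comap (algebraMap R S) = p)
    (q₀ : Ideal S) [q₀.IsPrime] (hq₀ : q₀ ≤ q)
    (hmin : q₀.under R ∈ minimalPrimes R)
    (hGU : CAlg2.IsGeomUnibranch (Localization.AtPrime p))
    (𝔓₁ : Ideal (MvPolynomial σ R)) [𝔓₁.IsPrime]
    (h𝔓₁ : 𝔓₁ ≤ t.comap (Algebra.TensorProduct.includeRight
      (R := R) (A := S) (B := MvPolynomial σ R)).toRingHom) :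
    ∃ t₁ : Ideal (S ⊗[R] MvPolynomial σ R), t₁.IsPrime ∧ t₁ ≤ t ∧
      t₁.comap (Algebra.TensorProduct.includeRight
        (R := R) (A := S) (B := MvPolynomial σ R)).toRingHom = 𝔓₁ := by
  let e : S ⊗[R] MvPolynomial σ R ≃ₐ[S] MvPolynomial σ S :=
    MvPolynomial.algebraTensorAlgEquiv (σ := σ) R S
  let 𝔔 : Ideal (MvPolynomial σ S) := t.comap (e.symm : MvPolynomial σ S →+* _)
  haveI : 𝔔.IsPrime := Ideal.comap_isPrime _ _
  have hC : ∀ s : S, e.symm (MvPolynomial.C s) = s ⊗ₜ[R] (1 : MvPolynomial σ R) := by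
    intro s
    have := e.symm.commutes s
    rw [MvPolynomial.algebraMap_eq] at this
    rw [this, Algebra.TensorProduct.algebraMap_apply]
    rfl
  have hM : ∀ P : MvPolynomial σ R, e.symm (MvPolynomial.map (algebraMap R S) P) =
      (1 : S) ⊗ₜ[R] P := fun P => MvPolynomial.algebraTensorAlgEquiv_symm_map (R := R) (A := S) P
  have h𝔔C : 𝔔.comap (MvPolynomial.C (σ := σ)) = t.comap
      (Algebra.TensorProduct.includeLeftRingHom (R := R) (A := S) (B := MvPolynomial σ R)) := by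
    ext s
    simp only [𝔔, Ideal.mem_comap]
    change e.symm (MvPolynomial.C s) ∈ t ↔ _
    rw [hC]
    rfl
  have h𝔔M : 𝔔.comap (MvPolynomial.map (σ := σ) (algebraMap R S)) = t.comap
      (Algebra.TensorProduct.includeRight (R := R) (A := S) (B := MvPolynomial σ R)).toRingHom := by
    ext P
    simp only [𝔔, Ideal.mem_comap]
    change e.symm (MvPolynomial.map (algebraMap R S) P) ∈ t ↔ _
    rw [hM]
    rfl
  obtain ⟨𝔔₁, h1, h2, h3⟩ := exists_le_prime_map 𝔔 q₀ (by rw [h𝔔C, hq]; exact hq₀) hmin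
    p (by rw [h𝔔C, hq]; exact hp) hGU 𝔓₁ (by rw [h𝔔M]; exact h𝔓₁)
  refine ⟨𝔔₁.comap (e : _ →+* MvPolynomial σ S), Ideal.comap_isPrime _ _, ?_, ?_⟩
  · intro a ha
    have h4 : e a ∈ 𝔔 := h2 ha
    simp only [𝔔, Ideal.mem_comap] at h4
    change e.symm (e a) ∈ t at h4
    rwa [AlgEquiv.symm_apply_apply] at h4
  · rw [← h3]
    ext P
    simp only [Ideal.mem_comap]
    change e ((1 : S) ⊗ₜ[R] P) ∈ 𝔔₁ ↔ _
    rw [← hM, AlgEquiv.apply_symm_apply]

end general

end Groth.Agent.Lib.Helper61.UnibranchPoly
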