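import Mathlib
import Groth.Prelude.Def_EGA43
import Groth.Agent.Lib.Helper61.UnibranchPoly
import Groth.Agent.Lib.Helper25.UnivOpenAt
import Groth.Agent.Lib.Helper69.GUTransport

/-!
# Quasi-finite morphisms over geometrically unibranch points are universally open (EGA IV 14.4.1)
-/

set_option autoImplicit false
set_option linter.style.haveILetI false

universe u

open CategoryTheory CategoryTheory.Limits AlgebraicGeometry IsLocalRing Topology TensorProduct

namespace Groth.Agent.Lib.Helper61.UnibranchUnivOpen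

open Groth.Agent.Lib.Helper25.UnivOpenAt Groth.Agent.Lib.Helper61.UnibranchPoly
open Groth.Agent.Lib.Helper69

/-- `includeRight : R[σ] → S ⊗ R[σ]` is of finite presentation when `S` is. -/
theorem finitePresentation_includeRight (R S : Type u) [CommRing R] [CommRing S] [Algebra R S]
    [Algebra.FinitePresentation R S] (σ : Type u) :
    (Algebra.TensorProduct.includeRight (R := R) (A := S)
      (B := MvPolynomial σ R)).toRingHom.FinitePresentation := by
  have h1 : (algebraMap (MvPolynomial σ R) (MvPolynomial σ R ⊗[R] S)).FinitePresentation :=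
    RingHom.finitePresentation_algebraMap.mpr inferInstance
  have h2 := RingHom.finitePresentation_respectsIso.1 _
    (Algebra.TensorProduct.comm R (MvPolynomial σ R) S).toRingEquiv h1
  convert h2 using 1
  apply RingHom.ext
  intro a
  simp [Algebra.TensorProduct.algebraMap_apply]

set_option maxHeartbeats 1600000 in
/-- **EGA IV 14.4.1**: a locally quasi-finite morphism to a locally Noetherian scheme is universally
open at every point `x` lying over a geometrically unibranch point and having a generization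
which maps to a maximal point of the target. -/
theorem isUnivOpenAt_of_isGeomUnibranch {X Y : Scheme.{u}} [IsLocallyNoetherian Y] (f : X ⟶ Y)
    [LocallyOfFiniteType f] [LocallyQuasiFinite f] (x : X)
    (hGU : CAlg2.IsGeomUnibranch (Y.presheaf.stalk (f x)))
    (x₀ : X) (hx₀ : x₀ ⤳ x) (hmax : ∀ y' : Y, y' ⤳ f x₀ → y' = f x₀) :
    EGA43.IsUnivOpenAt f x := by
  intro Y' g x' hx'
  -- affine opens
  obtain ⟨V, hV, hfxV⟩ : ∃ V : Y.Opens, IsAffineOpen V ∧ f x ∈ V := by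
    obtain ⟨_, ⟨V, hV, rfl⟩, hyV, -⟩ := Y.isBasis_affineOpens.exists_subset_of_mem_open
      (Set.mem_univ (f x)) isOpen_univ
    exact ⟨V, hV, hyV⟩
  obtain ⟨U, hU, hxU, hUV⟩ : ∃ U : X.Opens, IsAffineOpen U ∧ x ∈ U ∧ U ≤ f ⁻¹ᵁ V := by
    obtain ⟨_, ⟨U, hU, rfl⟩, hxU, hUV⟩ := X.isBasis_affineOpens.exists_subset_of_mem_open
      (show x ∈ ((f ⁻¹ᵁ V : X.Opens) : Set X) from hfxV) (f ⁻¹ᵁ V).isOpen
    exact ⟨U, hU, hxU, hUV⟩
  have hgy : g (pullback.snd f g x') ∈ V := by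
    rw [← Scheme.Hom.comp_apply, ← pullback.condition, Scheme.Hom.comp_apply]
    erw [hx']
    exact hfxV
  obtain ⟨V', hV', hyV', hV'V⟩ : ∃ V' : Y'.Opens, IsAffineOpen V' ∧ pullback.snd f g x' ∈ V' ∧
      V' ≤ g ⁻¹ᵁ V := by
    obtain ⟨_, ⟨V', hV', rfl⟩, hyV', hV'V⟩ := Y'.isBasis_affineOpens.exists_subset_of_mem_open
      (show pullback.snd f g x' ∈ ((g ⁻¹ᵁ V : Y'.Opens) : Set Y') from hgy) (g ⁻¹ᵁ V).isOpen
    exact ⟨V', hV', hyV', hV'V⟩
  letI : Algebra Γ(Y, V) Γ(X, U) := (f.appLE V U hUV).hom.toAlgebra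
  letI : Algebra Γ(Y, V) Γ(Y', V') := (g.appLE V V' hV'V).hom.toAlgebra
  have e₁ : Spec.map (CommRingCat.ofHom (algebraMap Γ(Y, V) Γ(X, U))) ≫ hV.fromSpec =
      hU.fromSpec ≫ f := IsAffineOpen.SpecMap_appLE_fromSpec f hV hU hUV
  have e₂ : Spec.map (CommRingCat.ofHom (algebraMap Γ(Y, V) Γ(Y', V'))) ≫ hV.fromSpec =
      hV'.fromSpec ≫ g := IsAffineOpen.SpecMap_appLE_fromSpec g hV hV' hV'V
  obtain ⟨j, hj, hj1, hj2, hjr⟩ := exists_openImmersion_Spec_tensor f g Γ(Y, V) Γ(X, U) Γ(Y', V')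
    hU.fromSpec hV'.fromSpec hV.fromSpec e₁ e₂
  -- `x'` lies in the affine piece
  obtain ⟨t, rfl⟩ : x' ∈ Set.range j := by
    rw [hjr]
    refine ⟨?_, ?_⟩
    · show pullback.fst f g x' ∈ Set.range hU.fromSpec
      rw [hU.range_fromSpec]
      erw [hx']
      exact hxU
    · show pullback.snd f g x' ∈ Set.range hV'.fromSpec
      rw [hV'.range_fromSpec]
      exact hyV'
  refine isOpenAt_of_isOpenEmbedding
    (h₀ := (Spec.map (CommRingCat.ofHom (Algebra.TensorProduct.includeRight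
        (R := Γ(Y, V)) (A := Γ(X, U)) (B := Γ(Y', V'))).toRingHom)).base)
    (j := j.base) (i := hV'.fromSpec.base) j.continuous hV'.fromSpec.isOpenEmbedding
    (fun a => ?_) t ?_
  · exact congr(($hj2).base a)
  set b₀ := Spec.map (CommRingCat.ofHom (Algebra.TensorProduct.includeLeftRingHom
        (R := Γ(Y, V)) (A := Γ(X, U)) (B := Γ(Y', V')))) t with hb₀def
  have hb₀ : hU.fromSpec b₀ = x := by
    have := congr(($hj1).base t)
    rw [← hx']
    exact this.symm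
  refine isOpenAt_tensor_of_mvPolynomial Γ(Y, V) Γ(X, U) Γ(Y', V') b₀ ?_ t rfl
  intro σ _ tσ htσ
  -- ring-level input
  haveI : IsNoetherianRing Γ(Y, V) := IsLocallyNoetherian.component_noetherian ⟨V, hV⟩
  haveI hFT : Algebra.FiniteType Γ(Y, V) Γ(X, U) := f.finiteType_appLE hV hU hUV
  haveI hQF : Algebra.QuasiFinite Γ(Y, V) Γ(X, U) :=
    HasRingHomProperty.appLE (P := @LocallyQuasiFinite) f inferInstance ⟨V, hV⟩ ⟨U, hU⟩ hUV
  haveI hFP : Algebra.FinitePresentation Γ(Y, V) Γ(X, U) :=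
    Algebra.FinitePresentation.of_finiteType.mp hFT
  let φ : MvPolynomial σ Γ(Y, V) →+* Γ(X, U) ⊗[Γ(Y, V)] MvPolynomial σ Γ(Y, V) :=
    (Algebra.TensorProduct.includeRight (R := Γ(Y, V)) (A := Γ(X, U))
      (B := MvPolynomial σ Γ(Y, V))).toRingHom
  haveI : LocallyOfFinitePresentation (Spec.map (CommRingCat.ofHom φ)) := by
    rw [HasRingHomProperty.Spec_iff (P := @LocallyOfFinitePresentation)]
    exact finitePresentation_includeRight Γ(Y, V) Γ(X, U) σ
  apply isOpenAt_of_generizations_lift (Spec.map (CommRingCat.ofHom φ)) tσ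
  intro y₁ hy₁
  -- the primes
  have hx₀U : x₀ ∈ U := hx₀.mem_open U.2 hxU
  have hb₀eq : b₀ = hU.primeIdealOf ⟨x, hxU⟩ := by
    apply hU.fromSpec.isOpenEmbedding.injective
    rw [hb₀, hU.fromSpec_primeIdealOf]
  have hq : tσ.asIdeal.comap (Algebra.TensorProduct.includeLeftRingHom
      (R := Γ(Y, V)) (A := Γ(X, U)) (B := MvPolynomial σ Γ(Y, V))) =
      (hU.primeIdealOf ⟨x, hxU⟩).asIdeal := by
    rw [← hb₀eq, ← htσ]
    rfl
  have hp : (hU.primeIdealOf ⟨x, hxU⟩).asIdeal.comap (algebraMap Γ(Y, V) Γ(X, U)) =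
      (hV.primeIdealOf ⟨f x, hfxV⟩).asIdeal :=
    congrArg PrimeSpectrum.asIdeal (IsAffineOpen.comap_primeIdealOf_appLE V hV U hU hUV hxU)
  have hq₀ : (hU.primeIdealOf ⟨x₀, hx₀U⟩).asIdeal ≤ (hU.primeIdealOf ⟨x, hxU⟩).asIdeal := by
    have h1 : hU.fromSpec (hU.primeIdealOf ⟨x₀, hx₀U⟩) ⤳ hU.fromSpec (hU.primeIdealOf ⟨x, hxU⟩) := by
      rw [hU.fromSpec_primeIdealOf, hU.fromSpec_primeIdealOf]
      exact hx₀
    have h2 : hU.primeIdealOf ⟨x₀, hx₀U⟩ ⤳ hU.primeIdealOf ⟨x, hxU⟩ :=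
      (hU.fromSpec.isOpenEmbedding.isInducing.specializes_iff).mp h1
    exact (PrimeSpectrum.le_iff_specializes _ _).mpr h2
  have hfx₀V : f x₀ ∈ V := hUV hx₀U
  have hunder : (hU.primeIdealOf ⟨x₀, hx₀U⟩).asIdeal.under Γ(Y, V) =
      (hV.primeIdealOf ⟨f x₀, hfx₀V⟩).asIdeal :=
    congrArg PrimeSpectrum.asIdeal (IsAffineOpen.comap_primeIdealOf_appLE V hV U hU hUV hx₀U)
  have hmin : (hU.primeIdealOf ⟨x₀, hx₀U⟩).asIdeal.under Γ(Y, V) ∈ minimalPrimes Γ(Y, V) := by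
    rw [hunder]
    refine ⟨⟨(hV.primeIdealOf ⟨f x₀, hfx₀V⟩).2, bot_le⟩, ?_⟩
    rintro P ⟨hPprime, -⟩ hPle
    let P' : PrimeSpectrum Γ(Y, V) := ⟨P, hPprime⟩
    have h1 : P' ⤳ hV.primeIdealOf ⟨f x₀, hfx₀V⟩ := (PrimeSpectrum.le_iff_specializes _ _).mp hPle
    have h2 : hV.fromSpec P' ⤳ f x₀ := by
      have := h1.map hV.fromSpec.continuous
      rwa [hV.fromSpec_primeIdealOf] at this
    have h3 : hV.fromSpec P' = f x₀ := hmax _ h2
    have h4 : P' = hV.primeIdealOf ⟨f x₀, hfx₀V⟩ := by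
      apply hV.fromSpec.isOpenEmbedding.injective
      rw [h3, hV.fromSpec_primeIdealOf]
    rw [← h4]
  -- geometric unibranchness of the localization
  have hGUp : CAlg2.IsGeomUnibranch
      (Localization.AtPrime (hV.primeIdealOf ⟨f x, hfxV⟩).asIdeal) := by
    letI : Algebra Γ(Y, V) (Y.presheaf.stalk (f x)) :=
      TopCat.Presheaf.algebra_section_stalk Y.presheaf ⟨f x, hfxV⟩
    haveI := hV.isLocalization_stalk ⟨f x, hfxV⟩
    exact GUTransport.isGeomUnibranch_of_ringEquiv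
      (IsLocalization.algEquiv (hV.primeIdealOf ⟨f x, hfxV⟩).asIdeal.primeCompl
        (Y.presheaf.stalk (f x))
        (Localization.AtPrime (hV.primeIdealOf ⟨f x, hfxV⟩).asIdeal)).toRingEquiv hGU
  have h𝔓₁ : y₁.asIdeal ≤ tσ.asIdeal.comap φ := (PrimeSpectrum.le_iff_specializes _ _).mpr hy₁
  haveI : y₁.asIdeal.IsPrime := y₁.2
  haveI : tσ.asIdeal.IsPrime := tσ.2
  obtain ⟨t₁, ht₁prime, ht₁le, ht₁comap⟩ := exists_le_prime_tensor tσ.asIdeal
    (hU.primeIdealOf ⟨x, hxU⟩).asIdeal hq (hV.primeIdealOf ⟨f x, hfxV⟩).asIdeal hp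
    (hU.primeIdealOf ⟨x₀, hx₀U⟩).asIdeal hq₀ hmin hGUp y₁.asIdeal h𝔓₁
  refine ⟨⟨t₁, ht₁prime⟩, (PrimeSpectrum.le_iff_specializes _ _).mp ht₁le, ?_⟩
  exact PrimeSpectrum.ext ht₁comap

end Groth.Agent.Lib.Helper61.UnibranchUnivOpen
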