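import Groth.Agent.Lib.Helper22.QCohLoc
import Groth.Agent.Lib.QCoh.AffineOpen

/-!
# Sections of quasi-coherent modules over basic opens are localizations (helper61)
-/

set_option autoImplicit false
universe u

namespace Groth.Agent.Lib.Helper61.QCohSections

open AlgebraicGeometry CategoryTheory Opposite TopologicalSpace

variable {X : Scheme.{u}} (F : X.Modules)

/-- `Γ(X, U)`-module structure on `Γ(F, U')` for `U' ≤ U` via restriction of functions. -/
@[reducible] noncomputable def resModule {U U' : X.Opens} (h : U' ≤ U) : Module Γ(X, U) Γ(F, U') :=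
  Module.compHom Γ(F, U') (X.presheaf.map (homOfLE h).op).hom

/-- `Γ(X, U)`-algebra structure on `Γ(X, U')` for `U' ≤ U`. -/
@[reducible] noncomputable def resAlgebra {U U' : X.Opens} (h : U' ≤ U) : Algebra Γ(X, U) Γ(X, U') :=
  (X.presheaf.map (homOfLE h).op).hom.toAlgebra

theorem resModule_smul {U U' : X.Opens} (h : U' ≤ U) (r : Γ(X, U)) (x : Γ(F, U')) :
    letI := resModule F h
    r • x = X.presheaf.map (homOfLE h).op r • x := rfl

theorem isScalarTower_res {U U' : X.Opens} (h : U' ≤ U) :
    letI := resModule F h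
    letI := resAlgebra (X := X) h
    IsScalarTower Γ(X, U) Γ(X, U') Γ(F, U') := by
  letI := resModule F h
  letI := resAlgebra (X := X) h
  refine ⟨fun r a x => ?_⟩
  show (X.presheaf.map (homOfLE h).op r * a) • x = X.presheaf.map (homOfLE h).op r • (a • x)
  rw [mul_smul]

/-- The restriction map as a `Γ(X, U)`-linear map. -/
noncomputable def resLinear {U U' : X.Opens} (h : U' ≤ U) :
    letI := resModule F h
    Γ(F, U) →ₗ[Γ(X, U)] Γ(F, U') :=
  letI := resModule F h
  { toFun := F.presheaf.map (homOfLE h).op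
    map_add' := map_add _
    map_smul' := fun r x => F.map_smul (homOfLE h) r x }

theorem resLinear_apply {U U' : X.Opens} (h : U' ≤ U) (x : Γ(F, U)) :
    resLinear F h x = F.presheaf.map (homOfLE h).op x := rfl

open Groth.Agent.Lib.Helper22 in
/-- For quasi-coherent `F`, affine `U` and `g ∈ Γ(X, U)`: `Γ(F, D(g))` is the localization of
`Γ(F, U)` at `g`. -/
theorem isLocalizedModule_res_basicOpen [F.IsQuasicoherent] {U : X.Opens} (hU : IsAffineOpen U)
    (g : Γ(X, U)) :
    letI := resModule F (X.basicOpen_le g)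
    IsLocalizedModule (Submonoid.powers g) (resLinear F (X.basicOpen_le g)) := by
  letI := resModule F (X.basicOpen_le g)
  have hunit : IsUnit (X.presheaf.map (homOfLE (X.basicOpen_le g)).op g) :=
    RingedSpace.isUnit_res_basicOpen _ g
  refine ⟨?_, ?_, ?_⟩
  · rintro ⟨_, n, rfl⟩
    rw [Module.End.isUnit_iff]
    obtain ⟨u, hu⟩ := hunit.pow n
    constructor
    · intro x y hxy
      have h1 : (↑u⁻¹ : Γ(X, X.basicOpen g)) • ((u : Γ(X, X.basicOpen g)) • x) =
          (↑u⁻¹ : Γ(X, X.basicOpen g)) • ((u : Γ(X, X.basicOpen g)) • y) := by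
        congr 1
        simp only [Module.algebraMap_end_apply] at hxy
        rw [hu, ← map_pow]
        exact hxy
      rwa [smul_smul, smul_smul, Units.inv_mul, one_smul, one_smul] at h1
    · intro y
      refine ⟨(↑u⁻¹ : Γ(X, X.basicOpen g)) • y, ?_⟩
      simp only [Module.algebraMap_end_apply]
      show X.presheaf.map (homOfLE (X.basicOpen_le g)).op (g ^ n) • _ = y
      rw [map_pow, ← hu, smul_smul, Units.mul_inv, one_smul]
  · intro y
    obtain ⟨n, x, hx⟩ := exists_pow_smul_eq_map_of_isAffineOpen F hU g y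
    refine ⟨⟨x, ⟨g ^ n, n, rfl⟩⟩, ?_⟩
    show X.presheaf.map (homOfLE (X.basicOpen_le g)).op (g ^ n) • y = _
    rw [map_pow, resLinear_apply, hx]
  · intro x₁ x₂ h
    have h0 : F.presheaf.map (homOfLE (X.basicOpen_le g)).op (x₁ - x₂) = 0 := by
      rw [map_sub, sub_eq_zero]
      exact h
    obtain ⟨n, hn⟩ := exists_pow_smul_eq_zero_of_isAffineOpen F hU g (x₁ - x₂) h0
    refine ⟨⟨g ^ n, n, rfl⟩, ?_⟩
    rw [smul_sub, sub_eq_zero] at hn
    exact hn

/-- Version for an arbitrary open equal to a basic open. -/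
theorem isLocalizedModule_res [F.IsQuasicoherent] {U U' : X.Opens} (hU : IsAffineOpen U)
    (g : Γ(X, U)) (h : U' ≤ U) (e : U' = X.basicOpen g) :
    letI := resModule F h
    IsLocalizedModule (Submonoid.powers g) (resLinear F h) := by
  subst e
  exact isLocalizedModule_res_basicOpen F hU g

end Groth.Agent.Lib.Helper61.QCohSections
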