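import Groth.Agent.Lib.QCoh.AffineOpen
import Groth.Agent.Lib.QCoh.Helper50_ExtendScalars

/-!
# Sections of a pullback over an affine open lying over an affine open (helper61)

For `f : X ⟶ Y`, `G` quasi-coherent on `Y`, affine opens `U ⊆ X`, `V ⊆ Y` with `U ≤ f⁻¹ V`:
`Γ(f^* G, U) ≃ₗ[Γ(X, U)] Γ(X, U) ⊗[Γ(Y, V)] Γ(G, V)`.
-/

set_option autoImplicit false
universe u

namespace Groth.Agent.Lib.Helper61.QCohPullback

open AlgebraicGeometry CategoryTheory Opposite TopologicalSpace TensorProduct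
open Groth.Agent.Lib.QCoh

variable {X Y : Scheme.{u}} (f : X ⟶ Y) (G : Y.Modules) [G.IsQuasicoherent]
  {U : X.Opens} {V : Y.Opens} (hU : IsAffineOpen U) (hV : IsAffineOpen V) (e : U ≤ f ⁻¹ᵁ V)

/-- The global sections of `G|_V` on `Spec Γ(Y, V)` as a `Γ(Y, V)`-module. -/
noncomputable abbrev sectionsModule : ModuleCat.{u} Γ(Y, V) :=
  moduleSpecΓFunctor.obj (restrictSpec hV G)

/-- Sheaf-level: `(f^* G)|_U` on `Spec Γ(X, U)` is the tilde of the extension of scalars. -/
noncomputable def restrictSpecPullbackIso :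
    restrictSpec hU ((Scheme.Modules.pullback f).obj G) ≅
      tilde ((ModuleCat.extendScalars (f.appLE V U e).hom).obj (sectionsModule G hV)) :=
  haveI : IsIso (restrictSpec hV G).fromTildeΓ :=
    Scheme.Modules.isIso_fromTildeΓ_of_isQuasicoherent _
  (Scheme.Modules.restrictFunctorIsoPullback hU.fromSpec).app _ ≪≫
    (Scheme.Modules.pullbackComp hU.fromSpec f).app G ≪≫
    (Scheme.Modules.pullbackCongr (IsAffineOpen.SpecMap_appLE_fromSpec f hV hU e).symm).app G ≪≫
    ((Scheme.Modules.pullbackComp (Spec.map (f.appLE V U e)) hV.fromSpec).app G).symm ≪≫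
    (Scheme.Modules.pullback (Spec.map (f.appLE V U e))).mapIso
      ((Scheme.Modules.restrictFunctorIsoPullback hV.fromSpec).app G).symm ≪≫
    (Scheme.Modules.pullback (Spec.map (f.appLE V U e))).mapIso
      (asIso (restrictSpec hV G).fromTildeΓ).symm ≪≫
    pullbackTildeIso (f.appLE V U e) (sectionsModule G hV)

/-- Global sections of `(f^* G)|_U` as a module: extension of scalars of the sections of `G|_V`. -/
noncomputable def ΓrestrictSpecPullbackIso :
    moduleSpecΓFunctor.obj (restrictSpec hU ((Scheme.Modules.pullback f).obj G)) ≅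
      (ModuleCat.extendScalars (f.appLE V U e).hom).obj (sectionsModule G hV) :=
  moduleSpecΓFunctor.mapIso (restrictSpecPullbackIso f G hU hV e) ≪≫
    (tilde.toTildeΓNatIso.app _).symm

/-- **Sections of a pullback on affines**:
`Γ(f^* G, U) ≃ₗ[Γ(X, U)] Γ(X, U) ⊗[Γ(Y, V)] Γ(G, V)`. -/
noncomputable def sectionsPullbackEquiv :
    letI := (f.appLE V U e).hom.toAlgebra
    Γ((Scheme.Modules.pullback f).obj G, U) ≃ₗ[Γ(X, U)] Γ(X, U) ⊗[Γ(Y, V)] Γ(G, V) :=
  letI := (f.appLE V U e).hom.toAlgebra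
  (ΓrestrictSpecLinearEquiv hU ((Scheme.Modules.pullback f).obj G)).symm ≪≫ₗ
    (ΓrestrictSpecPullbackIso f G hU hV e).toLinearEquiv ≪≫ₗ
    (extendScalarsIso Γ(Y, V) Γ(X, U) Γ(restrictSpec hV G, ⊤)).toLinearEquiv ≪≫ₗ
    LinearEquiv.baseChange Γ(Y, V) Γ(X, U) _ _ (ΓrestrictSpecLinearEquiv hV G)

end Groth.Agent.Lib.Helper61.QCohPullback
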