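import Groth.Agent.Lib.Helper61.BiratQFScheme
import Mathlib.AlgebraicGeometry.Morphisms.QuasiFinite
import Mathlib.AlgebraicGeometry.Morphisms.Separated
import Mathlib.AlgebraicGeometry.IdealSheaf.Functorial
import Mathlib.AlgebraicGeometry.Morphisms.ClosedImmersion

/-!
# Morphisms with a dominant rational section (helper61)

`exists_opens_isOpenImmersion_of_section`: if `p : Γ ⟶ W` is locally of finite type between
integral schemes and admits a dominant section `g` over a nonempty open `U' ⊆ W`, then `p` is an
open immersion near every point `z` at which `p` is quasi-finite and `O_{W, p z}` is normal.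
-/

set_option autoImplicit false
set_option linter.style.haveILetI false
universe u
open AlgebraicGeometry CategoryTheory Limits TopologicalSpace

namespace Groth.Agent.Lib.Helper61.GraphClosure

theorem isField_stalk_of_eq_genericPoint {Γ : Scheme.{u}} [IsIntegral Γ] (y : Γ)
    (hy : y = genericPoint Γ) : IsField (Γ.presheaf.stalk y) := by
  subst hy
  exact Field.toIsField (Γ.functionField)

/-- a dominant morphism of irreducible schemes maps the generic point to the generic point -/
theorem map_genericPoint_of_isDominant {X Y : Scheme.{u}} [IrreducibleSpace X] [IrreducibleSpace Y]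
    (g : X ⟶ Y) [IsDominant g] : g (genericPoint X) = genericPoint Y := by
  apply ((genericPoint_spec Y).eq _).symm
  have h := (genericPoint_spec X).image g.continuous
  rwa [Set.image_univ, g.denseRange.closure_range] at h

theorem isIso_stalkMap_genericPoint_of_section {W Γ U' : Scheme.{u}} [IsIntegral W] [IsIntegral Γ]
    [Nonempty U'] (p : Γ ⟶ W) (g : U' ⟶ Γ) [IsOpenImmersion (g ≫ p)] [IsDominant g] :
    IsIso (p.stalkMap (genericPoint Γ)) := by
  haveI : IsIntegral U' := isIntegral_of_isOpenImmersion (g ≫ p)
  set η := genericPoint U' with hη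
  have hgη : g η = genericPoint Γ := map_genericPoint_of_isDominant g
  have hF : IsField (Γ.presheaf.stalk (g η)) := isField_stalk_of_eq_genericPoint _ hgη
  have hiso : IsIso (p.stalkMap (g η) ≫ g.stalkMap η) := by
    have h1 : IsIso ((g ≫ p).stalkMap η) := inferInstance
    rwa [Scheme.Hom.stalkMap_comp] at h1
  have hbij : Function.Bijective (p.stalkMap (g η) ≫ g.stalkMap η).hom :=
    ConcreteCategory.bijective_of_isIso _
  have hsurj : Function.Surjective (g.stalkMap η).hom := by
    have := hbij.2
    rw [CommRingCat.hom_comp, RingHom.coe_comp] at this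
    exact Function.Surjective.of_comp this
  have hinj : Function.Injective (g.stalkMap η).hom := by
    rw [injective_iff_map_eq_zero]
    intro a ha
    by_contra hne
    obtain ⟨b, hb⟩ := hF.mul_inv_cancel hne
    have h1 : (g.stalkMap η).hom (a * b) = 1 := by rw [hb, map_one]
    rw [map_mul, ha, zero_mul] at h1
    exact zero_ne_one h1
  haveI : IsIso (g.stalkMap η) :=
    (ConcreteCategory.isIso_iff_bijective _).mpr ⟨hinj, hsurj⟩
  have : IsIso (p.stalkMap (g η)) := IsIso.of_isIso_comp_right _ (g.stalkMap η)
  exact hgη ▸ this

/-- **(C0)** a morphism locally of finite type between integral schemes with a dominant section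
over a nonempty open is an open immersion near each point where it is quasi-finite and the target
local ring is integrally closed. -/
theorem exists_opens_isOpenImmersion_of_section {W Γ U' : Scheme.{u}} [IsIntegral W] [IsIntegral Γ]
    [Nonempty U'] (p : Γ ⟶ W) [LocallyOfFiniteType p] (g : U' ⟶ Γ) [IsOpenImmersion (g ≫ p)]
    [IsDominant g] (z : Γ) (hq : p.QuasiFiniteAt z)
    (hN : IsIntegrallyClosed (W.presheaf.stalk (p z))) :
    ∃ V₁ : Γ.Opens, z ∈ V₁ ∧ IsOpenImmersion (V₁.ι ≫ p) :=
  BiratQF.exists_opens_isOpenImmersion p (isIso_stalkMap_genericPoint_of_section p g) z hq hN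

/-- A morphism from a reduced scheme whose image lies in the image of a closed immersion factors
through it. (copied from helper25's `ClosureProper`) -/
theorem exists_factor_of_isReduced {X Y Z : Scheme.{u}} [IsReduced X] (f : X ⟶ Y) (j : Z ⟶ Y)
    [IsClosedImmersion j] (h : Set.range f ⊆ Set.range j) : ∃ g : X ⟶ Z, g ≫ j = f := by
  have h1 : f.ker = Scheme.IdealSheafData.vanishingIdeal
      (.closure (f '' (⊤ : TopologicalSpace.Closeds X))) := by
    rw [← Scheme.IdealSheafData.map_vanishingIdeal, Scheme.IdealSheafData.vanishingIdeal_top,
      Scheme.nilradical_eq_bot, Scheme.IdealSheafData.map_bot]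
  have h2 : j.ker ≤ f.ker := by
    rw [h1]
    refine (Scheme.IdealSheafData.le_radical (I := j.ker)).trans ?_
    rw [← Scheme.IdealSheafData.vanishingIdeal_support]
    apply Scheme.IdealSheafData.vanishingIdeal_antimono
    rw [← SetLike.coe_subset_coe, Scheme.Hom.support_ker]
    simp only [TopologicalSpace.Closeds.coe_closure, TopologicalSpace.Closeds.coe_top,
      Set.image_univ]
    exact closure_mono h
  exact ⟨IsClosedImmersion.lift j f h2, IsClosedImmersion.lift_fac j f h2⟩

/-- The reduced induced subscheme on a closed subset is reduced. -/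
theorem isReduced_vanishingIdeal_subscheme {X : Scheme.{u}} (W : TopologicalSpace.Closeds X) :
    IsReduced (Scheme.IdealSheafData.vanishingIdeal W).subscheme := by
  have : ∀ U, IsReduced ((Scheme.IdealSheafData.vanishingIdeal W).subschemeCover.openCover.X U) := by
    intro (U : X.affineOpens)
    change IsReduced (Spec (.of <| Γ(X, U.1) ⧸ (Scheme.IdealSheafData.vanishingIdeal W).ideal U))
    have : _root_.IsReduced (Γ(X, U.1) ⧸ (Scheme.IdealSheafData.vanishingIdeal W).ideal U) := by
      rw [← Ideal.isRadical_iff_quotient_reduced, Scheme.IdealSheafData.vanishingIdeal_ideal]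
      exact PrimeSpectrum.isRadical_vanishingIdeal _
    infer_instance
  exact IsReduced.of_openCover _ (Scheme.IdealSheafData.vanishingIdeal W).subschemeCover.openCover

theorem range_subschemeι_vanishingIdeal {X : Scheme.{u}} (W : TopologicalSpace.Closeds X) :
    Set.range (Scheme.IdealSheafData.vanishingIdeal W).subschemeι = (W : Set X) := by
  rw [Scheme.IdealSheafData.range_subschemeι, Scheme.IdealSheafData.coe_support_vanishingIdeal]

end Groth.Agent.Lib.Helper61.GraphClosure
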