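import Mathlib
import Groth.Agent.S0414
import Groth.Agent.Lib.Helper70.FibreReduced

/-!
# The generic fibre is dense over a nonempty open (helper61)

For `f : X ⟶ Y` of finite type with `Y` irreducible, there is a nonempty open `V ⊆ Y` such that
every point of `f⁻¹ V` is a specialization of a point of the generic fibre.
Proof: generic flatness over `Y_red` + flat ⇒ generalizing.
-/

set_option autoImplicit false
universe u

open AlgebraicGeometry CategoryTheory Limits

namespace Groth.Agent.Lib.Helper61.GenericFibreDense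

/-- Over a nonempty open of an irreducible base, every point of a finite type scheme is a
specialization of a point in the generic fibre. -/
theorem exists_opens_forall_exists_specializes {X Y : Scheme.{u}} (f : X ⟶ Y)
    [IrreducibleSpace ↑Y] [LocallyOfFiniteType f] [QuasiCompact f] :
    ∃ V : Y.Opens, (V : Set ↑Y).Nonempty ∧ ∀ x : X, f x ∈ V →
      ∃ x₀ : X, f x₀ = genericPoint ↑Y ∧ x₀ ⤳ x := by
  let Y' : Scheme.{u} := Y.nilradical.subscheme
  let i : Y' ⟶ Y := Y.nilradical.subschemeι
  have hrange : Set.range i = Set.univ := by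
    rw [Scheme.IdealSheafData.range_subschemeι]
    rfl
  have hsurj : Function.Surjective i := Set.range_eq_univ.mp hrange
  have hemb : Topology.IsClosedEmbedding i := i.isClosedEmbedding
  have hopen : IsOpenMap i :=
    (isHomeomorph_iff_isEmbedding_surjective.mpr ⟨hemb.isEmbedding, hsurj⟩).isOpenMap
  haveI : IsReduced Y' := Groth.Agent.Lib.Helper70.FibreReduced.isReduced_nilradical_subscheme Y
  let f' : pullback f i ⟶ Y' := pullback.snd f i
  let p : pullback f i ⟶ X := pullback.fst f i
  haveI : Surjective i := ⟨hsurj⟩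
  have hp : Function.Surjective p := (inferInstance : Surjective (pullback.fst f i)).surj
  obtain ⟨U', hU'dense, hU'flat, -⟩ := Groth.Agent.S0414.result f'
  refine ⟨⟨i '' (U' : Set Y'), hopen _ U'.2⟩, ?_, ?_⟩
  · obtain ⟨η', hη'⟩ := hsurj (genericPoint Y)
    haveI : Nonempty Y' := ⟨η'⟩
    obtain ⟨y', hy'⟩ := hU'dense.nonempty
    exact ⟨i y', y', hy', rfl⟩
  · intro x hx
    obtain ⟨y', hy'U, hy'⟩ := hx
    obtain ⟨x', rfl⟩ := hp x
    have hcomm : ∀ z, i (f' z) = f (p z) := by
      intro z
      have := congrArg (fun g : pullback f i ⟶ Y => g z) (pullback.condition (f := f) (g := i))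
      simpa [f', p] using this.symm
    have hy'eq : y' = f' x' := hemb.injective (hy'.trans (hcomm x').symm)
    obtain ⟨η', hη'⟩ := hsurj (genericPoint Y)
    have hspec : η' ⤳ f' x' := by
      rw [← hemb.isInducing.specializes_iff, hη']
      exact genericPoint_specializes _
    have hfx'U : f' x' ∈ U' := hy'eq ▸ hy'U
    have hη'U : η' ∈ U' := hspec.mem_open U'.2 hfx'U
    have hgen : GeneralizingMap (f' ∣_ U') := Flat.generalizingMap _
    let a : ↥(f' ⁻¹ᵁ U') := ⟨x', hfx'U⟩
    let b : ↥U' := ⟨η', hη'U⟩
    have hval : ∀ z : ↥(f' ⁻¹ᵁ U'), ((f' ∣_ U') z).1 = f' z.1 := fun z =>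
      morphismRestrict_base_coe f' U' z
    have hba : b ⤳ (f' ∣_ U') a := by
      have hind : Topology.IsInducing (Subtype.val : ↥U' → Y') := Topology.IsInducing.subtypeVal
      refine hind.specializes_iff.mp ?_
      rw [hval]
      exact hspec
    obtain ⟨a₀, ha₀, ha₀b⟩ := hgen hba
    refine ⟨p a₀.1, ?_, ?_⟩
    · rw [← hcomm, ← hval a₀, ha₀b, hη']
    · have hind : Topology.IsInducing (Subtype.val : ↥(f' ⁻¹ᵁ U') → ↥(pullback f i)) :=
        Topology.IsInducing.subtypeVal
      have h1 : a₀.1 ⤳ x' := hind.specializes_iff.mpr ha₀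
      exact h1.map p.continuous

end Groth.Agent.Lib.Helper61.GenericFibreDense
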