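import Mathlib

/-!
# Birational morphisms: behaviour over generic points (helper61)
-/

universe u

open CategoryTheory CategoryTheory.Limits TopologicalSpace Topology AlgebraicGeometry

namespace Groth.Agent.Lib.Helper61.BiratGeneric

/-- Every point of a quasi-sober space is a specialization of the generic point of an
irreducible component. -/
lemma exists_generic_specializes {X : Type*} [TopologicalSpace X] [QuasiSober X] (x' : X) :
    ∃ x'' : X, closure {x''} ∈ irreducibleComponents X ∧ x'' ⤳ x' := by
  obtain ⟨x'', hx''⟩ := QuasiSober.sober (isIrreducible_irreducibleComponent (x := x'))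
    isClosed_irreducibleComponent
  refine ⟨x'', ?_, ?_⟩
  · rw [hx''.def]
    exact irreducibleComponent_mem_irreducibleComponents x'
  · rw [specializes_iff_mem_closure, hx''.def]
    exact mem_irreducibleComponent

/-- A point whose closure is an irreducible component has no proper generizations. -/
lemma eq_of_specializes_of_mem_irreducibleComponents {X : Type*} [TopologicalSpace X] [T0Space X]
    {y y' : X} (hy : closure {y} ∈ irreducibleComponents X) (h : y' ⤳ y) : y' = y := by
  refine (h.antisymm ?_).eq
  rw [specializes_iff_mem_closure]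
  have h1 : closure {y} ⊆ closure {y'} := by
    rw [specializes_iff_closure_subset] at h
    exact h
  have := hy.2 (isIrreducible_singleton.closure (s := {y'})) h1
  exact this (subset_closure rfl)

lemma stalkSpecializes_bijective_of_eq {X : Scheme.{u}} {a b : X} (h : a ⤳ b) (hab : a = b) :
    Function.Bijective (X.presheaf.stalkSpecializes h) := by
  subst hab
  have : X.presheaf.stalkSpecializes h = 𝟙 _ := by
    simp
  rw [this]
  exact Function.bijective_id

/-- If `x ⤳ x'`, `f x = f x'` and the stalk map at `x` is surjective then `x = x'`. -/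
lemma eq_of_specializes_of_stalkMap_surjective {X Y : Scheme.{u}} (f : X ⟶ Y) {x x' : X}
    (h : x ⤳ x') (hf : f x = f x') (hs : Function.Surjective (f.stalkMap x)) : x = x' := by
  set sp := X.presheaf.stalkSpecializes h with hsp
  have key : ∀ a ∈ IsLocalRing.maximalIdeal (X.presheaf.stalk x'),
      sp a ∈ IsLocalRing.maximalIdeal (X.presheaf.stalk x) := by
    intro a ha
    obtain ⟨b, hb⟩ := hs (sp a)
    obtain ⟨b', rfl⟩ := (stalkSpecializes_bijective_of_eq
      (f.base.hom.map_specializes h) hf).2 b
    have e := Scheme.Hom.stalkSpecializes_stalkMap_apply f x x' h b'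
    rw [hb] at e
    -- sp a = sp (f.stalkMap x' b')
    have hmem : f.stalkMap x' b' ∈ IsLocalRing.maximalIdeal (X.presheaf.stalk x') := by
      have hker : a - f.stalkMap x' b' ∈ RingHom.ker sp.hom := by
        rw [RingHom.mem_ker, map_sub, sub_eq_zero]
        exact e
      have hle : RingHom.ker sp.hom ≤ IsLocalRing.maximalIdeal (X.presheaf.stalk x') :=
        IsLocalRing.le_maximalIdeal (RingHom.ker_ne_top _)
      have := hle hker
      have h2 := Ideal.sub_mem _ ha this
      simpa using h2
    have hb'mem : b' ∈ IsLocalRing.maximalIdeal (Y.presheaf.stalk (f x')) := by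
      by_contra hb'
      have hu : IsUnit b' := by
        simpa [IsLocalRing.mem_maximalIdeal, mem_nonunits_iff] using hb'
      have := hu.map (f.stalkMap x').hom
      exact hmem this
    rw [← hb, IsLocalRing.mem_maximalIdeal, mem_nonunits_iff]
    intro hu
    rw [IsLocalRing.mem_maximalIdeal, mem_nonunits_iff] at hb'mem
    have hu' : IsUnit (Y.presheaf.stalkSpecializes (f.base.hom.map_specializes h) b') :=
      isUnit_of_map_unit (f.stalkMap x).hom _ hu
    have hbij := stalkSpecializes_bijective_of_eq (f.base.hom.map_specializes h) hf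
    let e := RingEquiv.ofBijective
      (Y.presheaf.stalkSpecializes (f.base.hom.map_specializes h)).hom hbij
    exact hb'mem ((isUnit_map_iff e b').mp hu')
  have hcl : (Spec.map sp) (IsLocalRing.closedPoint (X.presheaf.stalk x)) =
      IsLocalRing.closedPoint (X.presheaf.stalk x') := by
    apply PrimeSpectrum.ext
    refine ((IsLocalRing.maximalIdeal.isMaximal _).eq_of_le ?_ ?_).symm
    · exact (PrimeSpectrum.isPrime _).ne_top
    · intro a ha
      exact key a ha
  have h1 := Scheme.SpecMap_stalkSpecializes_fromSpecStalk (X := X) h
  have h2 : X.fromSpecStalk x (IsLocalRing.closedPoint _) = x := Scheme.fromSpecStalk_closedPoint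
  have h3 : X.fromSpecStalk x' ((Spec.map sp)
      (show Spec (X.presheaf.stalk x) from IsLocalRing.closedPoint _)) =
      X.fromSpecStalk x (show Spec (X.presheaf.stalk x) from IsLocalRing.closedPoint _) :=
    (Scheme.Hom.comp_apply _ _ _).symm.trans
      (congrArg (fun g : Spec (X.presheaf.stalk x) ⟶ X =>
        g (show Spec (X.presheaf.stalk x) from IsLocalRing.closedPoint _)) h1)
  rw [h2] at h3
  rw [← h3]
  refine Eq.trans (congrArg (X.fromSpecStalk x') hcl) ?_
  exact Scheme.fromSpecStalk_closedPoint

/-- For a birational-type morphism, the fibre over a generic point of `Y` is a single point. -/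
lemma eq_of_apply_eq_generic {X Y : Scheme.{u}} (f : X ⟶ Y)
    (hinj : Set.InjOn (fun x : X => f.base x) {x : X | closure {x} ∈ irreducibleComponents ↥X})
    (hiso : ∀ x : X, closure {x} ∈ irreducibleComponents ↥X → IsIso (f.stalkMap x))
    (x : X) (hx : closure {x} ∈ irreducibleComponents ↥X)
    (hy : closure {f x} ∈ irreducibleComponents ↥Y) (x' : X) (hx' : f x' = f x) : x' = x := by
  obtain ⟨x'', hx'', hsp⟩ := exists_generic_specializes x'
  have h1 : f x'' ⤳ f x' := hsp.map f.continuous
  rw [hx'] at h1
  have e : f x'' = f x := eq_of_specializes_of_mem_irreducibleComponents hy h1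
  have : x'' = x := hinj hx'' hx e
  subst this
  have := hiso x'' hx
  exact (eq_of_specializes_of_stalkMap_surjective f hsp hx'.symm
    (ConcreteCategory.bijective_of_isIso (f.stalkMap x'')).2).symm

/-- Stacks 0BAB: for a birational morphism, the base change to the local ring of a generic point
of `Y` is an isomorphism. -/
theorem isIso_snd_fromSpecStalk {X Y : Scheme.{u}} (f : X ⟶ Y)
    (hinj : Set.InjOn (fun x : X => f.base x) {x : X | closure {x} ∈ irreducibleComponents ↥X})
    (hiso : ∀ x : X, closure {x} ∈ irreducibleComponents ↥X → IsIso (f.stalkMap x))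
    (x : X) (hx : closure {x} ∈ irreducibleComponents ↥X)
    (hy : closure {f x} ∈ irreducibleComponents ↥Y) :
    IsIso (pullback.snd f (Y.fromSpecStalk (f x))) := by
  set j := Y.fromSpecStalk (f x) with hj
  have hfst : ∀ p : ↥(pullback f j), (pullback.fst f j) p = x := by
    intro p
    have h1 : f ((pullback.fst f j) p) = j ((pullback.snd f j) p) := by
      rw [← Scheme.Hom.comp_apply, pullback.condition, Scheme.Hom.comp_apply]
    have h2 : j ((pullback.snd f j) p) ⤳ f x := by
      have := Set.mem_range_self (f := j) ((pullback.snd f j) p)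
      have h := Scheme.range_fromSpecStalk (X := Y) (x := f x)
      rw [h] at this
      exact this
    have h3 := eq_of_specializes_of_mem_irreducibleComponents hy h2
    exact eq_of_apply_eq_generic f hinj hiso x hx hy _ (h1.trans h3)
  have hsub : Subsingleton ↥(pullback f j) :=
    ⟨fun p q => (pullback.fst f j).isEmbedding.injective ((hfst p).trans (hfst q).symm)⟩
  have hsurj : ∀ p : ↥(pullback f j), Function.Surjective ((pullback.snd f j).stalkMap p) := by
    intro p
    have hi : IsIso (f.stalkMap ((pullback.fst f j) p)) :=
      hiso _ (by rw [hfst p]; exact hx)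
    have h1 : Function.Surjective ((pullback.fst f j ≫ f).stalkMap p) := by
      rw [Scheme.Hom.stalkMap_comp]
      exact ((pullback.fst f j).stalkMap_surjective p).comp
        (ConcreteCategory.bijective_of_isIso (f.stalkMap ((pullback.fst f j) p))).2
    have h2 := Scheme.Hom.stalkMap_congr_hom _ _ (pullback.condition (f := f) (g := j)) p
    rw [h2] at h1
    have h3 : Function.Surjective ((pullback.snd f j ≫ j).stalkMap p) :=
      Function.Surjective.of_comp h1
    rw [Scheme.Hom.stalkMap_comp] at h3
    exact Function.Surjective.of_comp h3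
  have hpre : IsPreimmersion (pullback.snd f j) :=
    { stalkMap_surjective := hsurj
      isEmbedding := Topology.IsEmbedding.of_subsingleton _ }
  have hi := hiso x hx
  let s : Spec (Y.presheaf.stalk (f x)) ⟶ pullback f j :=
    pullback.lift (Spec.map (inv (f.stalkMap x)) ≫ X.fromSpecStalk x) (𝟙 _) (by
      rw [Category.assoc, ← Scheme.SpecMap_stalkMap_fromSpecStalk, ← Spec.map_comp_assoc,
        IsIso.hom_inv_id, Spec.map_id, Category.id_comp])
  have hsplit : IsSplitEpi (pullback.snd f j) := IsSplitEpi.mk' ⟨s, pullback.lift_snd _ _ _⟩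
  exact isIso_of_mono_of_isSplitEpi _

end Groth.Agent.Lib.Helper61.BiratGeneric
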