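import Groth.Agent.Lib.Helper61.BiratQF
import Mathlib.AlgebraicGeometry.ZariskisMainTheorem
import Mathlib.AlgebraicGeometry.FunctionField
import Mathlib.AlgebraicGeometry.Morphisms.LocalIso

/-!
# Birational quasi-finite morphisms to a normal point are local isomorphisms (helper61)
-/

set_option autoImplicit false
set_option linter.style.haveILetI false
universe u
open AlgebraicGeometry CategoryTheory Limits

namespace Groth.Agent.Lib.Helper61.BiratQF

variable {X Y : Scheme.{u}}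

theorem mem_primeIdealOf_iff {U : X.Opens} (hU : IsAffineOpen U) (x : U) (s : Γ(X, U)) :
    s ∈ (hU.primeIdealOf x).asIdeal ↔ (x : X) ∉ X.basicOpen s := by
  rw [hU.primeIdealOf_eq_map_closedPoint]
  change (X.presheaf.germ U x x.2).hom s ∈ IsLocalRing.maximalIdeal _ ↔ _
  rw [IsLocalRing.mem_maximalIdeal, mem_nonunits_iff, Scheme.mem_basicOpen X s x.1 x.2]

theorem germ_appLE (f : X ⟶ Y) (U : Y.Opens) (V : X.Opens) (e : V ≤ f ⁻¹ᵁ U) (x : X)
    (hx : x ∈ V) (hfx : f x ∈ U) (a : Γ(Y, U)) :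
    X.presheaf.germ V x hx (f.appLE U V e a) =
      f.stalkMap x (Y.presheaf.germ U (f x) hfx a) := by
  have h1 := Scheme.Hom.germ_stalkMap_apply f U x hfx a
  rw [h1, Scheme.Hom.appLE]
  simp only [CommRingCat.comp_apply]
  exact TopCat.Presheaf.germ_res_apply X.presheaf (homOfLE e) x hx _


section Birational

variable [IsIntegral X] [IsIntegral Y] (f : X ⟶ Y)
  (hbir : IsIso (f.stalkMap (genericPoint X)))

include hbir

theorem appLE_injective_of_birational (U : Y.Opens) (V : X.Opens) (e : V ≤ f ⁻¹ᵁ U)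
    [hV : Nonempty V] : Function.Injective (f.appLE U V e) := by
  have hη : genericPoint X ∈ V :=
    ((genericPoint_spec X).mem_open_set_iff V.isOpen).mpr (by simpa using hV)
  have hfη : f (genericPoint X) ∈ U := e hη
  have hst : Function.Injective (f.stalkMap (genericPoint X)) :=
    ((ConcreteCategory.isIso_iff_bijective _).mp hbir).1
  intro a a' h
  have h1 := congrArg (X.presheaf.germ V (genericPoint X) hη) h
  rw [germ_appLE f U V e _ hη hfη, germ_appLE f U V e _ hη hfη] at h1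
  exact germ_injective_of_isIntegral Y _ hfη (hst h1)

theorem exists_mul_eq_of_birational {U : Y.Opens} (hU : IsAffineOpen U) (V : X.Opens)
    (e : V ≤ f ⁻¹ᵁ U) [hV : Nonempty V] (b : Γ(X, V)) :
    ∃ a : Γ(Y, U), a ≠ 0 ∧ ∃ a' : Γ(Y, U), f.appLE U V e a * b = f.appLE U V e a' := by
  have hη : genericPoint X ∈ V :=
    ((genericPoint_spec X).mem_open_set_iff V.isOpen).mpr (by simpa using hV)
  have hfη : f (genericPoint X) ∈ U := e hη
  have hst : Function.Surjective (f.stalkMap (genericPoint X)) :=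
    ((ConcreteCategory.isIso_iff_bijective _).mp hbir).2
  obtain ⟨c, hc⟩ := hst (X.presheaf.germ V (genericPoint X) hη b)
  letI := Y.presheaf.algebra_section_stalk ⟨f (genericPoint X), hfη⟩
  haveI := hU.isLocalization_stalk ⟨f (genericPoint X), hfη⟩
  obtain ⟨⟨a', a⟩, hca⟩ := IsLocalization.surj
    (hU.primeIdealOf ⟨f (genericPoint X), hfη⟩).asIdeal.primeCompl c
  have hca' : c * Y.presheaf.germ U (f (genericPoint X)) hfη a.1 =
      Y.presheaf.germ U (f (genericPoint X)) hfη a' := hca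
  refine ⟨a.1, fun h0 => a.2 (h0 ▸ Ideal.zero_mem _), a', ?_⟩
  apply germ_injective_of_isIntegral X _ hη
  rw [map_mul, germ_appLE f U V e _ hη hfη, germ_appLE f U V e _ hη hfη, ← hc, ← hca', map_mul,
    mul_comm]

end Birational


/-- **Lemma L**: a birational morphism locally of finite type between integral schemes which is
quasi-finite at `x`, with `O_{Y, f x}` integrally closed, is an open immersion near `x`. -/
theorem exists_opens_isOpenImmersion [IsIntegral X] [IsIntegral Y] (f : X ⟶ Y)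
    [LocallyOfFiniteType f] (hbir : IsIso (f.stalkMap (genericPoint X)))
    (x : X) (hq : f.QuasiFiniteAt x) (hN : IsIntegrallyClosed (Y.presheaf.stalk (f x))) :
    ∃ V : X.Opens, x ∈ V ∧ IsOpenImmersion (V.ι ≫ f) := by
  classical
  obtain ⟨_, ⟨U, hU, rfl⟩, hxU, -⟩ := Y.isBasis_affineOpens.exists_subset_of_mem_open
    (Set.mem_univ (f x)) isOpen_univ
  obtain ⟨_, ⟨V, hV, rfl⟩, hxV, hUV : V ≤ f ⁻¹ᵁ U⟩ :=
    X.isBasis_affineOpens.exists_subset_of_mem_open hxU (f ⁻¹ᵁ U).2
  haveI : Nonempty V := ⟨⟨x, hxV⟩⟩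
  haveI : Nonempty U := ⟨⟨f x, hxU⟩⟩
  have hft : (f.appLE U V hUV).hom.FiniteType := f.finiteType_appLE hU hV hUV
  have hqf := hq.quasiFiniteAt hV hU hUV hxV
  have hcomap := IsAffineOpen.comap_primeIdealOf_appLE U hU V hV hUV hxV
  letI alg : Algebra Γ(Y, U) Γ(X, V) := (f.appLE U V hUV).hom.toAlgebra
  haveI : Algebra.FiniteType Γ(Y, U) Γ(X, V) := hft
  have hqp : (hV.primeIdealOf ⟨x, hxV⟩).asIdeal.LiesOver
      (hU.primeIdealOf ⟨f x, hxU⟩).asIdeal := ⟨by rw [← hcomap]; rfl⟩
  haveI : Algebra.QuasiFiniteAt Γ(Y, U) (hV.primeIdealOf ⟨x, hxV⟩).asIdeal := hqf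
  letI := Y.presheaf.algebra_section_stalk ⟨f x, hxU⟩
  haveI := hU.isLocalization_stalk ⟨f x, hxU⟩
  obtain ⟨s, hsp, hs⟩ := exists_away (A := Γ(Y, U)) (B := Γ(X, V))
    (appLE_injective_of_birational f hbir U V hUV)
    (fun b => exists_mul_eq_of_birational f hbir hU V hUV b)
    (hV.primeIdealOf ⟨x, hxV⟩).asIdeal (hU.primeIdealOf ⟨f x, hxU⟩).asIdeal
    (Y.presheaf.stalk (f x))
  set t : Γ(X, V) := f.appLE U V hUV s with ht
  have hU' : IsAffineOpen (Y.basicOpen s) := hU.basicOpen s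
  have hV' : IsAffineOpen (X.basicOpen t) := hV.basicOpen t
  have e' : X.basicOpen t ≤ f ⁻¹ᵁ Y.basicOpen s := by simp [ht, Scheme.Hom.appLE]
  have hxV' : x ∈ X.basicOpen t := by
    by_contra hcon
    have h1 := (mem_primeIdealOf_iff hV ⟨x, hxV⟩ t).mpr hcon
    apply hsp
    rw [← hcomap]
    exact h1
  refine ⟨X.basicOpen t, hxV', ?_⟩
  have hbij : Function.Bijective (f.appLE (Y.basicOpen s) (X.basicOpen t) e').hom := by
    have h1 := hU.appLE_eq_away_map f hV hUV s
    haveI := hU.isLocalization_basicOpen s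
    haveI := hV.isLocalization_basicOpen (f.appLE U V hUV s)
    have h2 : (f.appLE (Y.basicOpen s) (X.basicOpen t) e').hom =
        IsLocalization.Away.map Γ(Y, Y.basicOpen s) Γ(X, X.basicOpen t)
          (f.appLE U V hUV).hom s := congrArg CommRingCat.Hom.hom h1
    rw [h2]
    refine bijective_of_away (f.appLE U V hUV).hom s _ ?_
      (appLE_injective_of_birational f hbir U V hUV) hs
    intro a
    exact IsLocalization.map_eq _ a
  haveI : IsIso (Spec.map (f.appLE (Y.basicOpen s) (X.basicOpen t) e')) :=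
    isIso_SpecMap_iff.mpr hbij
  have hfac : (X.basicOpen t).ι ≫ f = hV'.isoSpec.hom ≫
      Spec.map (f.appLE (Y.basicOpen s) (X.basicOpen t) e') ≫ hU'.fromSpec := by
    rw [IsAffineOpen.SpecMap_appLE_fromSpec f hU' hV' e', ← Category.assoc,
      ← hV'.isoSpec_inv_ι, Iso.hom_inv_id_assoc]
  rw [hfac]
  infer_instance

/-- **Lemma M**: for a separated morphism from an integral scheme, an open `V` on which `f` is an
open immersion is the full preimage of its image, so `f` is an isomorphism over the image. -/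
theorem isIso_morphismRestrict_opensRange [IsIntegral X] (f : X ⟶ Y) [IsSeparated f]
    (V : X.Opens) [hVne : Nonempty V] [hVf : IsOpenImmersion (V.ι ≫ f)] :
    IsIso (f ∣_ (V.ι ≫ f).opensRange) := by
  classical
  set W : Y.Opens := (V.ι ≫ f).opensRange with hW
  let s : (W : Scheme.{u}) ⟶ X := (V.ι ≫ f).isoOpensRange.inv ≫ V.ι
  have hsf : s ≫ f = W.ι := by
    simp only [s, Category.assoc]
    exact Scheme.Hom.isoOpensRange_inv_comp (V.ι ≫ f)
  have hrange : Set.range s ⊆ Set.range (f ⁻¹ᵁ W).ι := by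
    rintro _ ⟨w, rfl⟩
    rw [Scheme.Opens.range_ι]
    show f (s w) ∈ W
    rw [← Scheme.Hom.comp_apply, hsf]
    exact w.2
  let s' : (W : Scheme.{u}) ⟶ (f ⁻¹ᵁ W : Scheme.{u}) := IsOpenImmersion.lift (f ⁻¹ᵁ W).ι s hrange
  have hs' : s' ≫ (f ⁻¹ᵁ W).ι = s := IsOpenImmersion.lift_fac _ _ _
  have hsec : s' ≫ (f ∣_ W) = 𝟙 _ := by
    rw [← cancel_mono W.ι, Category.assoc, morphismRestrict_ι, ← Category.assoc, hs', hsf,
      Category.id_comp]
  haveI : IsClosedImmersion (s' ≫ (f ∣_ W)) := by rw [hsec]; infer_instance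
  haveI : IsClosedImmersion s' := IsClosedImmersion.of_comp s' (f ∣_ W)
  haveI : IsOpenImmersion s := by dsimp only [s]; infer_instance
  haveI : IsOpenImmersion (s' ≫ (f ⁻¹ᵁ W).ι) := by rw [hs']; infer_instance
  haveI : IsOpenImmersion s' := IsOpenImmersion.of_comp s' (f ⁻¹ᵁ W).ι
  haveI hne : Nonempty (f ⁻¹ᵁ W : X.Opens) := by
    obtain ⟨v⟩ := hVne
    exact ⟨⟨v.1, ⟨v, rfl⟩⟩⟩
  haveI : IsIntegral (f ⁻¹ᵁ W : Scheme.{u}) := inferInstance
  haveI : Surjective s' := by
    constructor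
    have hclopen : IsClopen (Set.range s') :=
      ⟨s'.isClosedEmbedding.isClosed_range, s'.isOpenEmbedding.isOpen_range⟩
    have hne' : (Set.range s').Nonempty := by
      obtain ⟨v⟩ := hVne
      exact ⟨s' ⟨(V.ι ≫ f) v, ⟨v, rfl⟩⟩, ⟨_, rfl⟩⟩
    have := hclopen.eq_univ hne'
    exact Set.range_eq_univ.mp this
  haveI : IsIso s' := isIso_of_isClosedImmersion_of_surjective s'
  have : IsIso (s' ≫ (f ∣_ W)) := by rw [hsec]; infer_instance
  exact IsIso.of_isIso_comp_left s' (f ∣_ W)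

/-- **Lemma N**: a separated local isomorphism from an integral scheme is an open immersion. -/
theorem isOpenImmersion_of_isLocalIso_of_isSeparated [IsIntegral X] (f : X ⟶ Y) [IsSeparated f]
    [hloc : IsLocalIso f] : IsOpenImmersion f := by
  classical
  have hinj : Function.Injective f := by
    intro x₁ x₂ h
    obtain ⟨V, hxV, hV⟩ := hloc.exists_isOpenImmersion x₁
    haveI : Nonempty V := ⟨⟨x₁, hxV⟩⟩
    haveI := hV
    have hiso := isIso_morphismRestrict_opensRange f V
    set W : Y.Opens := (V.ι ≫ f).opensRange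
    have h1 : f x₁ ∈ W := ⟨⟨x₁, hxV⟩, rfl⟩
    have h2 : f x₂ ∈ W := h ▸ h1
    let y₁ : ((f ⁻¹ᵁ W : X.Opens) : Scheme.{u}) := ⟨x₁, h1⟩
    let y₂ : ((f ⁻¹ᵁ W : X.Opens) : Scheme.{u}) := ⟨x₂, h2⟩
    have hbij : Function.Injective (f ∣_ W) :=
      ((TopCat.homeoOfIso (asIso (f ∣_ W).base)).injective)
    have h3 : (f ∣_ W) y₁ = (f ∣_ W) y₂ := by
      apply Subtype.ext
      exact (morphismRestrict_base_coe f W y₁).trans (h.trans (morphismRestrict_base_coe f W y₂).symm)
    exact congrArg Subtype.val (hbij h3)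
  haveI : MorphismProperty.ContainsIdentities @UniversallyOpen.{u} :=
    (inferInstance : MorphismProperty.IsMultiplicative @UniversallyOpen.{u}).toContainsIdentities
  haveI : UniversallyOpen f :=
    IsLocalIso.le_of_isZariskiLocalAtSource @UniversallyOpen _ _ _ hloc
  have hemb : Topology.IsOpenEmbedding f :=
    Topology.IsOpenEmbedding.of_continuous_injective_isOpenMap f.continuous hinj f.isOpenMap
  haveI : ∀ x, IsIso (f.stalkMap x) := by
    intro x
    obtain ⟨V, hxV, hV⟩ := hloc.exists_isOpenImmersion x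
    haveI := hV
    let x' : (V : Scheme.{u}) := ⟨x, hxV⟩
    have h1 : IsIso ((V.ι ≫ f).stalkMap x') := inferInstance
    rw [Scheme.Hom.stalkMap_comp] at h1
    exact @IsIso.of_isIso_comp_right _ _ _ _ _ (f.stalkMap (V.ι x')) (V.ι.stalkMap x')
      inferInstance h1
  exact IsOpenImmersion.of_isIso_stalkMap f hemb

end Groth.Agent.Lib.Helper61.BiratQF
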