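import Mathlib

/-!
# Spreading out a birational isomorphism at a generic point: ring level (helper61)

Stacks 0BAC ring-level core.
-/

universe u

open scoped Pointwise

namespace Groth.Agent.Lib.Helper61.BiratSpread

section Ring

variable {B A : Type*} [CommRing B] [CommRing A] (φ : B →+* A)
  (q : Ideal B) [q.IsPrime] (p : Ideal A) [p.IsPrime] (hpq : q = p.comap φ)

include hpq in
/-- If `p` is the only prime of `A` whose contraction is contained in `q`, then every `c ∉ p`
divides the image of some `u ∉ q`. -/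
theorem exists_dvd_map_of_unique
    (huniq : ∀ p' : Ideal A, p'.IsPrime → p'.comap φ ≤ q → p' = p) (c : A) (hc : c ∉ p) :
    ∃ u, u ∉ q ∧ c ∣ φ u := by
  by_contra hcon
  push Not at hcon
  let M : Submonoid A := q.primeCompl.map φ
  have hdis : Disjoint ((Ideal.span {c} : Ideal A) : Set A) (M : Set A) := by
    rw [Set.disjoint_left]
    rintro a ha ⟨u, hu, rfl⟩
    exact hcon u hu (Ideal.mem_span_singleton.mp ha)
  obtain ⟨p', hp', hle, hdis'⟩ := Ideal.exists_le_prime_disjoint (Ideal.span {c}) M hdis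
  have h1 : p'.comap φ ≤ q := by
    intro b hb
    by_contra hbq
    exact Set.disjoint_left.mp hdis' hb ⟨b, hbq, rfl⟩
  have := huniq p' hp' h1
  subst this
  exact hc (hle (Ideal.subset_span rfl))

variable (H : Function.Bijective (Localization.localRingHom q p φ hpq))
  (huniq : ∀ p' : Ideal A, p'.IsPrime → p'.comap φ ≤ q → p' = p)

include H huniq in
theorem exists_map_mul_eq (a : A) : ∃ w, w ∉ q ∧ ∃ b, φ w * a = φ b := by
  obtain ⟨z, hz⟩ := H.2 (algebraMap A (Localization.AtPrime p) a)
  obtain ⟨⟨b, t⟩, hbt⟩ := IsLocalization.surj q.primeCompl z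
  simp only at hbt
  have h1 := congrArg (Localization.localRingHom q p φ hpq) hbt
  rw [map_mul, hz, Localization.localRingHom_to_map, Localization.localRingHom_to_map,
    ← map_mul] at h1
  obtain ⟨c, hc⟩ := (IsLocalization.eq_iff_exists p.primeCompl _).mp h1
  obtain ⟨u, hu, e, he⟩ := exists_dvd_map_of_unique φ q p hpq huniq c.1 c.2
  refine ⟨u * t.1, ?_, u * b, ?_⟩
  · exact (Ideal.IsPrime.mul_mem_iff_mem_or_mem ‹q.IsPrime›).not.mpr (by
      push Not; exact ⟨hu, t.2⟩)
  · rw [map_mul, map_mul, he]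
    calc c.1 * e * φ t.1 * a = e * (c.1 * (a * φ t.1)) := by ring
      _ = e * (c.1 * φ b) := by rw [hc]
      _ = c.1 * e * φ b := by ring

include H in
theorem exists_mul_eq_zero_of_map (b : B) (hb : ∃ c, c ∉ p ∧ c * φ b = 0) :
    ∃ s, s ∉ q ∧ s * b = 0 := by
  obtain ⟨c, hc, hcb⟩ := hb
  have h1 : algebraMap A (Localization.AtPrime p) (φ b) = 0 :=
    (IsLocalization.map_eq_zero_iff p.primeCompl _ _).mpr ⟨⟨c, hc⟩, hcb⟩
  rw [← Localization.localRingHom_to_map q p φ hpq] at h1
  have h2 : algebraMap B (Localization.AtPrime q) b = 0 := H.1 (by rw [h1, map_zero])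
  obtain ⟨s, hs⟩ := (IsLocalization.map_eq_zero_iff q.primeCompl _ _).mp h2
  exact ⟨s.1, s.2, hs⟩

include H huniq in
/-- A common denominator for finitely many elements. -/
theorem exists_common_map_mul_eq {ι : Type*} [Fintype ι] (x : ι → A) :
    ∃ g, g ∉ q ∧ ∀ i, ∃ c, φ g * x i = φ c := by
  classical
  choose w hw b hb using fun i => exists_map_mul_eq φ q p hpq H huniq (x i)
  refine ⟨∏ i, w i, ?_, fun i => ⟨(∏ j ∈ Finset.univ.erase i, w j) * b i, ?_⟩⟩
  · have : (∏ i, w i) ∈ q.primeCompl := prod_mem fun i _ => hw i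
    exact this
  · rw [← Finset.mul_prod_erase Finset.univ w (Finset.mem_univ i), map_mul, map_mul, ← hb i]
    ring

/-- Surjectivity after inverting `g`, for generators `x i` with `φ g * x i ∈ range φ`. -/
theorem exists_pow_mul_eq_of_surjective {n : ℕ}
    (π : MvPolynomial (Fin n) B →+* A) (hπC : ∀ b, π (MvPolynomial.C b) = φ b)
    (hπ : Function.Surjective π) (g : B)
    (hg : ∀ i, ∃ c, φ g * π (MvPolynomial.X i) = φ c) (a : A) :
    ∃ (k : ℕ) (b : B), φ g ^ k * a = φ b := by
  obtain ⟨P, rfl⟩ := hπ a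
  induction P using MvPolynomial.induction_on with
  | C b => exact ⟨0, b, by rw [pow_zero, one_mul, hπC]⟩
  | add P Q hP hQ =>
    obtain ⟨k₁, b₁, h₁⟩ := hP
    obtain ⟨k₂, b₂, h₂⟩ := hQ
    refine ⟨k₁ + k₂, g ^ k₂ * b₁ + g ^ k₁ * b₂, ?_⟩
    rw [map_add, map_add, map_mul, map_mul, map_pow, map_pow, ← h₁, ← h₂, pow_add]
    ring
  | mul_X P i hP =>
    obtain ⟨k, b, h⟩ := hP
    obtain ⟨c, hc⟩ := hg i
    refine ⟨k + 1, b * c, ?_⟩
    rw [map_mul, map_mul, ← h, ← hc, pow_succ]
    ring

include H huniq in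
/-- **Ring-level spreading out** (Stacks 0BAC). -/
theorem exists_away (hft : φ.FiniteType)
    (hcase : (∀ b : B, (∃ s, s ∉ q ∧ s * b = 0) → b = 0) ∨ φ.FinitePresentation) :
    ∃ g, g ∉ q ∧ (∀ a : A, ∃ (k : ℕ) (b : B), φ g ^ k * a = φ b) ∧
      (∀ b : B, (∃ k : ℕ, φ g ^ k * φ b = 0) → ∃ m : ℕ, g ^ m * b = 0) := by
  classical
  have hnotmem : ∀ g, g ∉ q → ∀ k : ℕ, φ g ^ k ∉ p := by
    intro g hg k hk
    have := ‹p.IsPrime›.mem_of_pow_mem k hk
    rw [hpq] at hg
    exact hg this
  rcases hcase with hred | hfp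
  · -- reduced case
    algebraize [φ]
    obtain ⟨n, π, hπ⟩ := Algebra.FiniteType.iff_quotient_mvPolynomial''.mp hft
    obtain ⟨g, hg, hgx⟩ := exists_common_map_mul_eq φ q p hpq H huniq
      (fun i => π (MvPolynomial.X i))
    refine ⟨g, hg, ?_, ?_⟩
    · exact exists_pow_mul_eq_of_surjective φ π.toRingHom
        (fun b => by simpa [RingHom.algebraMap_toAlgebra] using π.commutes b) hπ g hgx
    · rintro b ⟨k, hk⟩
      have := hred b (exists_mul_eq_zero_of_map φ q p hpq H b ⟨φ g ^ k, hnotmem g hg k, hk⟩)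
      exact ⟨0, by rw [this, mul_zero]⟩
  · -- finitely presented case
    algebraize [φ]
    obtain ⟨n, π, hπ, K, hK⟩ := hfp.out
    have hπC : ∀ b, π.toRingHom (MvPolynomial.C b) = φ b := fun b => by
      simpa [RingHom.algebraMap_toAlgebra] using π.commutes b
    obtain ⟨g₀, hg₀, hgx⟩ := exists_common_map_mul_eq φ q p hpq H huniq
      (fun i => π (MvPolynomial.X i))
    choose c hc using hgx
    -- the intermediate localization
    let B₀ := Localization.Away g₀
    have hg₀u : IsUnit (algebraMap B B₀ g₀) := IsLocalization.Away.algebraMap_isUnit g₀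
    let ev₀ : MvPolynomial (Fin n) B →+* B₀ :=
      MvPolynomial.eval₂Hom (algebraMap B B₀)
        (fun i => IsLocalization.mk' B₀ (c i) (⟨g₀, 1, pow_one g₀⟩ : Submonoid.powers g₀))
    have hev₀X : ∀ i, ev₀ (MvPolynomial.X i) * algebraMap B B₀ g₀ = algebraMap B B₀ (c i) := by
      intro i
      simp only [ev₀, MvPolynomial.coe_eval₂Hom, MvPolynomial.eval₂_X]
      exact IsLocalization.mk'_spec B₀ (c i) (⟨g₀, 1, pow_one g₀⟩ : Submonoid.powers g₀)
    have hev₀C : ∀ b, ev₀ (MvPolynomial.C b) = algebraMap B B₀ b := by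
      intro b
      simp [ev₀]
    have hgq : IsUnit (algebraMap B (Localization.AtPrime q) g₀) :=
      IsLocalization.map_units (Localization.AtPrime q) (⟨g₀, hg₀⟩ : q.primeCompl)
    let lam : B₀ →+* Localization.AtPrime q := IsLocalization.Away.lift g₀ hgq
    have hlam : ∀ b, lam (algebraMap B B₀ b) = algebraMap B (Localization.AtPrime q) b :=
      fun b => IsLocalization.Away.lift_eq g₀ hgq b
    -- compatibility with `π`
    have hcompat : (Localization.localRingHom q p φ hpq).comp (lam.comp ev₀) =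
        (algebraMap A (Localization.AtPrime p)).comp π.toRingHom := by
      apply MvPolynomial.ringHom_ext
      · intro b
        simp only [RingHom.comp_apply, hev₀C, hlam, Localization.localRingHom_to_map, hπC]
      · intro i
        simp only [RingHom.comp_apply]
        have hu : IsUnit (algebraMap A (Localization.AtPrime p) (φ g₀)) :=
          IsLocalization.map_units (Localization.AtPrime p)
            (⟨φ g₀, by simpa using hnotmem g₀ hg₀ 1⟩ : p.primeCompl)
        apply hu.mul_left_injective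
        simp only
        rw [← Localization.localRingHom_to_map q p φ hpq, ← hlam, ← map_mul, ← map_mul,
          hev₀X, hlam, Localization.localRingHom_to_map, hlam, Localization.localRingHom_to_map,
          ← map_mul]
        congr 1
        have := hc i
        rw [mul_comm] at this
        exact this.symm
    -- each relation dies in `B_q`
    have hK0 : ∀ h ∈ K, lam (ev₀ h) = 0 := by
      intro h hh
      apply H.1
      have := congrArg (fun ψ => ψ h) hcompat
      simp only [RingHom.comp_apply] at this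
      rw [this, map_zero]
      have hker : h ∈ RingHom.ker π.toRingHom := hK ▸ Ideal.subset_span hh
      rw [RingHom.mem_ker.mp hker, map_zero]
    -- kernel of `lam`
    have hlamker : ∀ z : B₀, lam z = 0 → ∃ v, v ∉ q ∧ algebraMap B B₀ v * z = 0 := by
      intro z hz
      obtain ⟨⟨d, ⟨_, k, rfl⟩⟩, hd⟩ := IsLocalization.surj (Submonoid.powers g₀) z
      simp only at hd
      have h1 : algebraMap B (Localization.AtPrime q) d = 0 := by
        rw [← hlam, ← hd, map_mul, hz, zero_mul]
      obtain ⟨v, hv⟩ := (IsLocalization.map_eq_zero_iff q.primeCompl _ _).mp h1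
      refine ⟨v.1, v.2, ?_⟩
      have hu : IsUnit (algebraMap B B₀ (g₀ ^ k)) := by
        rw [map_pow]; exact hg₀u.pow k
      apply hu.mul_left_injective
      simp only
      rw [mul_assoc, hd, ← map_mul, hv, map_zero, zero_mul]
    choose! v hv hvz using fun h (hh : h ∈ K) => hlamker (ev₀ h) (hK0 h hh)
    let vv : B := ∏ h ∈ K, v h
    have hvv : vv ∉ q := by
      have : vv ∈ q.primeCompl := prod_mem fun h hh => hv h hh
      exact this
    have hvvK : ∀ r ∈ Ideal.span (K : Set (MvPolynomial (Fin n) B)),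
        algebraMap B B₀ vv * ev₀ r = 0 := by
      intro r hr
      induction hr using Submodule.span_induction with
      | mem h hh =>
        have : vv = (∏ h' ∈ K.erase h, v h') * v h := (Finset.prod_erase_mul K v hh).symm
        rw [this, map_mul, mul_assoc, hvz h hh, mul_zero]
      | zero => simp
      | add r₁ r₂ _ _ h₁ h₂ => rw [map_add, mul_add, h₁, h₂, add_zero]
      | smul a r _ h₁ => rw [smul_eq_mul, map_mul, mul_left_comm, h₁, mul_zero]
    refine ⟨g₀ * vv, ?_, ?_, ?_⟩
    · exact (Ideal.IsPrime.mul_mem_iff_mem_or_mem ‹q.IsPrime›).not.mpr (by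
        push Not; exact ⟨hg₀, hvv⟩)
    · refine exists_pow_mul_eq_of_surjective φ π.toRingHom hπC hπ (g₀ * vv) ?_
      intro i
      refine ⟨vv * c i, ?_⟩
      have := hc i
      simp only [AlgHom.toRingHom_eq_coe, RingHom.coe_coe]
      rw [map_mul, map_mul, ← this]
      ring
    · rintro b ⟨k, hk⟩
      have hmem : (MvPolynomial.C ((g₀ * vv) ^ k * b) : MvPolynomial (Fin n) B) ∈
          RingHom.ker π.toRingHom := by
        rw [RingHom.mem_ker, hπC, map_mul, map_pow]
        exact hk
      rw [← hK] at hmem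
      have h1 := hvvK _ hmem
      rw [hev₀C, ← map_mul] at h1
      obtain ⟨⟨_, m, rfl⟩, hm⟩ := (IsLocalization.map_eq_zero_iff (Submonoid.powers g₀) _ _).mp h1
      simp only at hm
      refine ⟨m + 1 + k, ?_⟩
      calc (g₀ * vv) ^ (m + 1 + k) * b
          = (g₀ * vv ^ m) * (g₀ ^ m * (vv * ((g₀ * vv) ^ k * b))) := by ring
        _ = 0 := by rw [hm, mul_zero]

end Ring

end Groth.Agent.Lib.Helper61.BiratSpread
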