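import Mathlib
import Groth.Agent.Lib.Helper61.BiratGeneric
import Groth.Agent.Lib.Helper61.BiratSpread
import Groth.Agent.Lib.Helper61.BiratQFScheme

/-!
# Spreading out a birational isomorphism at a generic point: scheme level (helper61)
-/

universe u

open CategoryTheory CategoryTheory.Limits TopologicalSpace Topology AlgebraicGeometry

namespace Groth.Agent.Lib.Helper61.BiratSpreadScheme

open Groth.Agent.Lib.Helper61.BiratGeneric Groth.Agent.Lib.Helper61.BiratSpread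
open Groth.Agent.Lib.Helper61.BiratQF

/-- The induced map on localizations away from `s` is bijective (weak injectivity version). -/
theorem bijective_of_away' {A B As Bs : Type*} [CommRing A] [CommRing B] [CommRing As]
    [CommRing Bs] [Algebra A As] [Algebra B Bs] (φ : A →+* B) (s : A)
    [IsLocalization.Away s As] [IsLocalization.Away (φ s) Bs]
    (ψ : As →+* Bs) (hψ : ∀ a, ψ (algebraMap A As a) = algebraMap B Bs (φ a))
    (hinj : ∀ a : A, (∃ k : ℕ, φ s ^ k * φ a = 0) → ∃ m : ℕ, s ^ m * a = 0)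
    (hsurj : ∀ b : B, ∃ (n : ℕ) (a : A), φ s ^ n * b = φ a) :
    Function.Bijective ψ := by
  have hus : ∀ n : ℕ, IsUnit (algebraMap A As (s ^ n)) := fun n =>
    IsLocalization.map_units As (⟨s ^ n, n, rfl⟩ : Submonoid.powers s)
  have hut : ∀ n : ℕ, IsUnit (algebraMap B Bs (φ s ^ n)) := fun n =>
    IsLocalization.map_units Bs (⟨φ s ^ n, n, rfl⟩ : Submonoid.powers (φ s))
  constructor
  · rw [injective_iff_map_eq_zero]
    intro z hz
    obtain ⟨⟨a, ⟨_, n, rfl⟩⟩, h⟩ := IsLocalization.surj (Submonoid.powers s) z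
    simp only at h
    have h1 : algebraMap B Bs (φ a) = 0 := by
      rw [← hψ, ← h, map_mul, hz, zero_mul]
    obtain ⟨⟨_, m, rfl⟩, hm⟩ := (IsLocalization.map_eq_zero_iff (Submonoid.powers (φ s)) Bs _).mp h1
    simp only at hm
    obtain ⟨m', hm'⟩ := hinj a ⟨m, hm⟩
    have h3 : algebraMap A As a = 0 := by
      have := congrArg (algebraMap A As) hm'
      rw [map_mul, map_zero] at this
      exact (hus m').mul_right_eq_zero.mp this
    rw [h3] at h
    exact (hus n).mul_left_eq_zero.mp h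
  · intro w
    obtain ⟨⟨b, ⟨_, n, rfl⟩⟩, h⟩ := IsLocalization.surj (Submonoid.powers (φ s)) w
    simp only at h
    obtain ⟨m, c, hc⟩ := hsurj b
    obtain ⟨v, hv⟩ := (hus (n + m)).exists_right_inv
    refine ⟨algebraMap A As c * v, ?_⟩
    have hv' : algebraMap B Bs (φ s ^ (n + m)) * ψ v = 1 := by
      rw [← map_pow, ← hψ, ← map_mul, hv, map_one]
    apply (hut (n + m)).mul_left_cancel
    rw [map_mul, hψ, mul_left_comm, hv', mul_one, ← hc, map_mul, pow_add, map_mul, ← h]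
    ring

variable {X Y : Scheme.{u}}

theorem primeIdealOf_surjective {U : X.Opens} (hU : IsAffineOpen U) (z : Spec Γ(X, U)) :
    ∃ x : U, hU.primeIdealOf x = z := by
  refine ⟨hU.isoSpec.inv z, ?_⟩
  change hU.isoSpec.hom (hU.isoSpec.inv z) = z
  rw [← Scheme.Hom.comp_apply, Iso.inv_hom_id]
  rfl

/-- **Local spreading out** (Stacks 0BAC, local part). -/
theorem exists_opens_isIso_resLE (f : X ⟶ Y)
    (hinj : Set.InjOn (fun x : X => f.base x) {x : X | closure {x} ∈ irreducibleComponents ↥X})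
    (hiso : ∀ x : X, closure {x} ∈ irreducibleComponents ↥X → IsIso (f.stalkMap x))
    (hf : (LocallyOfFiniteType f ∧ IsReduced Y) ∨ LocallyOfFinitePresentation f)
    (x : X) (hx : closure {x} ∈ irreducibleComponents ↥X)
    (hy : closure {f x} ∈ irreducibleComponents ↥Y)
    (WX : X.Opens) (hxW : x ∈ WX) (WY : Y.Opens) (hyW : f x ∈ WY)
    (hWY : ∀ y' ∈ WY, f x ⤳ y') :
    ∃ (U : X.Opens) (V : Y.Opens) (hUV : U ≤ f ⁻¹ᵁ V), x ∈ U ∧ U ≤ WX ∧ V ≤ WY ∧
      IsIso (f.resLE V U hUV) := by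
  classical
  have hlft : LocallyOfFiniteType f := by
    rcases hf with h | h
    · exact h.1
    · infer_instance
  obtain ⟨_, ⟨V₀, hV₀, rfl⟩, hyV₀, hV₀W : V₀ ≤ WY⟩ :=
    Y.isBasis_affineOpens.exists_subset_of_mem_open hyW WY.2
  obtain ⟨_, ⟨U₀, hU₀, rfl⟩, hxU₀, hU₀' : U₀ ≤ f ⁻¹ᵁ V₀ ⊓ WX⟩ :=
    X.isBasis_affineOpens.exists_subset_of_mem_open
      (show x ∈ ((f ⁻¹ᵁ V₀ ⊓ WX : X.Opens) : Set X) from ⟨hyV₀, hxW⟩) (f ⁻¹ᵁ V₀ ⊓ WX).2
  have hUV₀ : U₀ ≤ f ⁻¹ᵁ V₀ := hU₀'.trans inf_le_left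
  have hU₀W : U₀ ≤ WX := hU₀'.trans inf_le_right
  set φ := (f.appLE V₀ U₀ hUV₀).hom with hφ
  set q := (hV₀.primeIdealOf ⟨f x, hyV₀⟩).asIdeal with hq
  set p := (hU₀.primeIdealOf ⟨x, hxU₀⟩).asIdeal with hp
  have hcomap := IsAffineOpen.comap_primeIdealOf_appLE V₀ hV₀ U₀ hU₀ hUV₀ hxU₀
  have hpq : q = p.comap φ := congr($(hcomap).1).symm
  have H : Function.Bijective (Localization.localRingHom q p φ hpq) := by
    have e := IsAffineOpen.arrowStalkMapIso f V₀ hV₀ U₀ hU₀ hUV₀ hxU₀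
    have h1 : IsIso (f.stalkMap x) := hiso x hx
    have h2 := ((MorphismProperty.isomorphisms CommRingCat).arrow_mk_iso_iff e).mp h1
    have h2' : IsIso (CommRingCat.ofHom (Localization.localRingHom q p φ hpq)) := h2
    exact ConcreteCategory.bijective_of_isIso (CommRingCat.ofHom
      (Localization.localRingHom q p φ hpq))
  have huniq : ∀ p' : Ideal Γ(X, U₀), p'.IsPrime → p'.comap φ ≤ q → p' = p := by
    intro p' hp' hle
    obtain ⟨x', hx'⟩ := primeIdealOf_surjective hU₀ ⟨p', hp'⟩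
    have hcomap' := IsAffineOpen.comap_primeIdealOf_appLE V₀ hV₀ U₀ hU₀ hUV₀ x'.2
    have h1 : hV₀.primeIdealOf ⟨f x'.1, hUV₀ x'.2⟩ ≤ hV₀.primeIdealOf ⟨f x, hyV₀⟩ := by
      rw [← hcomap', hx']
      exact hle
    rw [PrimeSpectrum.le_iff_specializes] at h1
    have h2 := h1.map hV₀.fromSpec.continuous
    rw [hV₀.fromSpec_primeIdealOf, hV₀.fromSpec_primeIdealOf] at h2
    have h3 : f x'.1 = f x := eq_of_specializes_of_mem_irreducibleComponents hy h2
    have h4 : x'.1 = x := eq_of_apply_eq_generic f hinj hiso x hx hy x'.1 h3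
    have h5 : x' = ⟨x, hxU₀⟩ := Subtype.ext h4
    rw [h5] at hx'
    exact congr($(hx').1).symm
  have hft : φ.FiniteType := f.finiteType_appLE hV₀ hU₀ hUV₀
  have hcase : (∀ b : Γ(Y, V₀), (∃ s, s ∉ q ∧ s * b = 0) → b = 0) ∨ φ.FinitePresentation := by
    rcases hf with h | h
    · left
      haveI := h.2
      rintro b ⟨s, hs, hsb⟩
      rw [← basicOpen_eq_bot_iff, ← Opens.not_nonempty_iff_eq_bot]
      rintro ⟨y', hy'⟩
      have hy'V₀ : y' ∈ V₀ := Y.basicOpen_le b hy'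
      have h1 : f x ∈ Y.basicOpen b := (hWY y' (hV₀W hy'V₀)).mem_open (Y.basicOpen b).2 hy'
      have h2 : f x ∈ Y.basicOpen s := by
        by_contra hcon
        exact hs ((mem_primeIdealOf_iff hV₀ ⟨f x, hyV₀⟩ s).mpr hcon)
      have h3 : f x ∈ Y.basicOpen (s * b) := by
        rw [Scheme.basicOpen_mul]
        exact ⟨h2, h1⟩
      rw [hsb, Scheme.basicOpen_zero] at h3
      exact h3
    · right
      exact f.finitePresentation_appLE hV₀ hU₀ hUV₀
  obtain ⟨g, hg, hsurj, hinj'⟩ := exists_away φ q p hpq H huniq hft hcase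
  set t : Γ(X, U₀) := f.appLE V₀ U₀ hUV₀ g with ht
  have hV' : IsAffineOpen (Y.basicOpen g) := hV₀.basicOpen g
  have hU' : IsAffineOpen (X.basicOpen t) := hU₀.basicOpen t
  have e' : X.basicOpen t ≤ f ⁻¹ᵁ Y.basicOpen g := by simp [ht, Scheme.Hom.appLE]
  have hxU' : x ∈ X.basicOpen t := by
    by_contra hcon
    have h1 := (mem_primeIdealOf_iff hU₀ ⟨x, hxU₀⟩ t).mpr hcon
    apply hg
    rw [hpq]
    exact h1
  refine ⟨X.basicOpen t, Y.basicOpen g, e', hxU', (X.basicOpen_le t).trans hU₀W,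
    (Y.basicOpen_le g).trans hV₀W, ?_⟩
  have hbij : Function.Bijective (f.appLE (Y.basicOpen g) (X.basicOpen t) e').hom := by
    have h1 := hV₀.appLE_eq_away_map f hU₀ hUV₀ g
    haveI := hV₀.isLocalization_basicOpen g
    haveI := hU₀.isLocalization_basicOpen (f.appLE V₀ U₀ hUV₀ g)
    have h2 : (f.appLE (Y.basicOpen g) (X.basicOpen t) e').hom =
        IsLocalization.Away.map Γ(Y, Y.basicOpen g) Γ(X, X.basicOpen t)
          (f.appLE V₀ U₀ hUV₀).hom g := congrArg CommRingCat.Hom.hom h1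
    rw [h2]
    refine bijective_of_away' (f.appLE V₀ U₀ hUV₀).hom g _ ?_ hinj' ?_
    · intro a
      exact IsLocalization.map_eq _ a
    · intro b
      obtain ⟨k, a, hka⟩ := hsurj b
      exact ⟨k, a, hka⟩
  haveI : IsAffine (Y.basicOpen g).toScheme := hV'
  haveI : IsAffine (X.basicOpen t).toScheme := hU'
  have hisoLE : IsIso (f.appLE (Y.basicOpen g) (X.basicOpen t) e') :=
    (ConcreteCategory.isIso_iff_bijective _).mpr hbij
  have happ : IsIso ((f.resLE (Y.basicOpen g) (X.basicOpen t) e').appTop) := by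
    change IsIso ((f.resLE (Y.basicOpen g) (X.basicOpen t) e').app ⊤)
    rw [Scheme.Hom.resLE_app_top]
    have h3 : IsIso (Scheme.Opens.topIso (X.basicOpen t)).inv := Iso.isIso_inv _
    have h1 : IsIso (Scheme.Opens.topIso (Y.basicOpen g)).hom := Iso.isIso_hom _
    exact IsIso.comp_isIso' h1 (IsIso.comp_isIso' hisoLE h3)
  exact ((MorphismProperty.isomorphisms Scheme).arrow_mk_iso_iff
    (arrowIsoSpecΓOfIsAffine (f.resLE (Y.basicOpen g) (X.basicOpen t) e'))).mpr
    (inferInstanceAs (IsIso (Spec.map (f.resLE (Y.basicOpen g) (X.basicOpen t) e').appTop)))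

end Groth.Agent.Lib.Helper61.BiratSpreadScheme
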