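import Mathlib
import Groth.Agent.Lib.Helper61.BiratSpreadScheme

/-!
# Closure of a quasi-compact open in an affine open consists of specializations (helper61)
-/

universe u

open CategoryTheory CategoryTheory.Limits TopologicalSpace Topology AlgebraicGeometry

namespace Groth.Agent.Lib.Helper61.GenFinClosure

open Groth.Agent.Lib.Helper61.BiratSpreadScheme

/-- A point in the closure of a basic open of `Spec R` is a specialization of a point of it. -/
lemma exists_specializes_of_mem_closure_basicOpen {R : Type*} [CommRing R] (r : R)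
    (x : PrimeSpectrum R) (hx : x ∈ closure (PrimeSpectrum.basicOpen r : Set (PrimeSpectrum R))) :
    ∃ y ∈ PrimeSpectrum.basicOpen r, y ⤳ x := by
  have hrange := PrimeSpectrum.localization_away_comap_range (Localization.Away r) r
  rw [← hrange, PrimeSpectrum.closure_range_comap, PrimeSpectrum.mem_zeroLocus,
    SetLike.coe_subset_coe] at hx
  obtain ⟨p, hp, hpx⟩ := Ideal.exists_minimalPrimes_le hx
  obtain ⟨p', hp', -, hcomap⟩ := Ideal.exists_comap_eq_of_mem_minimalPrimes
    (algebraMap R (Localization.Away r)) (I := ⊥) p hp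
  refine ⟨⟨p, hp.1.1⟩, ?_, ?_⟩
  · rw [← SetLike.mem_coe, ← hrange]
    exact ⟨⟨p', hp'⟩, PrimeSpectrum.ext hcomap⟩
  · rw [← PrimeSpectrum.le_iff_specializes]
    exact hpx

variable {X : Scheme.{u}}

/-- A point of an affine open in the closure of a basic open is a specialization of a point
of that basic open. -/
lemma exists_specializes_of_mem_closure_scheme_basicOpen {U : X.Opens} (hU : IsAffineOpen U)
    (r : Γ(X, U)) {b : X} (hbU : b ∈ U) (hb : b ∈ closure (X.basicOpen r : Set X)) :
    ∃ u ∈ X.basicOpen r, u ⤳ b := by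
  have hind : IsInducing (fun q : PrimeSpectrum Γ(X, U) => hU.fromSpec q) :=
    hU.fromSpec.isOpenEmbedding.isInducing
  have hpre : (fun q : PrimeSpectrum Γ(X, U) => hU.fromSpec q) ⁻¹' (X.basicOpen r : Set X) =
      (PrimeSpectrum.basicOpen r : Set (PrimeSpectrum Γ(X, U))) := by
    have := hU.fromSpec_preimage_basicOpen r
    exact congrArg (fun O : (Spec Γ(X, U)).Opens => (O : Set (Spec Γ(X, U)))) this
  have himg : (fun q : PrimeSpectrum Γ(X, U) => hU.fromSpec q) ''
      (PrimeSpectrum.basicOpen r : Set (PrimeSpectrum Γ(X, U))) = (X.basicOpen r : Set X) := by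
    rw [← hpre, Set.image_preimage_eq_inter_range]
    have hr : Set.range (fun q : PrimeSpectrum Γ(X, U) => hU.fromSpec q) = (U : Set X) :=
      hU.range_fromSpec
    rw [hr, Set.inter_eq_left]
    exact X.basicOpen_le r
  have hq : hU.primeIdealOf ⟨b, hbU⟩ ∈
      closure (PrimeSpectrum.basicOpen r : Set (PrimeSpectrum Γ(X, U))) := by
    rw [hind.closure_eq_preimage_closure_image, himg, Set.mem_preimage]
    change hU.fromSpec (hU.primeIdealOf ⟨b, hbU⟩) ∈ _
    rw [hU.fromSpec_primeIdealOf]
    exact hb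
  obtain ⟨y, hy, hyb⟩ := exists_specializes_of_mem_closure_basicOpen r _ hq
  refine ⟨hU.fromSpec y, ?_, ?_⟩
  · have : y ∈ (fun q : PrimeSpectrum Γ(X, U) => hU.fromSpec q) ⁻¹' (X.basicOpen r : Set X) := by
      rw [hpre]; exact hy
    exact this
  · have := hyb.map hU.fromSpec.continuous
    rw [hU.fromSpec_primeIdealOf] at this
    exact this

/-- A point of an affine open `U` in the closure of a quasi-compact open `W ⊆ U` is a
specialization of a point of `W`. -/
theorem exists_specializes_of_mem_closure {U : X.Opens} (hU : IsAffineOpen U) (W : X.Opens)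
    (hWU : W ≤ U) (hW : IsCompact (W : Set X)) {b : X} (hbU : b ∈ U)
    (hb : b ∈ closure (W : Set X)) : ∃ u ∈ W, u ⤳ b := by
  classical
  have hex : ∀ w : W, ∃ r : Γ(X, U), X.basicOpen r ≤ W ∧ (w : X) ∈ X.basicOpen r :=
    fun w => hU.exists_basicOpen_le w (hWU w.2)
  choose r hrW hwr using hex
  obtain ⟨t, ht⟩ := hW.elim_finite_subcover (fun w : W => (X.basicOpen (r w) : Set X))
    (fun w => (X.basicOpen (r w)).2) (fun x hx => Set.mem_iUnion.mpr ⟨⟨x, hx⟩, hwr ⟨x, hx⟩⟩)
  have hb' : b ∈ closure (⋃ w ∈ t, (X.basicOpen (r w) : Set X)) := closure_mono ht hb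
  rw [Finset.closure_biUnion] at hb'
  obtain ⟨w, -, hbw⟩ := Set.mem_iUnion₂.mp hb'
  obtain ⟨u, hu, hub⟩ := exists_specializes_of_mem_closure_scheme_basicOpen hU (r w) hbU hbw
  exact ⟨u, hrW w hu, hub⟩

end Groth.Agent.Lib.Helper61.GenFinClosure
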