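import Mathlib

/-!
# Gluing finiteness from a finite open cover (helper61)

If `g : X ⟶ V` has a finite cover by open immersions `j i : W i ⟶ X` with each `j i ≫ g` finite
and the overlaps `range (j i) ∩ range (j k)` closed under specialization inside `range (j i)`,
then `g` is finite (valuative criteria + Zariski's main theorem).
-/

universe u

open CategoryTheory CategoryTheory.Limits TopologicalSpace Topology AlgebraicGeometry

namespace Groth.Agent.Lib.Helper61.GenFinGlue

variable {X V : Scheme.{u}}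

/-- Points of `Spec R` for a local ring all generalize the closed point, so a morphism from
`Spec R` factors through any open containing the image of the closed point. -/
lemma range_subset_of_closedPoint_mem {R : Type u} [CommRing R] [IsLocalRing R]
    (l : Spec (.of R) ⟶ X) (U : Set X) (hU : IsOpen U)
    (h : l (IsLocalRing.closedPoint R) ∈ U) : Set.range l ⊆ U := by
  rintro _ ⟨t, rfl⟩
  have h1 : t ⤳ IsLocalRing.closedPoint R := IsLocalRing.specializes_closedPoint t
  exact (h1.map l.continuous).mem_open hU h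

section main

variable (g : X ⟶ V) {ι : Type*} (W : ι → Scheme.{u}) (j : ∀ i, W i ⟶ X)
  [∀ i, IsOpenImmersion (j i)]

theorem existence_of_cover (hcov : ∀ x : X, ∃ i, x ∈ Set.range (j i))
    (hfin : ∀ i, IsFinite (j i ≫ g)) : ValuativeCriterion.Existence g := by
  intro S
  obtain ⟨i, hi⟩ := hcov (S.i₁ (IsLocalRing.closedPoint S.K))
  have hrange : Set.range S.i₁ ⊆ Set.range (j i) :=
    range_subset_of_closedPoint_mem S.i₁ _ (j i).isOpenEmbedding.isOpen_range hi
  let a : Spec (.of S.K) ⟶ W i := IsOpenImmersion.lift (j i) S.i₁ hrange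
  have ha : a ≫ j i = S.i₁ := IsOpenImmersion.lift_fac _ _ _
  have hc : CommSq a (Spec.map (CommRingCat.ofHom (algebraMap S.R S.K))) (j i ≫ g) S.i₂ :=
    ⟨by rw [← Category.assoc, ha]; exact S.commSq.w⟩
  let S' : ValuativeCommSq (j i ≫ g) := ⟨S.R, S.K, a, S.i₂, hc⟩
  have hE : (ValuativeCriterion.Existence ⊓ @QuasiCompact) (j i ≫ g) := by
    rw [← UniversallyClosed.eq_valuativeCriterion]
    haveI := hfin i
    infer_instance
  obtain ⟨l⟩ := (CommSq.HasLift.iff _).mp (hE.1 S')
  exact CommSq.HasLift.mk' ⟨l.l ≫ j i, by rw [← Category.assoc, l.fac_left, ha],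
    by rw [Category.assoc]; exact l.fac_right⟩

theorem uniqueness_of_cover (hcov : ∀ x : X, ∃ i, x ∈ Set.range (j i))
    (hfin : ∀ i, IsFinite (j i ≫ g))
    (hsep : ∀ i k (z x : X), z ∈ Set.range (j i) → z ∈ Set.range (j k) → z ⤳ x →
      x ∈ Set.range (j i) → x ∈ Set.range (j k)) : ValuativeCriterion.Uniqueness g := by
  intro S
  refine ⟨fun l₁ l₂ => ?_⟩
  ext1
  -- closed point and generic point
  let s := IsLocalRing.closedPoint S.R
  obtain ⟨i, hi⟩ := hcov (l₁.l s)
  obtain ⟨k, hk⟩ := hcov (l₂.l s)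
  let ξ : Spec (.of S.R) := Spec.map (CommRingCat.ofHom (algebraMap S.R S.K))
    (IsLocalRing.closedPoint S.K)
  have hz : l₁.l ξ = l₂.l ξ := by
    change (Spec.map (CommRingCat.ofHom (algebraMap S.R S.K)) ≫ l₁.l) _ =
      (Spec.map (CommRingCat.ofHom (algebraMap S.R S.K)) ≫ l₂.l) _
    rw [l₁.fac_left, l₂.fac_left]
  have hsp : ξ ⤳ s := IsLocalRing.specializes_closedPoint ξ
  have hzi : l₁.l ξ ∈ Set.range (j i) :=
    (hsp.map l₁.l.continuous).mem_open (j i).isOpenEmbedding.isOpen_range hi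
  have hzk : l₁.l ξ ∈ Set.range (j k) := by
    rw [hz]
    exact (hsp.map l₂.l.continuous).mem_open (j k).isOpenEmbedding.isOpen_range hk
  have hk1 : l₁.l s ∈ Set.range (j k) :=
    hsep i k _ _ hzi hzk (hsp.map l₁.l.continuous) hi
  have hr1 : Set.range l₁.l ⊆ Set.range (j k) :=
    range_subset_of_closedPoint_mem l₁.l _ (j k).isOpenEmbedding.isOpen_range hk1
  have hr2 : Set.range l₂.l ⊆ Set.range (j k) :=
    range_subset_of_closedPoint_mem l₂.l _ (j k).isOpenEmbedding.isOpen_range hk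
  let b₁ : Spec (.of S.R) ⟶ W k := IsOpenImmersion.lift (j k) l₁.l hr1
  let b₂ : Spec (.of S.R) ⟶ W k := IsOpenImmersion.lift (j k) l₂.l hr2
  have hb₁ : b₁ ≫ j k = l₁.l := IsOpenImmersion.lift_fac _ _ _
  have hb₂ : b₂ ≫ j k = l₂.l := IsOpenImmersion.lift_fac _ _ _
  let a : Spec (.of S.K) ⟶ W k := Spec.map (CommRingCat.ofHom (algebraMap S.R S.K)) ≫ b₁
  have ha₂ : Spec.map (CommRingCat.ofHom (algebraMap S.R S.K)) ≫ b₂ = a := by
    rw [← cancel_mono (j k)]
    simp only [a, Category.assoc, hb₁, hb₂, l₁.fac_left, l₂.fac_left]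
  have hc : CommSq a (Spec.map (CommRingCat.ofHom (algebraMap S.R S.K))) (j k ≫ g) S.i₂ :=
    ⟨by simp only [a, Category.assoc]; rw [reassoc_of% hb₁, l₁.fac_right]⟩
  let S' : ValuativeCommSq (j k ≫ g) := ⟨S.R, S.K, a, S.i₂, hc⟩
  haveI := hfin k
  have hU : ValuativeCriterion.Uniqueness (j k ≫ g) := IsSeparated.valuativeCriterion _
  have := hU S'
  let L₁ : S'.commSq.LiftStruct := ⟨b₁, rfl, by rw [reassoc_of% hb₁, l₁.fac_right]⟩
  let L₂ : S'.commSq.LiftStruct := ⟨b₂, ha₂, by rw [reassoc_of% hb₂, l₂.fac_right]⟩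
  have h12 : L₁ = L₂ := Subsingleton.elim _ _
  have h12' : b₁ = b₂ := congrArg CommSq.LiftStruct.l h12
  rw [← hb₁, ← hb₂, h12']

theorem quasiCompact_of_cover [Finite ι] (hcov : ∀ x : X, ∃ i, x ∈ Set.range (j i))
    (hqc : ∀ i, QuasiCompact (j i ≫ g)) : QuasiCompact g := by
  refine ⟨fun U hU hU' => ?_⟩
  have h1 : g ⁻¹' U = ⋃ i, (j i) '' ((j i ≫ g) ⁻¹' U) := by
    ext x
    simp only [Set.mem_preimage, Set.mem_iUnion, Set.mem_image]
    constructor
    · intro hx
      obtain ⟨i, w, rfl⟩ := hcov x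
      exact ⟨i, w, by simpa using hx, rfl⟩
    · rintro ⟨i, w, hw, rfl⟩
      simpa using hw
  rw [h1]
  exact isCompact_iUnion fun i =>
    ((hqc i).isCompact_preimage U hU hU').image (j i).continuous

theorem locallyQuasiFinite_of_cover [LocallyOfFiniteType g]
    (hcov : ∀ x : X, ∃ i, x ∈ Set.range (j i))
    (hfin : ∀ i, LocallyQuasiFinite (j i ≫ g)) : LocallyQuasiFinite g := by
  rw [← Scheme.Hom.quasiFiniteLocus_eq_top_iff]
  ext x
  simp only [Scheme.Hom.mem_quasiFiniteLocus, Opens.coe_top, Set.mem_univ, iff_true]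
  obtain ⟨i, w, rfl⟩ := hcov x
  haveI := hfin i
  exact Scheme.Hom.quasiFiniteAt_comp_iff_of_isOpenImmersion.mp ((j i ≫ g).quasiFiniteAt w)

/-- Gluing finiteness over a finite open cover with specialization-closed overlaps. -/
theorem isFinite_of_cover [Finite ι] [LocallyOfFiniteType g] [QuasiSeparated g]
    (hcov : ∀ x : X, ∃ i, x ∈ Set.range (j i))
    (hfin : ∀ i, IsFinite (j i ≫ g))
    (hsep : ∀ i k (z x : X), z ∈ Set.range (j i) → z ∈ Set.range (j k) → z ⤳ x →
      x ∈ Set.range (j i) → x ∈ Set.range (j k)) : IsFinite g := by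
  haveI : QuasiCompact g := quasiCompact_of_cover g W j hcov
    (fun i => by haveI := hfin i; infer_instance)
  haveI : IsProper g := IsProper.of_valuativeCriterion g
    (ValuativeCriterion.iff.mpr ⟨existence_of_cover g W j hcov hfin,
      uniqueness_of_cover g W j hcov hfin hsep⟩)
  haveI : LocallyQuasiFinite g := locallyQuasiFinite_of_cover g W j hcov
    (fun i => by haveI := hfin i; infer_instance)
  exact IsFinite.of_isProper_of_locallyQuasiFinite g

end main

end Groth.Agent.Lib.Helper61.GenFinGlue
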