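import Mathlib

/-!
# Generic finiteness, ring level (helper61)

Stacks 02MM-type lemma: for a finite type ring map `R → S` and a minimal prime `P` of `R` with
finitely many primes of `S` above it, there is `g ∉ P` such that `R_g → S_g` is finite
(and the same for every multiple of `g`).
-/

open Polynomial TensorProduct

namespace Groth.Agent.Lib.Helper61.GenFinRing

section minimal

variable {R : Type*} [CommRing R]

lemma exists_mul_pow_eq_zero_of_mem_minimalPrimes {P : Ideal R} (hP : P ∈ minimalPrimes R)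
    {a : R} (ha : a ∈ P) : ∃ u ∉ P, ∃ n : ℕ, u * a ^ n = 0 := by
  have := hP.1.1
  have h := IsLocalization.AtPrime.radical_map_of_mem_minimalPrimes
    (A := Localization.AtPrime P) P ⊥ hP
  have h1 : algebraMap R (Localization.AtPrime P) a ∈
      (P.map (algebraMap R (Localization.AtPrime P))) := Ideal.mem_map_of_mem _ ha
  rw [← h, Ideal.map_bot] at h1
  obtain ⟨n, hn⟩ := h1
  rw [Ideal.mem_bot, ← map_pow] at hn
  obtain ⟨⟨m, hm⟩, hm'⟩ := (IsLocalization.map_eq_zero_iff P.primeCompl _ _).mp hn
  exact ⟨m, hm, n, hm'⟩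

variable {S : Type*} [CommRing S] [Algebra R S]

lemma finite_fiber_of_finite_preimage [Algebra.FiniteType R S] (P : Ideal R) [P.IsPrime]
    (H : (PrimeSpectrum.comap (algebraMap R S) ⁻¹' {⟨P, ‹_›⟩}).Finite) :
    Module.Finite P.ResidueField (P.Fiber S) := by
  rw [Module.finite_iff_isArtinianRing, isArtinianRing_iff_isNoetherianRing_krullDimLE_zero]
  have : IsJacobsonRing (P.Fiber S) := isJacobsonRing_of_finiteType (A := P.ResidueField)
  have : Finite (PrimeSpectrum (P.Fiber S)) :=
    (PrimeSpectrum.preimageEquivFiber R S ⟨P, ‹_›⟩).finite_iff.mp H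
  exact ⟨Algebra.FiniteType.isNoetherianRing P.ResidueField _,
    (PrimeSpectrum.discreteTopology_iff_finite_and_krullDimLE_zero.mp inferInstance).right⟩

lemma exists_smul_mem_map_of_one_tmul_eq_zero (P : Ideal R) [P.IsPrime] (y : S)
    (hy : (1 : P.ResidueField) ⊗ₜ[R] y = 0) :
    ∃ t ∉ P, algebraMap R S t * y ∈ P.map (algebraMap R S) := by
  let _ : Algebra S (P.Fiber S) := Algebra.TensorProduct.rightAlgebra
  have e := Ideal.Fiber.algEquivAux₁ (S := S) P
  have h1 : e (algebraMap S (P.Fiber S) y) = 0 := by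
    have : algebraMap S (P.Fiber S) y = (1 : P.ResidueField) ⊗ₜ[R] y := rfl
    rw [this, hy, map_zero]
  rw [e.commutes] at h1
  rw [IsScalarTower.algebraMap_apply S
      (Localization (Algebra.algebraMapSubmonoid S P.primeCompl)) _,
    Ideal.Quotient.algebraMap_eq, Ideal.Quotient.eq_zero_iff_mem,
    IsLocalization.algebraMap_mem_map_algebraMap_iff
      (Algebra.algebraMapSubmonoid S P.primeCompl)] at h1
  obtain ⟨m, ⟨t, ht, rfl⟩, hm⟩ := h1
  exact ⟨t, ht, hm⟩

variable (S) in
/-- The ideal of elements of `S` that become nilpotent after localizing at `P`. -/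
noncomputable def nilAt (P : Ideal R) [P.IsPrime] : Ideal S :=
  (nilradical (Localization (Algebra.algebraMapSubmonoid S P.primeCompl))).comap
    (algebraMap S (Localization (Algebra.algebraMapSubmonoid S P.primeCompl)))

lemma mem_nilAt_iff (P : Ideal R) [P.IsPrime] {z : S} :
    z ∈ nilAt S P ↔ ∃ u ∉ P, ∃ n : ℕ, algebraMap R S u * z ^ n = 0 := by
  rw [nilAt, Ideal.mem_comap, mem_nilradical]
  constructor
  · rintro ⟨n, hn⟩
    rw [← map_pow] at hn
    obtain ⟨⟨m, t, ht, rfl⟩, hm'⟩ :=
      (IsLocalization.map_eq_zero_iff (Algebra.algebraMapSubmonoid S P.primeCompl) _ _).mp hn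
    exact ⟨t, ht, n, hm'⟩
  · rintro ⟨u, hu, n, h⟩
    refine ⟨n, ?_⟩
    rw [← map_pow]
    exact (IsLocalization.map_eq_zero_iff (Algebra.algebraMapSubmonoid S P.primeCompl) _ _).mpr
      ⟨⟨algebraMap R S u, u, hu, rfl⟩, h⟩

lemma map_le_nilAt {P : Ideal R} [P.IsPrime] (hP : P ∈ minimalPrimes R) :
    P.map (algebraMap R S) ≤ nilAt S P := by
  rw [Ideal.map_le_iff_le_comap]
  intro a ha
  rw [Ideal.mem_comap, mem_nilAt_iff]
  obtain ⟨u, hu, n, h⟩ := exists_mul_pow_eq_zero_of_mem_minimalPrimes hP ha
  refine ⟨u, hu, n, ?_⟩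
  rw [← map_pow, ← map_mul, h, map_zero]

/-- Over a minimal prime with finite fibre, every element becomes integral after multiplying
by some element outside the prime. -/
lemma exists_isIntegral_smul [Algebra.FiniteType R S] {P : Ideal R} [P.IsPrime]
    (hP : P ∈ minimalPrimes R)
    (H : (PrimeSpectrum.comap (algebraMap R S) ⁻¹' {⟨P, ‹_›⟩}).Finite) (s : S) :
    ∃ c ∉ P, IsIntegral R (c • s) := by
  have hfin := finite_fiber_of_finite_preimage P H
  have hx : IsIntegral P.ResidueField ((1 : P.ResidueField) ⊗ₜ[R] s : P.Fiber S) :=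
    IsIntegral.of_finite _ _
  have hsurj : Function.Surjective (algebraMap (Localization.AtPrime P) P.ResidueField) :=
    IsLocalRing.residue_surjective
  have : Algebra.IsIntegral (Localization.AtPrime P) P.ResidueField :=
    Algebra.isIntegral_of_surjective hsurj
  have hx' : IsIntegral (Localization.AtPrime P) ((1 : P.ResidueField) ⊗ₜ[R] s : P.Fiber S) :=
    isIntegral_trans _ hx
  obtain ⟨⟨m, hm⟩, hm'⟩ := IsIntegral.exists_multiple_integral_of_isLocalization
    (M := P.primeCompl) (Rₘ := Localization.AtPrime P) _ hx'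
  rw [Submonoid.smul_def] at hm'
  simp only at hm'
  rw [← TensorProduct.tmul_smul] at hm'
  obtain ⟨F, hFm, hF⟩ := hm'
  rw [← Polynomial.aeval_def] at hF
  have hinc : (1 : P.ResidueField) ⊗ₜ[R] (m • s) =
      (Algebra.TensorProduct.includeRight : S →ₐ[R] P.Fiber S) (m • s) := rfl
  rw [hinc, Polynomial.aeval_algHom_apply] at hF
  obtain ⟨t, ht, hty⟩ := exists_smul_mem_map_of_one_tmul_eq_zero P (aeval (m • s) F) hF
  obtain ⟨u, hu, n, hun⟩ := (mem_nilAt_iff P).mp (map_le_nilAt hP hty)
  let Hp : R[X] := C (u * t ^ n) * F ^ n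
  have hHp : aeval (m • s) Hp = 0 := by
    simp only [Hp, map_mul, aeval_C, map_pow]
    rw [mul_pow] at hun
    rw [← hun]
    ring
  have hlc : Hp.leadingCoeff = u * t ^ n := by
    simp only [Hp]
    rw [leadingCoeff_mul_monic (hFm.pow n), leadingCoeff_C]
  have h3 := isIntegral_leadingCoeff_smul Hp (m • s) hHp
  rw [hlc, smul_smul] at h3
  refine ⟨u * t ^ n * m, ?_, h3⟩
  exact (P.primeCompl.mul_mem (P.primeCompl.mul_mem hu (P.primeCompl.pow_mem ht n)) hm)

end minimal

section away

/-- Finiteness of a localized map from integrality of multiples of generators. -/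
theorem finite_of_away {A B As Bs : Type*} [CommRing A] [CommRing B] [CommRing As]
    [CommRing Bs] [Algebra A B] [Algebra A As] [Algebra B Bs] (g : A)
    [IsLocalization.Away g As] [IsLocalization.Away (algebraMap A B g) Bs]
    (ψ : As →+* Bs) (hψ : ∀ a, ψ (algebraMap A As a) = algebraMap B Bs (algebraMap A B a))
    (gens : Finset B) (hgens : Algebra.adjoin A (gens : Set B) = ⊤)
    (hint : ∀ b ∈ gens, ∃ c : A, c ∣ g ∧ IsIntegral A (c • b)) : ψ.Finite := by
  classical
  letI := ψ.toAlgebra
  have halg : ∀ z : As, algebraMap As Bs z = ψ z := fun _ => rfl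
  have hug : IsUnit (algebraMap A As g) :=
    IsLocalization.map_units As (⟨g, 1, pow_one g⟩ : Submonoid.powers g)
  let T : Subalgebra As Bs := Algebra.adjoin As ((gens.image (algebraMap B Bs) : Finset Bs) : Set Bs)
  have hB : ∀ b : B, algebraMap B Bs b ∈ T := by
    intro b
    have hb : b ∈ Algebra.adjoin A (gens : Set B) := hgens ▸ Algebra.mem_top
    induction hb using Algebra.adjoin_induction with
    | mem x hx =>
      apply Algebra.subset_adjoin
      rw [Finset.coe_image]
      exact ⟨x, hx, rfl⟩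
    | algebraMap a =>
      rw [← hψ, ← halg]
      exact Subalgebra.algebraMap_mem _ _
    | add x y _ _ hx hy => rw [map_add]; exact T.add_mem hx hy
    | mul x y _ _ hx hy => rw [map_mul]; exact T.mul_mem hx hy
  have hT : T = ⊤ := by
    rw [eq_top_iff]
    intro w _
    obtain ⟨⟨b, ⟨_, n, rfl⟩⟩, h⟩ :=
      IsLocalization.surj (Submonoid.powers (algebraMap A B g)) w
    simp only at h
    obtain ⟨v, hv⟩ := hug.exists_right_inv
    have hv' : algebraMap B Bs (algebraMap A B g) * ψ v = 1 := by
      rw [← hψ, ← map_mul, hv, map_one]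
    have hw : w = algebraMap B Bs b * algebraMap As Bs (v ^ n) := by
      rw [halg, map_pow, ← h, map_pow, mul_assoc, ← mul_pow, hv', one_pow, mul_one]
    rw [hw]
    exact T.mul_mem (hB b) (Subalgebra.algebraMap_mem _ _)
  have hTint : T ≤ integralClosure As Bs := by
    apply Algebra.adjoin_le
    intro w hw
    rw [Finset.coe_image] at hw
    obtain ⟨b, hb, rfl⟩ := hw
    obtain ⟨c, hcg, P, hPm, hP⟩ := hint b hb
    have huc : IsUnit (algebraMap A As c) := isUnit_of_dvd_unit (map_dvd _ hcg) hug
    obtain ⟨v, hv⟩ := huc.exists_right_inv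
    have h1 : IsIntegral As (algebraMap B Bs (c • b)) := by
      refine ⟨P.map (algebraMap A As), hPm.map _, ?_⟩
      rw [Polynomial.eval₂_map]
      have hcomp : (algebraMap As Bs).comp (algebraMap A As) =
          (algebraMap B Bs).comp (algebraMap A B) := by
        ext a
        simp only [RingHom.comp_apply, halg, hψ]
      rw [hcomp, ← Polynomial.hom_eval₂, hP, map_zero]
    have h2 : algebraMap B Bs b = algebraMap As Bs v * algebraMap B Bs (c • b) := by
      rw [Algebra.smul_def, map_mul, ← hψ, halg, ← mul_assoc, ← map_mul, mul_comm v, hv, map_one,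
        one_mul]
    change IsIntegral As (algebraMap B Bs b)
    rw [h2]
    exact isIntegral_algebraMap.mul h1
  have hint' : Algebra.IsIntegral As Bs := by
    refine ⟨fun w => ?_⟩
    have : w ∈ T := hT ▸ Algebra.mem_top
    exact hTint this
  have hft : Algebra.FiniteType As Bs := ⟨⟨_, hT⟩⟩
  change Module.Finite As Bs
  exact Algebra.IsIntegral.finite

end away

/-- **Generic finiteness** (ring level, Stacks 02MM): over a minimal prime with finite fibre,
a finite type ring map becomes finite after inverting some `g₀ ∉ P`, and also after inverting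
any multiple of `g₀`. -/
theorem exists_finite_away {A B : Type*} [CommRing A] [CommRing B] [Algebra A B]
    [Algebra.FiniteType A B] {P : Ideal A} [P.IsPrime] (hP : P ∈ minimalPrimes A)
    (H : (PrimeSpectrum.comap (algebraMap A B) ⁻¹' {⟨P, ‹_›⟩}).Finite) :
    ∃ g₀ ∉ P, ∀ g : A, g₀ ∣ g → ∀ {As Bs : Type*} [CommRing As] [CommRing Bs] [Algebra A As]
      [Algebra B Bs] [IsLocalization.Away g As] [IsLocalization.Away (algebraMap A B g) Bs]
      (ψ : As →+* Bs), (∀ a, ψ (algebraMap A As a) = algebraMap B Bs (algebraMap A B a)) →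
      ψ.Finite := by
  classical
  obtain ⟨gens, hgens⟩ := (Algebra.FiniteType.out : (⊤ : Subalgebra A B).FG)
  choose c hcP hcint using fun s : B => exists_isIntegral_smul hP H s
  refine ⟨∏ b ∈ gens, c b, ?_, ?_⟩
  · intro hmem
    obtain ⟨b, _, hb⟩ := (Ideal.IsPrime.prod_mem_iff).mp hmem
    exact hcP b hb
  · intro g hg As Bs _ _ _ _ _ _ ψ hψ
    exact finite_of_away g ψ hψ gens hgens
      (fun b hb => ⟨c b, (Finset.dvd_prod_of_mem c hb).trans hg, hcint b⟩)

end Groth.Agent.Lib.Helper61.GenFinRing
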