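import Mathlib
import Groth.Agent.Lib.Helper61.BiratGeneric
import Groth.Agent.Lib.Helper61.BiratQFScheme
import Groth.Agent.Lib.Helper61.BiratSpreadScheme
import Groth.Agent.Lib.Helper61.GenFinRing

/-!
# Generic finiteness: local statement on affine opens (helper61)
-/

universe u

open CategoryTheory CategoryTheory.Limits TopologicalSpace Topology AlgebraicGeometry

namespace Groth.Agent.Lib.Helper61.GenFin

open Groth.Agent.Lib.Helper61.BiratGeneric Groth.Agent.Lib.Helper61.BiratQF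
  Groth.Agent.Lib.Helper61.BiratSpreadScheme Groth.Agent.Lib.Helper61.GenFinRing

variable {X Y : Scheme.{u}}

/-- The prime of a generic point of an irreducible component in an affine open is minimal. -/
theorem primeIdealOf_mem_minimalPrimes {V : Y.Opens} (hV : IsAffineOpen V) {η : Y} (hηV : η ∈ V)
    (hη : closure {η} ∈ irreducibleComponents ↥Y) :
    (hV.primeIdealOf ⟨η, hηV⟩).asIdeal ∈ minimalPrimes Γ(Y, V) := by
  refine ⟨⟨(hV.primeIdealOf ⟨η, hηV⟩).2, bot_le⟩, ?_⟩
  rintro q ⟨hq, -⟩ hle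
  obtain ⟨y, hy⟩ := primeIdealOf_surjective hV ⟨q, hq⟩
  have h1 : hV.primeIdealOf y ≤ hV.primeIdealOf ⟨η, hηV⟩ := by
    rw [hy]
    exact hle
  rw [PrimeSpectrum.le_iff_specializes] at h1
  have h2 := h1.map hV.fromSpec.continuous
  rw [hV.fromSpec_primeIdealOf, hV.fromSpec_primeIdealOf] at h2
  have h3 : y.1 = η := eq_of_specializes_of_mem_irreducibleComponents hη h2
  have h4 : y = ⟨η, hηV⟩ := Subtype.ext h3
  rw [h4] at hy
  rw [hy]

/-- Finiteness of the fibre gives finiteness of the set of primes over the prime of `η`. -/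
theorem finite_comap_preimage (f : X ⟶ Y) {V : Y.Opens} (hV : IsAffineOpen V) {U : X.Opens}
    (hU : IsAffineOpen U) (e : U ≤ f ⁻¹ᵁ V) {η : Y} (hηV : η ∈ V)
    (hfib : (f ⁻¹' {η}).Finite) :
    (PrimeSpectrum.comap (f.appLE V U e).hom ⁻¹' {hV.primeIdealOf ⟨η, hηV⟩}).Finite := by
  have hinj : Function.Injective (fun q : PrimeSpectrum Γ(X, U) => hU.fromSpec q) :=
    hU.fromSpec.isOpenEmbedding.injective
  refine (hfib.preimage hinj.injOn).subset ?_
  intro q hq
  obtain ⟨x, rfl⟩ := primeIdealOf_surjective hU q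
  rw [Set.mem_preimage, Set.mem_singleton_iff] at hq
  have hcomap := IsAffineOpen.comap_primeIdealOf_appLE V hV U hU e x.2
  change f (hU.fromSpec (hU.primeIdealOf x)) = η
  rw [hU.fromSpec_primeIdealOf]
  have h1 : hV.primeIdealOf ⟨f x.1, e x.2⟩ = hV.primeIdealOf ⟨η, hηV⟩ := by
    rw [← hcomap]
    exact hq
  have h2 := congrArg (fun q => hV.fromSpec q) h1
  simp only [hV.fromSpec_primeIdealOf] at h2
  exact h2

set_option backward.isDefEq.respectTransparency.types false in
/-- A morphism of affine opens is finite as soon as the ring map `appLE` is finite. -/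
theorem isFinite_resLE_of_finite_appLE (f : X ⟶ Y) {V : Y.Opens} (hV : IsAffineOpen V)
    {U : X.Opens} (hU : IsAffineOpen U) (e : U ≤ f ⁻¹ᵁ V)
    (h : (f.appLE V U e).hom.Finite) : IsFinite (f.resLE V U e) := by
  haveI : IsAffine V.toScheme := hV
  haveI : IsAffine U.toScheme := hU
  rw [HasAffineProperty.iff_of_isAffine (P := @IsFinite)]
  refine ⟨inferInstance, ?_⟩
  have h1 : (V.topIso.hom ≫ f.appLE V U e ≫ U.topIso.inv).hom.Finite := by
    rw [CommRingCat.hom_comp, RingHom.finite_respectsIso.cancel_left_isIso,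
      CommRingCat.hom_comp, RingHom.finite_respectsIso.cancel_right_isIso]
    exact h
  change ((f.resLE V U e).app ⊤).hom.Finite
  rw [Scheme.Hom.resLE_app_top]
  exact h1

/-- **Generic finiteness, local form.** -/
theorem exists_isFinite_resLE (f : X ⟶ Y) [LocallyOfFiniteType f] {V : Y.Opens}
    (hV : IsAffineOpen V) {U : X.Opens} (hU : IsAffineOpen U) (e : U ≤ f ⁻¹ᵁ V) {η : Y}
    (hηV : η ∈ V) (hη : closure {η} ∈ irreducibleComponents ↥Y)
    (hfib : (f ⁻¹' {η}).Finite) :
    ∃ g₀ : Γ(Y, V), η ∈ Y.basicOpen g₀ ∧ ∀ g : Γ(Y, V), g₀ ∣ g →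
      ∀ e' : X.basicOpen (f.appLE V U e g) ≤ f ⁻¹ᵁ Y.basicOpen g,
        IsFinite (f.resLE (Y.basicOpen g) (X.basicOpen (f.appLE V U e g)) e') := by
  letI := (f.appLE V U e).hom.toAlgebra
  haveI : Algebra.FiniteType Γ(Y, V) Γ(X, U) := f.finiteType_appLE hV hU e
  haveI := (hV.primeIdealOf ⟨η, hηV⟩).2
  obtain ⟨g₀, hg₀, H⟩ := exists_finite_away (A := Γ(Y, V)) (B := Γ(X, U))
    (P := (hV.primeIdealOf ⟨η, hηV⟩).asIdeal)
    (primeIdealOf_mem_minimalPrimes hV hηV hη) (finite_comap_preimage f hV hU e hηV hfib)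
  refine ⟨g₀, ?_, ?_⟩
  · by_contra hcon
    exact hg₀ ((mem_primeIdealOf_iff hV ⟨η, hηV⟩ g₀).mpr hcon)
  · intro g hg e'
    refine isFinite_resLE_of_finite_appLE f (hV.basicOpen g) (hU.basicOpen _) e' ?_
    have h1 := hV.appLE_eq_away_map f hU e g
    haveI := hV.isLocalization_basicOpen g
    haveI := hU.isLocalization_basicOpen (f.appLE V U e g)
    have h2 : (f.appLE (Y.basicOpen g) (X.basicOpen (f.appLE V U e g)) e').hom =
        IsLocalization.Away.map Γ(Y, Y.basicOpen g) Γ(X, X.basicOpen (f.appLE V U e g))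
          (f.appLE V U e).hom g := congrArg CommRingCat.Hom.hom h1
    rw [h2]
    exact H g hg _ (fun a => IsLocalization.map_eq _ a)

end Groth.Agent.Lib.Helper61.GenFin
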