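import Mathlib
import Groth.Agent.Lib.Helper61.GenFinLocal
import Groth.Agent.Lib.Helper61.GenFinGlue
import Groth.Agent.Lib.Helper61.GenFinClosure

/-!
# Generic finiteness (Stacks 02NW) (helper61)
-/

universe u

open CategoryTheory CategoryTheory.Limits TopologicalSpace Topology AlgebraicGeometry

namespace Groth.Agent.Lib.Helper61.GenFin

open Groth.Agent.Lib.Helper61.BiratGeneric Groth.Agent.Lib.Helper61.BiratQF
  Groth.Agent.Lib.Helper61.BiratSpreadScheme Groth.Agent.Lib.Helper61.GenFinGlue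
  Groth.Agent.Lib.Helper61.GenFinClosure

variable {X Y : Scheme.{u}}

/-- No specializations inside a fibre of a locally quasi-finite morphism. -/
lemma eq_of_specializes_of_locallyQuasiFinite (r : X ⟶ Y) [LocallyQuasiFinite r] {u b : X}
    (h : u ⤳ b) (hf : r u = r b) : u = b := by
  have hd := (r.isDiscrete_preimage_singleton (r b)).to_subtype
  let u' : ↥(r ⁻¹' {r b}) := ⟨u, hf⟩
  let b' : ↥(r ⁻¹' {r b}) := ⟨b, rfl⟩
  have h1 : u' ⤳ b' := (subtype_specializes_iff _ _).mpr h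
  exact congrArg Subtype.val h1.eq

lemma mem_finset_inf' {κ : Type*} {s : Finset κ} {W : κ → Y.Opens} {x : Y} :
    x ∈ s.inf W ↔ ∀ i ∈ s, x ∈ W i := by
  rw [← SetLike.mem_coe, TopologicalSpace.Opens.coe_finset_inf]
  simp

lemma mem_range_homOfLE_iff {U V : X.Opens} (e : U ≤ V) (x : V.toScheme) :
    x ∈ Set.range (X.homOfLE e) ↔ x.1 ∈ U := by
  have h1 : x ∈ Set.range (X.homOfLE e) ↔ x ∈ (X.homOfLE e).opensRange := Iff.rfl
  rw [h1, Scheme.opensRange_homOfLE]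
  rfl

/-- Compact opens inside an affine open have compact intersection. -/
lemma isCompact_inter_of_isAffineOpen {U : X.Opens} (hU : IsAffineOpen U) {A B : Set X}
    (hAU : A ⊆ U) (hA : IsOpen A) (hA' : IsCompact A) (hBU : B ⊆ U) (hB : IsOpen B)
    (hB' : IsCompact B) : IsCompact (A ∩ B) :=
  hU.isQuasiSeparated A B hAU hA hA' hBU hB hB'

/-- **Generic finiteness** (Stacks 02NW, (1) ⇒ (4)), for a finite affine cover of the preimage
of an affine open with quasi-compact pairwise intersections. -/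
theorem exists_isFinite_morphismRestrict (f : X ⟶ Y) [LocallyOfFiniteType f]
    {V₀ : Y.Opens} (hV₀ : IsAffineOpen V₀) {η : Y} (hηV₀ : η ∈ V₀)
    (hη : closure {η} ∈ irreducibleComponents ↥Y) (hfib : (f ⁻¹' {η}).Finite)
    {ι : Type*} [Finite ι] (U : ι → X.Opens) (hU : ∀ i, IsAffineOpen (U i))
    (hUV : ∀ i, U i ≤ f ⁻¹ᵁ V₀) (hcov : ∀ x : X, f x ∈ V₀ → ∃ i, x ∈ U i)
    (hcpt : ∀ i k, IsCompact ((U i : Set X) ∩ U k)) :
    ∃ V : Y.Opens, IsAffineOpen V ∧ η ∈ V ∧ V ≤ V₀ ∧ IsFinite (f ∣_ V) := by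
  classical
  have := Fintype.ofFinite ι
  haveI := (hV₀.primeIdealOf ⟨η, hηV₀⟩).2
  -- Step 1: local finiteness
  choose g₀ hg₀η hg₀ using fun i => exists_isFinite_resLE f hV₀ (hU i) (hUV i) hηV₀ hη hfib
  let g₁ : Γ(Y, V₀) := ∏ i, g₀ i
  have hηg : ∀ g : Γ(Y, V₀), η ∈ Y.basicOpen g ↔
      g ∉ (hV₀.primeIdealOf ⟨η, hηV₀⟩).asIdeal := by
    intro g
    rw [mem_primeIdealOf_iff hV₀ ⟨η, hηV₀⟩ g, not_not]
  have hηg₁ : η ∈ Y.basicOpen g₁ := by
    rw [hηg]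
    intro hmem
    obtain ⟨i, -, hi⟩ := (Ideal.IsPrime.prod_mem_iff).mp hmem
    exact (hηg _).mp (hg₀η i) hi
  have hdvd₁ : ∀ i, g₀ i ∣ g₁ := fun i => Finset.dvd_prod_of_mem _ (Finset.mem_univ i)
  have hUeq : ∀ (g : Γ(Y, V₀)) i, X.basicOpen (f.appLE V₀ (U i) (hUV i) g) =
      U i ⊓ f ⁻¹ᵁ Y.basicOpen g := fun g i => Scheme.basicOpen_appLE f (U i) V₀ (hUV i) g
  have hUle : ∀ (g : Γ(Y, V₀)) i, X.basicOpen (f.appLE V₀ (U i) (hUV i) g) ≤
      f ⁻¹ᵁ Y.basicOpen g := fun g i => (hUeq g i).le.trans inf_le_right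
  have hUcpt : ∀ (g : Γ(Y, V₀)) i k,
      IsCompact ((X.basicOpen (f.appLE V₀ (U i) (hUV i) g) ⊓
        X.basicOpen (f.appLE V₀ (U k) (hUV k) g) : X.Opens) : Set X) := by
    intro g i k
    have h1 : ((X.basicOpen (f.appLE V₀ (U i) (hUV i) g) ⊓
        X.basicOpen (f.appLE V₀ (U k) (hUV k) g) : X.Opens) : Set X) =
        ((U i : Set X) ∩ U k) ∩ (X.basicOpen (f.appLE V₀ (U i) (hUV i) g) : Set X) := by
      rw [hUeq g i, hUeq g k]
      ext x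
      simp only [Opens.coe_inf, Set.mem_inter_iff, SetLike.mem_coe]
      tauto
    rw [h1]
    exact isCompact_inter_of_isAffineOpen (hU i) Set.inter_subset_left
      ((U i).2.inter (U k).2) (hcpt i k) (X.basicOpen_le _) (X.basicOpen _).2
      ((hU i).basicOpen _).isCompact
  -- Step 2: the bad sets
  have hbad : ∀ i k, ∃ O : Y.Opens, η ∈ O ∧ ∀ x : X,
      x ∈ closure ((X.basicOpen (f.appLE V₀ (U i) (hUV i) g₁) ⊓
        X.basicOpen (f.appLE V₀ (U k) (hUV k) g₁) : X.Opens) : Set X) →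
      x ∈ X.basicOpen (f.appLE V₀ (U i) (hUV i) g₁) →
      x ∉ X.basicOpen (f.appLE V₀ (U k) (hUV k) g₁) → f x ∉ O := by
    intro i k
    set V₁ := Y.basicOpen g₁ with hV₁
    set Ui := X.basicOpen (f.appLE V₀ (U i) (hUV i) g₁) with hUi
    set Uk := X.basicOpen (f.appLE V₀ (U k) (hUV k) g₁) with hUk
    have hfin : IsFinite (f.resLE V₁ Ui (hUle g₁ i)) := hg₀ i g₁ (hdvd₁ i) _
    let r := f.resLE V₁ Ui (hUle g₁ i)
    have hrι : ∀ p : Ui.toScheme, (V₁.ι (r p) : Y) = f p.1 := by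
      intro p
      have := Scheme.Hom.resLE_comp_ι f (hUle g₁ i)
      have h2 := congrArg (fun φ : Ui.toScheme ⟶ Y => φ p) this
      exact h2
    let Z : Set Ui.toScheme := Ui.ι ⁻¹' (closure ((Ui ⊓ Uk : X.Opens) : Set X) ∩ (Uk : Set X)ᶜ)
    have hZ : IsClosed Z :=
      (isClosed_closure.inter Uk.2.isClosed_compl).preimage Ui.ι.continuous
    have hrZ : IsClosed (r '' Z) := r.isClosedMap _ hZ
    let O' : V₁.toScheme.Opens := ⟨(r '' Z)ᶜ, hrZ.isOpen_compl⟩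
    refine ⟨V₁.ι ''ᵁ O', ?_, ?_⟩
    · refine ⟨⟨η, hηg₁⟩, ?_, rfl⟩
      rintro ⟨b, ⟨hbcl, hbk⟩, hrb⟩
      obtain ⟨u, hu, hub⟩ := exists_specializes_of_mem_closure ((hU i).basicOpen _) (Ui ⊓ Uk)
        inf_le_left (hUcpt g₁ i k) b.2 hbcl
      let u' : Ui.toScheme := ⟨u, hu.1⟩
      have hsp : u' ⤳ b := (subtype_specializes_iff _ _).mpr hub
      have h1 : r u' ⤳ r b := hsp.map r.continuous
      have h3 := h1.map V₁.ι.continuous
      have h4 : (V₁.ι (r b) : Y) = η := by rw [hrb]; rfl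
      rw [h4] at h3
      have h5 : (V₁.ι (r u') : Y) = η := eq_of_specializes_of_mem_irreducibleComponents hη h3
      have h2 : r u' = r b := V₁.ι.isOpenEmbedding.injective (h5.trans h4.symm)
      have h6 : u' = b := eq_of_specializes_of_locallyQuasiFinite r hsp h2
      apply hbk
      rw [← h6]
      exact hu.2
    · rintro x hxcl hxi hxk ⟨y, hyO, hy⟩
      have h1 : y = r ⟨x, hxi⟩ := by
        apply V₁.ι.isOpenEmbedding.injective
        exact hy.trans (hrι ⟨x, hxi⟩).symm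
      apply hyO
      rw [h1]
      exact ⟨⟨x, hxi⟩, ⟨hxcl, hxk⟩, rfl⟩
  choose O hOη hO using hbad
  -- Step 3: shrink
  let O₂ : Y.Opens := (Finset.univ.inf fun p : ι × ι => O p.1 p.2) ⊓ Y.basicOpen g₁
  have hηO₂ : η ∈ O₂ := by
    refine ⟨?_, hηg₁⟩
    rw [SetLike.mem_coe, mem_finset_inf']
    exact fun p _ => hOη p.1 p.2
  obtain ⟨h, hhO, hηh⟩ := hV₀.exists_basicOpen_le (V := O₂) ⟨η, hηO₂⟩ hηV₀
  simp only at hηh
  let g₂ : Γ(Y, V₀) := g₁ * h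
  have hdvd₂ : ∀ i, g₀ i ∣ g₂ := fun i => (hdvd₁ i).trans (Dvd.intro _ rfl)
  have hV₂eq : Y.basicOpen g₂ = Y.basicOpen g₁ ⊓ Y.basicOpen h := Scheme.basicOpen_mul _ _ _
  have hV₂O : ∀ i k, Y.basicOpen g₂ ≤ O i k := by
    intro i k
    rw [hV₂eq]
    refine inf_le_right.trans (hhO.trans (inf_le_left.trans ?_))
    exact Finset.inf_le (f := fun p : ι × ι => O p.1 p.2) (Finset.mem_univ (i, k))
  have hV₂V₁ : Y.basicOpen g₂ ≤ Y.basicOpen g₁ := by rw [hV₂eq]; exact inf_le_left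
  have hηV₂ : η ∈ Y.basicOpen g₂ := by
    rw [hV₂eq]
    exact ⟨hηg₁, hηh⟩
  refine ⟨Y.basicOpen g₂, hV₀.basicOpen g₂, hηV₂, Y.basicOpen_le g₂, ?_⟩
  -- Step 4: glue
  set V := Y.basicOpen g₂ with hV
  let U₂ : ι → X.Opens := fun i => X.basicOpen (f.appLE V₀ (U i) (hUV i) g₂)
  have hU₂V : ∀ i, U₂ i ≤ f ⁻¹ᵁ V := fun i => hUle g₂ i
  have hU₂aff : ∀ i, IsAffineOpen (U₂ i) := fun i => (hU i).basicOpen _
  have hU₂U₁ : ∀ i, U₂ i ≤ X.basicOpen (f.appLE V₀ (U i) (hUV i) g₁) := by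
    intro i
    change X.basicOpen _ ≤ _
    rw [hUeq g₂ i, hUeq g₁ i]
    exact inf_le_inf_left _ (f.preimage_mono hV₂V₁)
  have hfin₂ : ∀ i, IsFinite (f.resLE V (U₂ i) (hU₂V i)) := fun i => hg₀ i g₂ (hdvd₂ i) _
  have hmemU₂ : ∀ i (x : X), x ∈ U₂ i ↔ x ∈ U i ∧ f x ∈ V := by
    intro i x
    change x ∈ X.basicOpen _ ↔ _
    rw [hUeq g₂ i]
    rfl
  -- quasi-separatedness
  haveI : QuasiSeparatedSpace (f ⁻¹ᵁ V).toScheme := by
    refine Scheme.quasiSeparatedSpace_of_isOpenCover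
      (fun i => (f ⁻¹ᵁ V).ι ⁻¹ᵁ (U₂ i)) ?_ ?_ ?_
    · rw [IsOpenCover, eq_top_iff]
      rintro x -
      obtain ⟨i, hi⟩ := hcov x.1 (Y.basicOpen_le g₂ x.2)
      exact Opens.mem_iSup.mpr ⟨i, (hmemU₂ i x.1).mpr ⟨hi, x.2⟩⟩
    · intro i
      refine (hU₂aff i).preimage_of_isOpenImmersion _ ?_
      rw [Scheme.Opens.opensRange_ι]
      exact hU₂V i
    · intro i k
      have hind : IsInducing (fun x : (f ⁻¹ᵁ V).toScheme => (f ⁻¹ᵁ V).ι x) :=
        (f ⁻¹ᵁ V).ι.isOpenEmbedding.isInducing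
      have h1 : (((f ⁻¹ᵁ V).ι ⁻¹ᵁ (U₂ i) : (f ⁻¹ᵁ V).toScheme.Opens) : Set _) ∩
          ((f ⁻¹ᵁ V).ι ⁻¹ᵁ (U₂ k) : (f ⁻¹ᵁ V).toScheme.Opens) =
          (fun x : (f ⁻¹ᵁ V).toScheme => (f ⁻¹ᵁ V).ι x) ⁻¹' (((U₂ i ⊓ U₂ k : X.Opens)) : Set X) :=
        rfl
      rw [h1, hind.isCompact_preimage_iff]
      · exact hUcpt g₂ i k
      · intro x hx
        exact ⟨⟨x, hU₂V i hx.1⟩, rfl⟩
  haveI : QuasiSeparated (f ∣_ V) := inferInstance
  refine isFinite_of_cover (f ∣_ V) (fun i => (U₂ i).toScheme)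
    (fun i => X.homOfLE (hU₂V i)) ?_ ?_ ?_
  · intro x
    obtain ⟨i, hi⟩ := hcov x.1 (Y.basicOpen_le g₂ x.2)
    exact ⟨i, (mem_range_homOfLE_iff _ x).mpr ((hmemU₂ i x.1).mpr ⟨hi, x.2⟩)⟩
  · intro i
    exact hfin₂ i
  · intro i k z x hzi hzk hzx hxi
    rw [mem_range_homOfLE_iff] at hzi hzk hxi ⊢
    have hzx' : z.1 ⤳ x.1 := (subtype_specializes_iff _ _).mp hzx
    have hxcl : x.1 ∈ closure ((X.basicOpen (f.appLE V₀ (U i) (hUV i) g₁) ⊓
        X.basicOpen (f.appLE V₀ (U k) (hUV k) g₁) : X.Opens) : Set X) := by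
      have : z.1 ∈ ((X.basicOpen (f.appLE V₀ (U i) (hUV i) g₁) ⊓
          X.basicOpen (f.appLE V₀ (U k) (hUV k) g₁) : X.Opens) : Set X) :=
        ⟨hU₂U₁ i hzi, hU₂U₁ k hzk⟩
      exact closure_mono (Set.singleton_subset_iff.mpr this) hzx'.mem_closure
    by_contra hxk
    have hxk₁ : x.1 ∉ X.basicOpen (f.appLE V₀ (U k) (hUV k) g₁) := by
      intro hcon
      apply hxk
      rw [hUeq g₁ k] at hcon
      exact (hmemU₂ k x.1).mpr ⟨hcon.1, x.2⟩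
    exact hO i k x.1 hxcl (hU₂U₁ i hxi) hxk₁ (hV₂O i k x.2)

/-- Finite fibres of `f` over points of `V` when `f ∣_ V` is finite. -/
theorem finite_fiber_of_isFinite_morphismRestrict (f : X ⟶ Y) (V : Y.Opens) {η : Y} (hηV : η ∈ V)
    [IsFinite (f ∣_ V)] : (f ⁻¹' {η}).Finite := by
  have h1 := (f ∣_ V).finite_preimage_singleton ⟨η, hηV⟩
  refine (h1.image (fun x : (f ⁻¹ᵁ V).toScheme => (x.1 : X))).subset ?_
  intro x hx
  rw [Set.mem_preimage, Set.mem_singleton_iff] at hx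
  have hxV : x ∈ f ⁻¹ᵁ V := by
    change f x ∈ V
    rw [hx]
    exact hηV
  refine ⟨⟨x, hxV⟩, ?_, rfl⟩
  change (f ∣_ V) ⟨x, hxV⟩ = ⟨η, hηV⟩
  apply Subtype.ext
  have := morphismRestrict_ι f V
  have h2 := congrArg (fun φ : (f ⁻¹ᵁ V).toScheme ⟶ Y => φ ⟨x, hxV⟩) this
  exact h2.trans hx

/-- **Generic finiteness** (Stacks 02NW (1) ⇔ (4)) for quasi-compact quasi-separated morphisms
locally of finite type. -/
theorem finite_fiber_iff_exists_isFinite (f : X ⟶ Y) [LocallyOfFiniteType f] [QuasiCompact f]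
    [QuasiSeparated f] (η : Y) (hη : closure {η} ∈ irreducibleComponents ↥Y) :
    (f ⁻¹' {η}).Finite ↔ ∃ V : Y.Opens, IsAffineOpen V ∧ η ∈ V ∧ IsFinite (f ∣_ V) := by
  constructor
  · intro hfib
    obtain ⟨_, ⟨V₀, hV₀, rfl⟩, hηV₀, -⟩ :=
      Y.isBasis_affineOpens.exists_subset_of_mem_open (Set.mem_univ η) isOpen_univ
    have hc : IsCompact ((f ⁻¹ᵁ V₀ : X.Opens) : Set X) :=
      QuasiCompact.isCompact_preimage (f := f) _ V₀.2 hV₀.isCompact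
    obtain ⟨s, hs, hsU⟩ := (isCompact_iff_finite_and_eq_biUnion_affineOpens).mp hc
    haveI : Finite ↥s := hs.to_subtype
    have hsub : ∀ i : ↥s, (i.1 : X.Opens) ≤ f ⁻¹ᵁ V₀ := by
      intro i
      rw [hsU]
      exact le_iSup₂ (f := fun (j : X.affineOpens) (_ : j ∈ s) => (j : X.Opens)) i.1 i.2
    obtain ⟨V, hV, hηV, -, hfin⟩ := exists_isFinite_morphismRestrict f hV₀ hηV₀ hη hfib
      (fun i : ↥s => (i.1 : X.Opens)) (fun i => i.1.2) (fun i => hsub i)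
      (by
        intro x hx
        have hx' : x ∈ f ⁻¹ᵁ V₀ := hx
        rw [hsU] at hx'
        simp only [Opens.mem_iSup] at hx'
        obtain ⟨j, hj, hxj⟩ := hx'
        exact ⟨⟨j, hj⟩, hxj⟩)
      (by
        intro i k
        exact (f.isQuasiSeparated_preimage hV₀.isQuasiSeparated) _ _ (hsub i) (i.1 : X.Opens).2
          i.1.2.isCompact (hsub k) (k.1 : X.Opens).2 k.1.2.isCompact)
    exact ⟨V, hV, hηV, hfin⟩
  · rintro ⟨V, -, hηV, hfin⟩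
    exact finite_fiber_of_isFinite_morphismRestrict f V hηV

end Groth.Agent.Lib.Helper61.GenFin
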