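import Groth.Agent.Lib.Helper61.UnivThickAffine
import Mathlib.AlgebraicGeometry.Cover.Directed

/-!
# Universal first order thickenings: gluing the affine pieces (helper61)
-/

set_option autoImplicit false
universe u
open AlgebraicGeometry CategoryTheory Limits

namespace Groth.Agent.Lib.Helper61.UnivThick

namespace Glue

variable {Z X : Scheme.{u}} (h : Z ⟶ X)

/-- Affine opens of `Z` mapping into an affine open of `X`. -/
abbrev Idx : Type u :=
  {W : Z.Opens // IsAffineOpen W ∧ ∃ U : X.Opens, IsAffineOpen U ∧ W ≤ h ⁻¹ᵁ U}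

variable {h}

theorem Idx.exists_mem_le (x : Z) (V : Z.Opens) (hx : x ∈ V) : ∃ k : Idx h, x ∈ k.1 ∧ k.1 ≤ V := by
  obtain ⟨_, ⟨U, hU, rfl⟩, hxU, -⟩ :=
    X.isBasis_affineOpens.exists_subset_of_mem_open (Set.mem_univ (h x)) isOpen_univ
  obtain ⟨_, ⟨W, hW, rfl⟩, hxW, hWV⟩ :=
    Z.isBasis_affineOpens.exists_subset_of_mem_open (show x ∈ (V ⊓ h ⁻¹ᵁ U : Z.Opens) from ⟨hx, hxU⟩)
      (V ⊓ h ⁻¹ᵁ U).isOpen
  exact ⟨⟨W, hW, U, hU, fun y hy => (hWV hy).2⟩, hxW, fun y hy => (hWV hy).1⟩

variable [FormallyUnramified h]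

theorem exists_data (k : Idx h) : ∃ (W' : Scheme.{u}) (i : (k.1 : Scheme.{u}) ⟶ W') (h' : W' ⟶ X),
    OmegaSh.IsUnivThickening (k.1.ι ≫ h) i h' := by
  obtain ⟨hW, U, hU, hWU⟩ := k.2
  haveI : IsAffine (k.1 : Scheme.{u}) := hW
  haveI : FormallyUnramified (k.1.ι ≫ h) :=
    MorphismProperty.comp_mem (W := @FormallyUnramified) _ _ inferInstance inferInstance
  refine exists_of_affine (k.1.ι ≫ h) U hU ?_
  rintro _ ⟨x, rfl⟩
  rw [Scheme.Hom.comp_apply]
  exact hWU x.2

variable (h)

/-- The chosen universal thickening of the piece `k`. -/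
noncomputable def Zp (k : Idx h) : Scheme.{u} := (exists_data k).choose

noncomputable def ik (k : Idx h) : (k.1 : Scheme.{u}) ⟶ Zp h k := (exists_data k).choose_spec.choose

noncomputable def hk (k : Idx h) : Zp h k ⟶ X := (exists_data k).choose_spec.choose_spec.choose

theorem spec (k : Idx h) : OmegaSh.IsUnivThickening (k.1.ι ≫ h) (ik h k) (hk h k) :=
  (exists_data k).choose_spec.choose_spec.choose_spec

theorem ik_hk (k : Idx h) : ik h k ≫ hk h k = k.1.ι ≫ h := (spec h k).2.1

theorem existsUnique_trans {k l : Idx h} (hkl : k ≤ l) :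
    ∃! φ : Zp h k ⟶ Zp h l, ik h k ≫ φ = Z.homOfLE hkl ≫ ik h l ∧ φ ≫ hk h l = hk h k :=
  (spec h l).2.2 _ _ (ik h k) (hk h k) (Z.homOfLE hkl) (spec h k).1
    (by rw [ik_hk, Scheme.homOfLE_ι_assoc])

/-- The transition maps. -/
noncomputable def trans {k l : Idx h} (hkl : k ≤ l) : Zp h k ⟶ Zp h l :=
  (existsUnique_trans h hkl).choose

theorem ik_trans {k l : Idx h} (hkl : k ≤ l) :
    ik h k ≫ trans h hkl = Z.homOfLE hkl ≫ ik h l := (existsUnique_trans h hkl).choose_spec.1.1

theorem trans_hk {k l : Idx h} (hkl : k ≤ l) : trans h hkl ≫ hk h l = hk h k :=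
  (existsUnique_trans h hkl).choose_spec.1.2

theorem trans_uniq {k l : Idx h} (hkl : k ≤ l) (φ : Zp h k ⟶ Zp h l)
    (h1 : ik h k ≫ φ = Z.homOfLE hkl ≫ ik h l) (h2 : φ ≫ hk h l = hk h k) : φ = trans h hkl :=
  (existsUnique_trans h hkl).choose_spec.2 φ ⟨h1, h2⟩

/-- The diagram of affine universal thickenings. -/
noncomputable def F : Idx h ⥤ Scheme.{u} where
  obj k := Zp h k
  map f := trans h (leOfHom f)
  map_id k := by
    symm
    apply trans_uniq
    · rw [Category.comp_id, Scheme.homOfLE_rfl, Category.id_comp]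
    · rw [Category.id_comp]
  map_comp {k l m} f g := by
    symm
    apply trans_uniq
    · rw [← Category.assoc, ik_trans, Category.assoc, ik_trans, ← Category.assoc,
        Scheme.homOfLE_homOfLE]
    · rw [Category.assoc, trans_hk, trans_hk]

instance {k l : Idx h} (f : k ⟶ l) : IsOpenImmersion ((F h).map f) := by
  have H₁ : OmegaSh.IsUnivThickening (Z.homOfLE (leOfHom f) ≫ (l.1.ι ≫ h)) (ik h k) (hk h k) := by
    rw [Scheme.homOfLE_ι_assoc]
    exact spec h k
  exact isOpenImmersion_comparison (Z.homOfLE (leOfHom f)) H₁ (spec h l) _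
    (ik_trans h (leOfHom f)) (trans_hk h (leOfHom f))

theorem ik_surjective (k : Idx h) : Function.Surjective (ik h k) :=
  haveI := (spec h k).1.1.2
  (ik h k).surjective

theorem ik_injective (k : Idx h) : Function.Injective (ik h k) :=
  haveI := (spec h k).1.1.1
  (ik h k).isClosedEmbedding.injective

theorem trans_ik_apply {k l : Idx h} (hkl : k ≤ l) (z : (k.1 : Scheme.{u})) :
    trans h hkl (ik h k z) = ik h l (Z.homOfLE hkl z) :=
  congr($(ik_trans h hkl) z)

instance : ((F h) ⋙ Scheme.forget).IsLocallyDirected where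
  cond {i j k} fi fj xi xj hx := by
    obtain ⟨zi, rfl⟩ := ik_surjective h i xi
    obtain ⟨zj, rfl⟩ := ik_surjective h j xj
    have hx' : trans h (leOfHom fi) (ik h i zi) = trans h (leOfHom fj) (ik h j zj) := hx
    rw [trans_ik_apply, trans_ik_apply] at hx'
    have hz : zi.1 = zj.1 :=
      (Scheme.homOfLE_apply (leOfHom fi) zi).symm.trans
        ((congrArg Subtype.val (ik_injective h k hx')).trans (Scheme.homOfLE_apply (leOfHom fj) zj))
    obtain ⟨l, hzl, hl⟩ := Idx.exists_mem_le (h := h) zi.1 (i.1 ⊓ j.1) ⟨zi.2, hz ▸ zj.2⟩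
    have hli : l ≤ i := fun y hy => (hl hy).1
    have hlj : l ≤ j := fun y hy => (hl hy).2
    let zl : (l.1 : Scheme.{u}) := ⟨zi.1, hzl⟩
    refine ⟨l, homOfLE hli, homOfLE hlj, ik h l zl, ?_, ?_⟩
    · exact (trans_ik_apply h hli zl).trans
        (congrArg (ik h i) (Subtype.ext (Scheme.homOfLE_apply hli zl)))
    · exact (trans_ik_apply h hlj zl).trans
        (congrArg (ik h j) (Subtype.ext ((Scheme.homOfLE_apply hlj zl).trans hz)))

/-- The cover of `Z` by the pieces. -/
noncomputable def cov : Z.OpenCover :=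
  Z.openCoverOfIsOpenCover (fun k : Idx h => k.1) (by
    rw [TopologicalSpace.IsOpenCover, eq_top_iff]
    intro x _
    obtain ⟨k, hxk, -⟩ := Idx.exists_mem_le (h := h) x ⊤ trivial
    exact TopologicalSpace.Opens.mem_iSup.mpr ⟨k, hxk⟩)

instance : Preorder (cov h).I₀ := inferInstanceAs (Preorder (Idx h))

noncomputable instance : (cov h).LocallyDirected :=
  Scheme.Cover.LocallyDirected.ofIsBasisOpensRange
    (fun {i j} => by
      show i ≤ j ↔ (i.1.ι).opensRange ≤ (j.1.ι).opensRange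
      rw [Scheme.Opens.opensRange_ι, Scheme.Opens.opensRange_ι]
      rfl)
    (by
      rw [TopologicalSpace.Opens.isBasis_iff_nbhd]
      intro V x hx
      obtain ⟨k, hxk, hkV⟩ := Idx.exists_mem_le (h := h) x V hx
      refine ⟨k.1, ⟨k, ?_⟩, hxk, hkV⟩
      show (k.1.ι).opensRange = k.1
      rw [Scheme.Opens.opensRange_ι])

theorem cov_trans {k l : Idx h} (f : k ⟶ l) :
    (cov h).trans (show (k : (cov h).I₀) ⟶ l from f) = Z.homOfLE (leOfHom f) := rfl

/-- The glued thickening. -/
noncomputable def Zglue : Scheme.{u} := colimit (F h)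

/-- The inclusion of a piece. -/
noncomputable def ιk (k : Idx h) : Zp h k ⟶ Zglue h := colimit.ι (F h) k

instance (k : Idx h) : IsOpenImmersion (ιk h k) :=
  inferInstanceAs (IsOpenImmersion (colimit.ι (F h) k))

theorem trans_ιk {k l : Idx h} (hkl : k ≤ l) : trans h hkl ≫ ιk h l = ιk h k :=
  colimit.w (F h) (homOfLE hkl)

theorem compat {k l : Idx h} (hkl : k ≤ l) :
    Z.homOfLE hkl ≫ ik h l ≫ ιk h l = ik h k ≫ ιk h k := by
  rw [← Category.assoc, ← ik_trans, Category.assoc, trans_ιk]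

/-- The glued closed immersion. -/
noncomputable def iglue : Z ⟶ Zglue h :=
  (cov h).glueMorphismsOfLocallyDirected (fun k => ik h k ≫ ιk h k)
    (fun {k l} f => compat h (leOfHom f))

theorem ι_iglue (k : Idx h) : k.1.ι ≫ iglue h = ik h k ≫ ιk h k :=
  (cov h).map_glueMorphismsOfLocallyDirected (fun k => ik h k ≫ ιk h k)
    (fun {k l} f => compat h (leOfHom f)) k

/-- The cocone defining the glued structure map. -/
noncomputable def hcocone : Cocone (F h) :=
  Cocone.mk X
    { app := fun k => hk h k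
      naturality := fun k l f => (trans_hk h (leOfHom f)).trans (Category.comp_id _).symm }

/-- The glued structure map. -/
noncomputable def hglue : Zglue h ⟶ X := colimit.desc (F h) (hcocone h)

theorem ι_hglue (k : Idx h) : ιk h k ≫ hglue h = hk h k :=
  colimit.ι_desc (hcocone h) k

theorem ι_iglue_hglue (k : Idx h) : k.1.ι ≫ iglue h ≫ hglue h = k.1.ι ≫ h := by
  rw [← Category.assoc, ι_iglue, Category.assoc, ι_hglue, ik_hk]

theorem iglue_hglue : iglue h ≫ hglue h = h :=
  (cov h).hom_ext _ _ fun k => ι_iglue_hglue h k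

theorem iglue_apply (k : Idx h) (z : (k.1 : Scheme.{u})) :
    iglue h (k.1.ι z) = ιk h k (ik h k z) :=
  congr($(ι_iglue h k) z)

theorem preimage_opensRange (k : Idx h) :
    iglue h ⁻¹ᵁ (ιk h k).opensRange = k.1.ι.opensRange := by
  rw [Scheme.Opens.opensRange_ι]
  ext z
  constructor
  · rintro ⟨x, hx⟩
    obtain ⟨m, hzm, -⟩ := Idx.exists_mem_le (h := h) z ⊤ trivial
    let zm : (m.1 : Scheme.{u}) := ⟨z, hzm⟩
    have e1 : iglue h z = ιk h m (ik h m zm) := iglue_apply h m zm
    have e2 : colimit.ι (F h) m (ik h m zm) = colimit.ι (F h) k x := e1.symm.trans hx.symm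
    obtain ⟨l, fm, fk, y, hy1, hy2⟩ := (Scheme.IsLocallyDirected.ι_eq_ι_iff (F h)).mp e2
    obtain ⟨zl, rfl⟩ := ik_surjective h l y
    have e3 : ik h m (Z.homOfLE (leOfHom fm) zl) = ik h m zm :=
      (trans_ik_apply h _ zl).symm.trans hy1
    have e4 := congrArg Subtype.val (ik_injective h m e3)
    have hz : zl.1 = z := (Scheme.homOfLE_apply _ zl).symm.trans e4
    exact hz ▸ (leOfHom fk) zl.2
  · intro hz
    exact ⟨ik h k ⟨z, hz⟩, (iglue_apply h k ⟨z, hz⟩).symm⟩

theorem isPullback_piece (k : Idx h) : IsPullback (ik h k) k.1.ι (ιk h k) (iglue h) :=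
  IsOpenImmersion.isPullback (ik h k) k.1.ι (ιk h k) (iglue h) (ι_iglue h k)
    (preimage_opensRange h k)

theorem spec' (k : Idx h) : OmegaSh.IsUnivThickening (k.1.ι ≫ h) (ik h k) (ιk h k ≫ hglue h) := by
  rw [ι_hglue]
  exact spec h k

theorem isUnivThickening_glue : OmegaSh.IsUnivThickening h (iglue h) (hglue h) :=
  of_cover h (iglue h) (hglue h) (iglue_hglue h)
    (Scheme.IsLocallyDirected.openCover (F h))
    (fun k => (k.1 : Scheme.{u})) (fun k => k.1.ι) (fun k => ik h k)
    (fun k => isPullback_piece h k) (fun k => spec' h k)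

end Glue

/-- **Existence of the universal first order thickening** of a formally unramified morphism. -/
theorem exists_isUnivThickening {Z X : Scheme.{u}} (h : Z ⟶ X) [FormallyUnramified h] :
    ∃ (Z' : Scheme.{u}) (i : Z ⟶ Z') (h' : Z' ⟶ X), OmegaSh.IsUnivThickening h i h' :=
  ⟨Glue.Zglue h, Glue.iglue h, Glue.hglue h, Glue.isUnivThickening_glue h⟩

end Groth.Agent.Lib.Helper61.UnivThick
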