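import Mathlib

/-!
# Spreading out morphisms from a stalk: finitely presented target (helper61)

Mathlib's `spread_out_of_isGermInjective` assumes the source is germ-injective at the point.
Here we prove the variant where the target is locally of finite presentation
(no hypothesis on the source), cf. Stacks 0BX6.
-/

universe u

open CategoryTheory CategoryTheory.Limits TopologicalSpace Topology AlgebraicGeometry

namespace Groth.Agent.Lib.Helper61.SpreadOutFP

variable {X Y S : Scheme.{u}} {R A : CommRingCat.{u}}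

lemma mem_finset_inf {ι : Type*} {s : Finset ι} {W : ι → X.Opens} {x : X} :
    x ∈ s.inf W ↔ ∀ i ∈ s, x ∈ W i := by
  rw [← SetLike.mem_coe, TopologicalSpace.Opens.coe_finset_inf]
  simp

lemma exists_lift_of_finitePresentation {x : X} {U : X.Opens} (hxU : x ∈ U)
    (φ : A ⟶ X.presheaf.stalk x) (φRA : R ⟶ A) (φRX : R ⟶ Γ(X, U))
    (hφRA : RingHom.FinitePresentation φRA.hom)
    (e : φRA ≫ φ = φRX ≫ X.presheaf.germ U x hxU) :
    ∃ (V : X.Opens) (hxV : x ∈ V) (φ' : A ⟶ Γ(X, V)) (i : V ≤ U), IsAffineOpen V ∧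
      φ = φ' ≫ X.presheaf.germ V x hxV ∧ φRX ≫ X.presheaf.map i.hom.op = φRA ≫ φ' := by
  classical
  letI := φRA.hom.toAlgebra
  have hfp : Algebra.FinitePresentation R A := hφRA
  obtain ⟨n, π, hπ, K, hK⟩ := hfp.out
  have hπC : ∀ r : R, π (MvPolynomial.C r) = φRA r := fun r => π.commutes r
  choose W hxW f hf using fun t ↦ X.presheaf.exists_germ_eq (φ t)
  let W₀ : X.Opens := (Finset.univ.inf fun i : Fin n => W (π (MvPolynomial.X i))) ⊓ U
  have hW₀i : ∀ i : Fin n, W₀ ≤ W (π (MvPolynomial.X i)) := fun i =>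
    inf_le_left.trans (Finset.inf_le (Finset.mem_univ i))
  have hW₀U : W₀ ≤ U := inf_le_right
  have hxW₀ : x ∈ W₀ := by
    refine ⟨?_, hxU⟩
    rw [SetLike.mem_coe, mem_finset_inf]
    exact fun i _ => hxW _
  let a : Fin n → Γ(X, W₀) := fun i =>
    X.presheaf.map (homOfLE (hW₀i i)).op (f (π (MvPolynomial.X i)))
  let ρ : R ⟶ Γ(X, W₀) := φRX ≫ X.presheaf.map (homOfLE hW₀U).op
  let ev : MvPolynomial (Fin n) R →+* Γ(X, W₀) := MvPolynomial.eval₂Hom ρ.hom a
  have hgerm : (X.presheaf.germ W₀ x hxW₀).hom.comp ev = φ.hom.comp π.toRingHom := by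
    apply MvPolynomial.ringHom_ext
    · intro r
      simp only [RingHom.comp_apply, ev, MvPolynomial.eval₂Hom_C]
      have h1 : (X.presheaf.germ W₀ x hxW₀).hom (ρ.hom r) =
          (X.presheaf.germ U x hxU).hom (φRX.hom r) :=
        X.presheaf.germ_res_apply (homOfLE hW₀U) x hxW₀ (φRX.hom r)
      rw [h1]
      have h2 := congr($e r)
      simp only [CommRingCat.comp_apply] at h2
      rw [← h2]
      congr 1
      exact (hπC r).symm
    · intro i
      simp only [RingHom.comp_apply, ev, MvPolynomial.eval₂Hom_X']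
      have h1 : (X.presheaf.germ W₀ x hxW₀).hom (a i) =
          (X.presheaf.germ _ x (hxW _)).hom (f (π (MvPolynomial.X i))) :=
        X.presheaf.germ_res_apply (homOfLE (hW₀i i)) x hxW₀ _
      rw [h1]
      exact hf _
  have hK0 : ∀ h ∈ K, X.presheaf.germ W₀ x hxW₀ (ev h) = 0 := by
    intro h hh
    have := congr($hgerm h)
    simp only [RingHom.comp_apply] at this
    have hker : h ∈ RingHom.ker π.toRingHom := hK ▸ Ideal.subset_span hh
    rw [RingHom.mem_ker] at hker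
    exact this.trans (by rw [hker, map_zero])
  have hKW : ∀ h : MvPolynomial (Fin n) R, ∃ Wh : X.Opens, h ∈ K →
      (x ∈ Wh ∧ ∃ i : Wh ≤ W₀, X.presheaf.map (homOfLE i).op (ev h) = 0) := by
    intro h
    by_cases hh : h ∈ K
    · have h0 : X.presheaf.germ W₀ x hxW₀ (ev h) = X.presheaf.germ W₀ x hxW₀ 0 := by
        rw [hK0 h hh, map_zero]
      obtain ⟨Wh, hxWh, i1, i2, hres⟩ := X.presheaf.germ_eq x hxW₀ hxW₀ _ _ h0
      refine ⟨Wh, fun _ => ⟨hxWh, i1.le, ?_⟩⟩
      rw [map_zero] at hres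
      exact hres
    · exact ⟨⊤, fun h' => absurd h' hh⟩
  choose Wh hWh using hKW
  let V₁ : X.Opens := (K.inf Wh) ⊓ W₀
  have hxV₁ : x ∈ V₁ := by
    refine ⟨?_, hxW₀⟩
    rw [SetLike.mem_coe, mem_finset_inf]
    exact fun h hh => (hWh h hh).1
  obtain ⟨_, ⟨V, hV, rfl⟩, hxV, hVV₁ : V ≤ V₁⟩ :=
    X.isBasis_affineOpens.exists_subset_of_mem_open hxV₁ V₁.2
  have hVW₀ : V ≤ W₀ := hVV₁.trans inf_le_right
  let evV : MvPolynomial (Fin n) R →+* Γ(X, V) :=
    (X.presheaf.map (homOfLE hVW₀).op).hom.comp ev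
  have hevK : ∀ h ∈ K, evV h = 0 := by
    intro h hh
    obtain ⟨-, i, hi⟩ := hWh h hh
    have hVWh : V ≤ Wh h := hVV₁.trans (inf_le_left.trans (Finset.inf_le hh))
    have : X.presheaf.map (homOfLE hVW₀).op (ev h) =
        X.presheaf.map (homOfLE hVWh).op (X.presheaf.map (homOfLE i).op (ev h)) := by
      rw [← ConcreteCategory.comp_apply, ← Functor.map_comp]
      rfl
    change X.presheaf.map (homOfLE hVW₀).op (ev h) = 0
    rw [this, hi, map_zero]
  have hker : RingHom.ker π.toRingHom ≤ RingHom.ker evV := by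
    rw [← hK, Ideal.span_le]
    intro h hh
    exact hevK h hh
  let φ'' : A →+* Γ(X, V) := RingHom.liftOfSurjective π.toRingHom hπ ⟨evV, hker⟩
  have hφ'' : ∀ p, φ'' (π p) = evV p := fun p =>
    RingHom.liftOfSurjective_comp_apply π.toRingHom hπ ⟨evV, hker⟩ p
  refine ⟨V, hxV, CommRingCat.ofHom φ'', hVW₀.trans hW₀U, hV, ?_, ?_⟩
  · ext b
    obtain ⟨p, rfl⟩ := hπ b
    simp only [CommRingCat.comp_apply, CommRingCat.hom_ofHom]
    have h1 := hφ'' p
    change φ'' (π p) = _ at h1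
    rw [h1]
    have h2 : (X.presheaf.germ V x hxV).hom (evV p) = (X.presheaf.germ W₀ x hxW₀).hom (ev p) :=
      X.presheaf.germ_res_apply (homOfLE hVW₀) x hxV (ev p)
    have h3 := congr($hgerm p)
    simp only [RingHom.comp_apply] at h3
    exact (h3.symm.trans h2.symm)
  · ext r
    simp only [CommRingCat.comp_apply, CommRingCat.hom_ofHom]
    rw [← hπC r]
    have h1 := hφ'' (MvPolynomial.C r)
    change φ'' (π (MvPolynomial.C r)) = _ at h1
    rw [h1]
    simp only [evV, ev, RingHom.comp_apply, MvPolynomial.eval₂Hom_C, ρ, CommRingCat.hom_comp]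
    have h4 : X.presheaf.map (homOfLE hVW₀).op (X.presheaf.map (homOfLE hW₀U).op (φRX r)) =
        X.presheaf.map (homOfLE (hVW₀.trans hW₀U)).op (φRX r) := by
      rw [← ConcreteCategory.comp_apply, ← Functor.map_comp]
      rfl
    exact h4.symm

set_option backward.isDefEq.respectTransparency.types false in
/-- Stacks 0BX6 when the target is locally of finite presentation: no hypothesis on the source. -/
lemma spread_out_of_finitePresentation (sX : X ⟶ S) (sY : Y ⟶ S)
    [LocallyOfFinitePresentation sY] {x : X} {y : Y}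
    (e : sX x = sY y) (φ : Y.presheaf.stalk y ⟶ X.presheaf.stalk x)
    (h : sY.stalkMap y ≫ φ =
      S.presheaf.stalkSpecializes (Inseparable.of_eq e).specializes ≫ sX.stalkMap x) :
    ∃ (U : X.Opens) (hxU : x ∈ U) (f : U.toScheme ⟶ Y),
      Spec.map φ ≫ Y.fromSpecStalk y = U.fromSpecStalkOfMem x hxU ≫ f ∧
      f ≫ sY = U.ι ≫ sX := by
  obtain ⟨_, ⟨U, hU, rfl⟩, hxU, -⟩ :=
    S.isBasis_affineOpens.exists_subset_of_mem_open (Set.mem_univ (sX x)) isOpen_univ
  have hyU : sY y ∈ U := e ▸ hxU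
  obtain ⟨_, ⟨V : Y.Opens, hV, rfl⟩, hyV, iVU⟩ :=
    Y.isBasis_affineOpens.exists_subset_of_mem_open hyU (sY ⁻¹ᵁ U).2
  have : sY.appLE U V iVU ≫ Y.presheaf.germ V y hyV ≫ φ =
      sX.app U ≫ X.presheaf.germ (sX ⁻¹ᵁ U) x hxU := by
    rw [Scheme.Hom.appLE, Category.assoc, Y.presheaf.germ_res_assoc,
      ← Scheme.Hom.germ_stalkMap_assoc, h]
    simp
  obtain ⟨W, hxW, φ', i, hW, h₁, h₂⟩ :=
    exists_lift_of_finitePresentation (R := Γ(S, U)) (A := Γ(Y, V)) (U := sX ⁻¹ᵁ U) (x := x) hxU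
    (Y.presheaf.germ _ y hyV ≫ φ) (sY.appLE U V iVU) (sX.app U)
    (sY.finitePresentation_appLE hU hV _) this
  refine ⟨W, hxW, W.toSpecΓ ≫ Spec.map φ' ≫ hV.fromSpec, ?_, ?_⟩
  · rw [W.fromSpecStalkOfMem_toSpecΓ_assoc x hxW, ← Spec.map_comp_assoc, ← h₁,
      Spec.map_comp, Category.assoc, ← IsAffineOpen.fromSpecStalk,
      IsAffineOpen.fromSpecStalk_eq_fromSpecStalk]
  · simp only [Category.assoc]
    rw [← IsAffineOpen.SpecMap_appLE_fromSpec sY hU hV iVU, ← Spec.map_comp_assoc, ← h₂,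
      ← Scheme.Hom.appLE, ← hW.isoSpec_hom, IsAffineOpen.SpecMap_appLE_fromSpec sX hU hW i,
      ← Iso.eq_inv_comp, IsAffineOpen.isoSpec_inv_ι_assoc]

end Groth.Agent.Lib.Helper61.SpreadOutFP
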