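import Groth.Agent.Lib.Helper61.LiftGlue
import Mathlib.AlgebraicGeometry.Morphisms.FormallyUnramified
import Mathlib.RingTheory.Etale.Basic
import Mathlib.RingTheory.Smooth.Basic

/-!
# Formally étale morphisms: infinitesimal lifting vs affine-local ring condition (helper61)
-/

set_option autoImplicit false
universe u
open AlgebraicGeometry CategoryTheory Limits

namespace Groth.Agent.Lib.Helper61.FEtHom

variable {X Y : Scheme.{u}} (f : X ⟶ Y)

/-- Local existence of lifts against a standard affine square-zero thickening whose top map lands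
in an affine open `U` with `U ≤ f ⁻¹ V`, `V` affine and `Γ(Y,V) → Γ(X,U)` formally smooth. -/
theorem exists_lift_standard_of_range {U : X.Opens} {V : Y.Opens} (hU : IsAffineOpen U)
    (hV : IsAffineOpen V) (hUV : U ≤ f ⁻¹ᵁ V)
    (hsm : letI := (f.appLE V U hUV).hom.toAlgebra; Algebra.FormallySmooth Γ(Y, V) Γ(X, U))
    (C : Type u) [CommRing C] (I : Ideal C) (hI : I ^ 2 = ⊥)
    (a₀ : Spec (CommRingCat.of (C ⧸ I)) ⟶ X) (b₀ : Spec (CommRingCat.of C) ⟶ Y)
    (ha : Set.range a₀ ⊆ U)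
    (w : Spec.map (CommRingCat.ofHom (Ideal.Quotient.mk I)) ≫ b₀ = a₀ ≫ f) :
    ∃ l : Spec (CommRingCat.of C) ⟶ X,
      Spec.map (CommRingCat.ofHom (Ideal.Quotient.mk I)) ≫ l = a₀ ∧ l ≫ f = b₀ := by
  classical
  have ht := ThickBC.isFirstOrderThickening_SpecMap_mk I hI
  haveI : Surjective (Spec.map (CommRingCat.ofHom (Ideal.Quotient.mk I))) := ht.1.2
  have hb : Set.range b₀ ⊆ V := by
    rintro _ ⟨y, rfl⟩
    obtain ⟨x, rfl⟩ := (Spec.map (CommRingCat.ofHom (Ideal.Quotient.mk I))).surjective y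
    have e := congrArg (fun F : Spec (CommRingCat.of (C ⧸ I)) ⟶ Y => F x) w
    simp only [Scheme.Hom.comp_apply] at e
    rw [e]
    exact hUV (ha ⟨x, rfl⟩)
  let a₁ : Spec (CommRingCat.of (C ⧸ I)) ⟶ Spec Γ(X, U) :=
    IsOpenImmersion.lift hU.fromSpec a₀ (by rw [hU.range_fromSpec]; exact ha)
  have ha₁ : a₁ ≫ hU.fromSpec = a₀ := IsOpenImmersion.lift_fac _ _ _
  let b₁ : Spec (CommRingCat.of C) ⟶ Spec Γ(Y, V) :=
    IsOpenImmersion.lift hV.fromSpec b₀ (by rw [hV.range_fromSpec]; exact hb)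
  have hb₁ : b₁ ≫ hV.fromSpec = b₀ := IsOpenImmersion.lift_fac _ _ _
  let α : Γ(X, U) ⟶ CommRingCat.of (C ⧸ I) := Spec.preimage a₁
  have hα : Spec.map α = a₁ := Spec.map_preimage a₁
  let β : Γ(Y, V) ⟶ CommRingCat.of C := Spec.preimage b₁
  have hβ : Spec.map β = b₁ := Spec.map_preimage b₁
  have hcomm : f.appLE V U hUV ≫ α = β ≫ CommRingCat.ofHom (Ideal.Quotient.mk I) := by
    apply Spec.map_injective
    rw [← cancel_mono hV.fromSpec, Spec.map_comp, Spec.map_comp, Category.assoc, Category.assoc,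
      hV.SpecMap_appLE_fromSpec f hU hUV, hα, hβ, ← Category.assoc, ha₁, hb₁, w]
  letI algA : Algebra Γ(Y, V) Γ(X, U) := (f.appLE V U hUV).hom.toAlgebra
  letI algC : Algebra Γ(Y, V) C := β.hom.toAlgebra
  haveI : Algebra.FormallySmooth Γ(Y, V) Γ(X, U) := hsm
  let αAlg : Γ(X, U) →ₐ[Γ(Y, V)] C ⧸ I :=
    { toRingHom := α.hom
      commutes' := fun r => by
        have := congrArg (fun F => F.hom r) hcomm
        exact this }
  obtain ⟨γ, hγ⟩ := Algebra.FormallySmooth.comp_surjective Γ(Y, V) Γ(X, U) I hI αAlg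
  have hγ1 : CommRingCat.ofHom γ.toRingHom ≫ CommRingCat.ofHom (Ideal.Quotient.mk I) = α := by
    ext x
    exact congrArg (fun F => F x) hγ
  have hγ2 : f.appLE V U hUV ≫ CommRingCat.ofHom γ.toRingHom = β := by
    ext r
    exact γ.commutes r
  refine ⟨Spec.map (CommRingCat.ofHom γ.toRingHom) ≫ hU.fromSpec, ?_, ?_⟩
  · rw [← Category.assoc, ← Spec.map_comp, hγ1, hα, ha₁]
  · rw [Category.assoc, ← hV.SpecMap_appLE_fromSpec f hU hUV, ← Category.assoc, ← Spec.map_comp,
      hγ2, hβ, hb₁]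

/-- Uniqueness of `Good` lifts along a first order thickening for formally unramified `f`. -/
theorem good_unique {T T' : Scheme.{u}} (t : T ⟶ T') (ht : MoreMor.IsFirstOrderThickening t)
    [FormallyUnramified f] (a : T ⟶ X) (b : T' ⟶ Y) (W : Scheme.{u}) (ι : W ⟶ T')
    (l l' : W ⟶ X) (g1 : LiftGlue.Good t a f b ι l) (g2 : LiftGlue.Good t a f b ι l') : l = l' := by
  haveI : IsClosedImmersion t := ht.1.1
  have hnil : IsNilpotent (pullback.snd t ι).ker := ⟨2, by
    rw [sq]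
    exact ThickBC.ker_mul_ker_eq_bot_of_isPullback (IsPullback.of_hasPullback t ι).flip ht.2⟩
  exact FormallyUnramified.hom_ext (pullback.snd t ι) hnil f (g1.1.trans g2.1.symm)
    (g1.2.trans g2.2.symm)

/-- The affine-local ring condition implies the infinitesimal lifting property. -/
theorem isFormallyEtaleHom_of_affine
    (h : ∀ (U : X.Opens) (V : Y.Opens) (hU : IsAffineOpen U) (hV : IsAffineOpen V)
      (hUV : U ≤ f ⁻¹ᵁ V),
      letI := (f.appLE V U hUV).hom.toAlgebra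
      Algebra.FormallyEtale Γ(Y, V) Γ(X, U)) :
    MoreMor.IsFormallyEtaleHom f := by
  classical
  haveI hfu : FormallyUnramified f := ⟨fun {V} hV {U} hU e => by
    letI := (f.appLE V U e).hom.toAlgebra
    haveI := h U V hU hV e
    show Algebra.FormallyUnramified Γ(Y, V) Γ(X, U)
    infer_instance⟩
  intro C _ I hI a₀ b₀ w
  have ht := ThickBC.isFirstOrderThickening_SpecMap_mk I hI
  haveI : IsClosedImmersion (Spec.map (CommRingCat.ofHom (Ideal.Quotient.mk I))) := ht.1.1
  haveI : Surjective (Spec.map (CommRingCat.ofHom (Ideal.Quotient.mk I))) := ht.1.2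
  -- local existence
  have hloc : ∀ x : Spec (CommRingCat.of C), ∃ W : (Spec (CommRingCat.of C)).Opens, x ∈ W ∧
      ∃ l : (W : Scheme.{u}) ⟶ X,
        LiftGlue.Good (Spec.map (CommRingCat.ofHom (Ideal.Quotient.mk I))) a₀ f b₀ W.ι l := by
    intro x
    obtain ⟨xb, rfl⟩ := (Spec.map (CommRingCat.ofHom (Ideal.Quotient.mk I))).surjective x
    obtain ⟨_, ⟨V, hV, rfl⟩, hxV, -⟩ :=
      Y.isBasis_affineOpens.exists_subset_of_mem_open (Set.mem_univ (f (a₀ xb))) isOpen_univ
    obtain ⟨_, ⟨U, hU, rfl⟩, hxU, hUV⟩ :=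
      X.isBasis_affineOpens.exists_subset_of_mem_open (show a₀ xb ∈ (f ⁻¹ᵁ V : X.Opens) from hxV)
        (f ⁻¹ᵁ V).isOpen
    obtain ⟨O, hOopen, hO⟩ := (Spec.map (CommRingCat.ofHom
      (Ideal.Quotient.mk I))).isClosedEmbedding.isInducing.isOpen_iff.mp (a₀ ⁻¹ᵁ U).isOpen
    have hxO : (Spec.map (CommRingCat.ofHom (Ideal.Quotient.mk I))) xb ∈ O := by
      have : xb ∈ (Spec.map (CommRingCat.ofHom (Ideal.Quotient.mk I))) ⁻¹' O := by
        rw [hO]; exact hxU
      exact this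
    obtain ⟨_, ⟨W₀, hW₀, rfl⟩, hxW₀, hW₀O⟩ :=
      (Spec (CommRingCat.of C)).isBasis_affineOpens.exists_subset_of_mem_open hxO hOopen
    suffices hmain : ∀ W : (Spec (CommRingCat.of C)).Opens, IsAffineOpen W → (W : Set _) ⊆ O →
        ∃ l : (W : Scheme.{u}) ⟶ X,
          LiftGlue.Good (Spec.map (CommRingCat.ofHom (Ideal.Quotient.mk I))) a₀ f b₀ W.ι l from
      ⟨W₀, hxW₀, hmain W₀ hW₀ hW₀O⟩
    intro W hW hWO
    haveI : IsAffine (W : Scheme.{u}) := hW
    have hex := LiftGlue.existsUnique_lift_of_affine_target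
      (pullback.snd (Spec.map (CommRingCat.ofHom (Ideal.Quotient.mk I))) W.ι)
      (ThickBC.isFirstOrderThickening_of_isPullback (IsPullback.of_hasPullback _ W.ι).flip ht)
      (pullback.fst (Spec.map (CommRingCat.ofHom (Ideal.Quotient.mk I))) W.ι ≫ a₀) f (W.ι ≫ b₀)
      (by rw [← Category.assoc, ← pullback.condition, Category.assoc, w, Category.assoc])
      (fun T₀ a => Set.range a ⊆ U)
      (fun T₀ T₁ m a hr => by
        rintro _ ⟨z, rfl⟩
        rw [Scheme.Hom.comp_apply]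
        exact hr ⟨_, rfl⟩)
      (by
        rintro _ ⟨z, rfl⟩
        rw [Scheme.Hom.comp_apply]
        have hz : (pullback.fst (Spec.map (CommRingCat.ofHom (Ideal.Quotient.mk I))) W.ι) z ∈
            (Spec.map (CommRingCat.ofHom (Ideal.Quotient.mk I))) ⁻¹' O := by
          show (Spec.map (CommRingCat.ofHom (Ideal.Quotient.mk I)))
            ((pullback.fst (Spec.map (CommRingCat.ofHom (Ideal.Quotient.mk I))) W.ι) z) ∈ O
          rw [← Scheme.Hom.comp_apply, pullback.condition, Scheme.Hom.comp_apply]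
          exact hWO
            ((pullback.snd (Spec.map (CommRingCat.ofHom (Ideal.Quotient.mk I))) W.ι) z).2
        rw [hO] at hz
        exact hz)
      (fun A _ I' hI' a' b' ha' w' => by
        obtain ⟨l, hl1, hl2⟩ := exists_lift_standard_of_range f hU hV hUV
          (by
            letI := (f.appLE V U hUV).hom.toAlgebra
            haveI := h U V hU hV hUV
            infer_instance) A I' hI' a' b' ha' w'
        refine ⟨l, ⟨hl1, hl2⟩, ?_⟩
        rintro l' ⟨h1, h2⟩
        have ht' := ThickBC.isFirstOrderThickening_SpecMap_mk I' hI'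
        haveI : IsClosedImmersion (Spec.map (CommRingCat.ofHom (Ideal.Quotient.mk I'))) := ht'.1.1
        exact FormallyUnramified.hom_ext (Spec.map (CommRingCat.ofHom (Ideal.Quotient.mk I')))
          ⟨2, by rw [sq]; exact ht'.2⟩ f (h1.trans hl1.symm) (h2.trans hl2.symm))
    obtain ⟨l, hl, -⟩ := hex
    exact ⟨l, hl⟩
  choose W hxW l hl using hloc
  have hcov : TopologicalSpace.IsOpenCover W := by
    rw [TopologicalSpace.IsOpenCover, eq_top_iff]
    intro x _
    exact TopologicalSpace.Opens.mem_iSup.mpr ⟨x, hxW x⟩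
  exact LiftGlue.existsUnique_lift_of_cover
    (fun W' ι _ l₁ l₂ g1 g2 => good_unique f _ ht a₀ b₀ W' ι l₁ l₂ g1 g2)
    ((Spec (CommRingCat.of C)).openCoverOfIsOpenCover W hcov) (fun x => ⟨l x, hl x⟩)

/-- The infinitesimal lifting property implies the affine-local ring condition. -/
theorem affine_of_isFormallyEtaleHom (hf : MoreMor.IsFormallyEtaleHom f)
    (U : X.Opens) (V : Y.Opens) (hU : IsAffineOpen U) (hV : IsAffineOpen V)
    (hUV : U ≤ f ⁻¹ᵁ V) :
    letI := (f.appLE V U hUV).hom.toAlgebra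
    Algebra.FormallyEtale Γ(Y, V) Γ(X, U) := by
  classical
  letI algA : Algebra Γ(Y, V) Γ(X, U) := (f.appLE V U hUV).hom.toAlgebra
  show Algebra.FormallyEtale Γ(Y, V) Γ(X, U)
  rw [Algebra.FormallyEtale.iff_comp_bijective]
  intro C _ _ I hI
  have ht := ThickBC.isFirstOrderThickening_SpecMap_mk I hI
  haveI : Surjective (Spec.map (CommRingCat.ofHom (Ideal.Quotient.mk I))) := ht.1.2
  have halg : ∀ g : Γ(X, U) →ₐ[Γ(Y, V)] C, f.appLE V U hUV ≫ CommRingCat.ofHom g.toRingHom =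
      CommRingCat.ofHom (algebraMap Γ(Y, V) C) := fun g => CommRingCat.hom_ext g.comp_algebraMap
  have halg' : ∀ g : Γ(X, U) →ₐ[Γ(Y, V)] C ⧸ I, f.appLE V U hUV ≫ CommRingCat.ofHom g.toRingHom =
      CommRingCat.ofHom (algebraMap Γ(Y, V) C) ≫ CommRingCat.ofHom (Ideal.Quotient.mk I) := fun g =>
    CommRingCat.hom_ext g.comp_algebraMap
  -- the scheme-level lifting problem attached to `ḡ`
  have hw : ∀ g : Γ(X, U) →ₐ[Γ(Y, V)] C ⧸ I,
      Spec.map (CommRingCat.ofHom (Ideal.Quotient.mk I)) ≫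
        (Spec.map (CommRingCat.ofHom (algebraMap Γ(Y, V) C)) ≫ hV.fromSpec) =
      (Spec.map (CommRingCat.ofHom g.toRingHom) ≫ hU.fromSpec) ≫ f := by
    intro g
    rw [Category.assoc, ← hV.SpecMap_appLE_fromSpec f hU hUV, ← Category.assoc, ← Category.assoc,
      ← Spec.map_comp, ← Spec.map_comp, halg']
  have hlift : ∀ g : Γ(X, U) →ₐ[Γ(Y, V)] C,
      Spec.map (CommRingCat.ofHom (Ideal.Quotient.mk I)) ≫
        (Spec.map (CommRingCat.ofHom g.toRingHom) ≫ hU.fromSpec) =
      Spec.map (CommRingCat.ofHom ((Ideal.Quotient.mkₐ Γ(Y, V) I).comp g).toRingHom) ≫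
        hU.fromSpec ∧
      (Spec.map (CommRingCat.ofHom g.toRingHom) ≫ hU.fromSpec) ≫ f =
        Spec.map (CommRingCat.ofHom (algebraMap Γ(Y, V) C)) ≫ hV.fromSpec := by
    intro g
    refine ⟨?_, ?_⟩
    · rw [← Category.assoc, ← Spec.map_comp]
      rfl
    · rw [Category.assoc, ← hV.SpecMap_appLE_fromSpec f hU hUV, ← Category.assoc,
        ← Spec.map_comp, halg]
  constructor
  · intro g₁ g₂ hg
    obtain ⟨l, -, hluniq⟩ := hf C I hI _ _ (hw ((Ideal.Quotient.mkₐ Γ(Y, V) I).comp g₁))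
    have e1 := hluniq _ (hlift g₁)
    have e2 := hluniq _ (by
      have h2 := hlift g₂
      show Spec.map (CommRingCat.ofHom (Ideal.Quotient.mk I)) ≫
          (Spec.map (CommRingCat.ofHom g₂.toRingHom) ≫ hU.fromSpec) =
        Spec.map (CommRingCat.ofHom ((Ideal.Quotient.mkₐ Γ(Y, V) I).comp g₁).toRingHom) ≫
          hU.fromSpec ∧ _
      rw [show (Ideal.Quotient.mkₐ Γ(Y, V) I).comp g₁ = (Ideal.Quotient.mkₐ Γ(Y, V) I).comp g₂
        from hg]
      exact h2)
    have e3 : Spec.map (CommRingCat.ofHom g₁.toRingHom) =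
        Spec.map (CommRingCat.ofHom g₂.toRingHom) :=
      (cancel_mono hU.fromSpec).mp (e1.trans e2.symm)
    rw [Spec.map_inj] at e3
    exact AlgHom.ext fun x => congr($e3 x)
  · intro g
    obtain ⟨l, ⟨hl1, hl2⟩, -⟩ := hf C I hI _ _ (hw g)
    have hrange : Set.range l ⊆ Set.range hU.fromSpec := by
      rintro _ ⟨y, rfl⟩
      obtain ⟨x, rfl⟩ := (Spec.map (CommRingCat.ofHom (Ideal.Quotient.mk I))).surjective y
      have e := congrArg (fun F : Spec (CommRingCat.of (C ⧸ I)) ⟶ X => F x) hl1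
      simp only [Scheme.Hom.comp_apply] at e
      rw [e]
      exact ⟨_, rfl⟩
    let l₁ : Spec (CommRingCat.of C) ⟶ Spec Γ(X, U) := IsOpenImmersion.lift hU.fromSpec l hrange
    have hl₁ : l₁ ≫ hU.fromSpec = l := IsOpenImmersion.lift_fac _ _ _
    let γ : Γ(X, U) ⟶ CommRingCat.of C := Spec.preimage l₁
    have hγ : Spec.map γ = l₁ := Spec.map_preimage l₁
    have hγalg : f.appLE V U hUV ≫ γ = CommRingCat.ofHom (algebraMap Γ(Y, V) C) := by
      apply Spec.map_injective
      rw [← cancel_mono hV.fromSpec, Spec.map_comp, Category.assoc,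
        hV.SpecMap_appLE_fromSpec f hU hUV, hγ, ← Category.assoc, hl₁, hl2]
    have hγmk : γ ≫ CommRingCat.ofHom (Ideal.Quotient.mk I) = CommRingCat.ofHom g.toRingHom := by
      apply Spec.map_injective
      rw [← cancel_mono hU.fromSpec, Spec.map_comp, Category.assoc, hγ, hl₁, hl1]
    refine ⟨{ toRingHom := γ.hom
              commutes' := fun r => congrArg (fun F => F.hom r) hγalg }, ?_⟩
    apply AlgHom.ext
    intro x
    exact congrArg (fun F => F.hom x) hγmk

end Groth.Agent.Lib.Helper61.FEtHom
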