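import Groth.Agent.Lib.Helper61.ThickBC
import Mathlib.AlgebraicGeometry.Gluing
import Mathlib.AlgebraicGeometry.Cover.Open

/-!
# Gluing lifts along thickenings from affine pieces (helper61)
-/

set_option autoImplicit false
universe u
open AlgebraicGeometry CategoryTheory Limits

namespace Groth.Agent.Lib.Helper61.LiftGlue

variable {T T' Y S : Scheme.{u}} (t : T ⟶ T') (a : T ⟶ Y) (f : Y ⟶ S) (b : T' ⟶ S)

/-- `l : W ⟶ Y` solves the lifting problem `(t, a, f, b)` restricted along `ι : W ⟶ T'`. -/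
def Good {W : Scheme.{u}} (ι : W ⟶ T') (l : W ⟶ Y) : Prop :=
  pullback.snd t ι ≫ l = pullback.fst t ι ≫ a ∧ l ≫ f = ι ≫ b

variable {t a f b}

theorem good_comp {W W₀ : Scheme.{u}} {ι : W ⟶ T'} {l : W ⟶ Y} (h : Good t a f b ι l)
    (m : W₀ ⟶ W) : Good t a f b (m ≫ ι) (m ≫ l) := by
  obtain ⟨h1, h2⟩ := h
  refine ⟨?_, by rw [Category.assoc, h2, Category.assoc]⟩
  let mt : pullback t (m ≫ ι) ⟶ pullback t ι :=
    pullback.lift (pullback.fst t (m ≫ ι)) (pullback.snd t (m ≫ ι) ≫ m)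
      (by rw [pullback.condition, Category.assoc])
  have e1 : mt ≫ pullback.snd t ι = pullback.snd t (m ≫ ι) ≫ m := pullback.lift_snd _ _ _
  have e2 : mt ≫ pullback.fst t ι = pullback.fst t (m ≫ ι) := pullback.lift_fst _ _ _
  rw [← Category.assoc, ← e1, Category.assoc, h1, ← Category.assoc, e2]

theorem good_of_lift {l : T' ⟶ Y} (h1 : t ≫ l = a) (h2 : l ≫ f = b) {W : Scheme.{u}}
    (ι : W ⟶ T') : Good t a f b ι (ι ≫ l) := by
  refine ⟨?_, by rw [Category.assoc, h2]⟩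
  rw [← Category.assoc, ← pullback.condition, Category.assoc, h1]

/-- Unique lifts on all affine opens glue to a unique global lift. -/
theorem existsUnique_lift_of_affine
    (H : ∀ (W : Scheme.{u}) [IsAffine W] (ι : W ⟶ T') [IsOpenImmersion ι],
      ∃! l : W ⟶ Y, Good t a f b ι l) :
    ∃! l : T' ⟶ Y, t ≫ l = a ∧ l ≫ f = b := by
  classical
  let 𝒰 := T'.affineCover
  choose l hl hluniq using fun i => H (𝒰.X i) (𝒰.f i)
  have hcompat : ∀ i j, pullback.fst (𝒰.f i) (𝒰.f j) ≫ l i = pullback.snd (𝒰.f i) (𝒰.f j) ≫ l j := by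
    intro i j
    refine Scheme.Cover.hom_ext (pullback (𝒰.f i) (𝒰.f j)).affineCover _ _ fun k => ?_
    set w := (pullback (𝒰.f i) (𝒰.f j)).affineCover.f k with hw
    have g1 : Good t a f b ((w ≫ pullback.fst _ _) ≫ 𝒰.f i) ((w ≫ pullback.fst _ _) ≫ l i) :=
      good_comp (hl i) _
    have g2 : Good t a f b ((w ≫ pullback.snd _ _) ≫ 𝒰.f j) ((w ≫ pullback.snd _ _) ≫ l j) :=
      good_comp (hl j) _
    have hι : (w ≫ pullback.fst _ _) ≫ 𝒰.f i = (w ≫ pullback.snd _ _) ≫ 𝒰.f j := by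
      rw [Category.assoc, Category.assoc, pullback.condition]
    rw [← hι] at g2
    obtain ⟨l₀, -, hl₀⟩ := H _ ((w ≫ pullback.fst _ _) ≫ 𝒰.f i)
    rw [← Category.assoc, ← Category.assoc, hl₀ _ g1, hl₀ _ g2]
  refine ⟨𝒰.glueMorphisms l hcompat, ⟨?_, ?_⟩, ?_⟩
  · have key : ∀ j : 𝒰.I₀, pullback.fst t (𝒰.f j) ≫ t ≫ 𝒰.glueMorphisms l hcompat =
        pullback.fst t (𝒰.f j) ≫ a := by
      intro j
      rw [← Category.assoc, pullback.condition, Category.assoc, Scheme.Cover.ι_glueMorphisms]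
      exact (hl j).1
    exact Scheme.Cover.hom_ext (𝒰.pullback₁ t) _ _ fun i => key i
  · refine Scheme.Cover.hom_ext 𝒰 _ _ fun i => ?_
    rw [← Category.assoc, Scheme.Cover.ι_glueMorphisms]
    exact (hl i).2
  · rintro l' ⟨h1, h2⟩
    refine Scheme.Cover.hom_ext 𝒰 _ _ fun i => ?_
    rw [Scheme.Cover.ι_glueMorphisms]
    exact hluniq i _ (good_of_lift h1 h2 _)

/-- Local existence on an open cover plus uniqueness on all opens gives a unique global lift. -/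
theorem existsUnique_lift_of_cover
    (hU : ∀ (W : Scheme.{u}) (ι : W ⟶ T') [IsOpenImmersion ι] (l l' : W ⟶ Y),
      Good t a f b ι l → Good t a f b ι l' → l = l')
    (𝒰 : T'.OpenCover) (hE : ∀ i, ∃ l : 𝒰.X i ⟶ Y, Good t a f b (𝒰.f i) l) :
    ∃! l : T' ⟶ Y, t ≫ l = a ∧ l ≫ f = b := by
  classical
  choose l hl using hE
  have hcompat : ∀ i j, pullback.fst (𝒰.f i) (𝒰.f j) ≫ l i = pullback.snd (𝒰.f i) (𝒰.f j) ≫ l j := by
    intro i j
    have g1 : Good t a f b (pullback.fst (𝒰.f i) (𝒰.f j) ≫ 𝒰.f i)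
        (pullback.fst (𝒰.f i) (𝒰.f j) ≫ l i) := good_comp (hl i) _
    have g2 : Good t a f b (pullback.snd (𝒰.f i) (𝒰.f j) ≫ 𝒰.f j)
        (pullback.snd (𝒰.f i) (𝒰.f j) ≫ l j) := good_comp (hl j) _
    rw [← pullback.condition] at g2
    exact hU _ _ _ _ g1 g2
  refine ⟨𝒰.glueMorphisms l hcompat, ⟨?_, ?_⟩, ?_⟩
  · have key : ∀ j : 𝒰.I₀, pullback.fst t (𝒰.f j) ≫ t ≫ 𝒰.glueMorphisms l hcompat =
        pullback.fst t (𝒰.f j) ≫ a := by
      intro j
      rw [← Category.assoc, pullback.condition, Category.assoc, Scheme.Cover.ι_glueMorphisms]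
      exact (hl j).1
    exact Scheme.Cover.hom_ext (𝒰.pullback₁ t) _ _ fun i => key i
  · refine Scheme.Cover.hom_ext 𝒰 _ _ fun i => ?_
    rw [← Category.assoc, Scheme.Cover.ι_glueMorphisms]
    exact (hl i).2
  · rintro l' ⟨h1, h2⟩
    refine Scheme.Cover.hom_ext 𝒰 _ _ fun i => ?_
    rw [Scheme.Cover.ι_glueMorphisms]
    exact hU _ _ _ _ (good_of_lift h1 h2 _) (hl i)

/-- Transport of a unique lifting property from the standard affine thickenings
`Spec (A ⧸ I) ⟶ Spec A` to any first order thickening with affine target.  `P` is a condition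
on the top map stable under precomposition. -/
theorem existsUnique_lift_of_affine_target {T W Y S : Scheme.{u}} [IsAffine W] (t : T ⟶ W)
    (ht : MoreMor.IsFirstOrderThickening t) (a : T ⟶ Y) (f : Y ⟶ S) (b : W ⟶ S)
    (w : t ≫ b = a ≫ f)
    (P : ∀ (T₀ : Scheme.{u}), (T₀ ⟶ Y) → Prop)
    (hP : ∀ (T₀ T₁ : Scheme.{u}) (m : T₁ ⟶ T₀) (a₀ : T₀ ⟶ Y), P T₀ a₀ → P T₁ (m ≫ a₀))
    (ha : P T a)
    (H : ∀ (A : Type u) [CommRing A] (I : Ideal A), I ^ 2 = ⊥ →
      ∀ (a₀ : Spec (CommRingCat.of (A ⧸ I)) ⟶ Y) (b₀ : Spec (CommRingCat.of A) ⟶ S), P _ a₀ →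
        Spec.map (CommRingCat.ofHom (Ideal.Quotient.mk I)) ≫ b₀ = a₀ ≫ f →
        ∃! l : Spec (CommRingCat.of A) ⟶ Y,
          Spec.map (CommRingCat.ofHom (Ideal.Quotient.mk I)) ≫ l = a₀ ∧ l ≫ f = b₀) :
    ∃! l : W ⟶ Y, t ≫ l = a ∧ l ≫ f = b := by
  classical
  haveI : IsClosedImmersion t := ht.1.1
  have haff := IsClosedImmersion.isAffine_surjective_of_isAffine (f := t)
  haveI : IsAffine T := haff.1
  have hsurj : Function.Surjective t.appTop.hom := haff.2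
  let I : Ideal Γ(W, ⊤) := RingHom.ker t.appTop.hom
  have hI : I ^ 2 = ⊥ := by
    rw [eq_bot_iff, sq, Ideal.mul_le]
    intro x hx y hy
    rw [Ideal.mem_bot]
    exact ThickBC.sq_zero t ht.2 ⊤ x y (RingHom.mem_ker.mp hx) (RingHom.mem_ker.mp hy)
  let ρ : Γ(W, ⊤) ⧸ I ≃+* Γ(T, ⊤) := RingHom.quotientKerEquivOfSurjective hsurj
  let eT : T ≅ Spec (CommRingCat.of (Γ(W, ⊤) ⧸ I)) :=
    T.isoSpec ≪≫ Scheme.Spec.mapIso ρ.toCommRingCatIso.op
  have heT : eT.hom = T.isoSpec.hom ≫ Spec.map (CommRingCat.ofHom ρ.toRingHom) := rfl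
  have hρ : CommRingCat.ofHom (Ideal.Quotient.mk I) ≫ CommRingCat.ofHom ρ.toRingHom = t.appTop := by
    ext x
    rfl
  have key : eT.hom ≫ Spec.map (CommRingCat.ofHom (Ideal.Quotient.mk I)) = t ≫ W.isoSpec.hom := by
    rw [heT, Category.assoc, ← Spec.map_comp, hρ, Scheme.isoSpec_hom_naturality]
  have key' : Spec.map (CommRingCat.ofHom (Ideal.Quotient.mk I)) ≫ W.isoSpec.inv = eT.inv ≫ t := by
    rw [Iso.eq_inv_comp, ← Category.assoc, key, Category.assoc, Iso.hom_inv_id, Category.comp_id]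
  obtain ⟨l₁, ⟨hl1, hl2⟩, hl₁uniq⟩ := H Γ(W, ⊤) I hI (eT.inv ≫ a) (W.isoSpec.inv ≫ b)
    (hP _ _ _ _ ha) (by rw [← Category.assoc, key', Category.assoc, w, Category.assoc])
  refine ⟨W.isoSpec.hom ≫ l₁, ⟨?_, ?_⟩, ?_⟩
  · rw [← Category.assoc, ← key, Category.assoc, hl1, Iso.hom_inv_id_assoc]
  · rw [Category.assoc, hl2, Iso.hom_inv_id_assoc]
  · rintro l' ⟨h1, h2⟩
    rw [← hl₁uniq (W.isoSpec.inv ≫ l') ⟨by
      rw [← Category.assoc, key', Category.assoc, h1], by rw [Category.assoc, h2]⟩,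
      Iso.hom_inv_id_assoc]

/-- A unique lifting property against the standard affine first order thickenings
`Spec (A ⧸ I) ⟶ Spec A` (for top maps satisfying a condition `P` stable under precomposition)
extends to all first order thickenings of schemes. -/
theorem existsUnique_lift_of_standard {T T' Y S : Scheme.{u}} (t : T ⟶ T')
    (ht : MoreMor.IsFirstOrderThickening t) (a : T ⟶ Y) (f : Y ⟶ S) (b : T' ⟶ S)
    (w : t ≫ b = a ≫ f)
    (P : ∀ (T₀ : Scheme.{u}), (T₀ ⟶ Y) → Prop)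
    (hP : ∀ (T₀ T₁ : Scheme.{u}) (m : T₁ ⟶ T₀) (a₀ : T₀ ⟶ Y), P T₀ a₀ → P T₁ (m ≫ a₀))
    (ha : P T a)
    (H : ∀ (A : Type u) [CommRing A] (I : Ideal A), I ^ 2 = ⊥ →
      ∀ (a₀ : Spec (CommRingCat.of (A ⧸ I)) ⟶ Y) (b₀ : Spec (CommRingCat.of A) ⟶ S), P _ a₀ →
        Spec.map (CommRingCat.ofHom (Ideal.Quotient.mk I)) ≫ b₀ = a₀ ≫ f →
        ∃! l : Spec (CommRingCat.of A) ⟶ Y,
          Spec.map (CommRingCat.ofHom (Ideal.Quotient.mk I)) ≫ l = a₀ ∧ l ≫ f = b₀) :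
    ∃! l : T' ⟶ Y, t ≫ l = a ∧ l ≫ f = b := by
  apply existsUnique_lift_of_affine
  intro W _ ι _
  exact existsUnique_lift_of_affine_target (pullback.snd t ι)
    (ThickBC.isFirstOrderThickening_of_isPullback (IsPullback.of_hasPullback t ι).flip ht)
    (pullback.fst t ι ≫ a) f (ι ≫ b)
    (by rw [← Category.assoc, ← pullback.condition, Category.assoc, w, Category.assoc])
    P hP (hP _ _ _ _ ha) H

end Groth.Agent.Lib.Helper61.LiftGlue
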