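import Groth.Prelude.Def_CAlgX
import Mathlib.RingTheory.Kaehler.Basic
import Mathlib.RingTheory.Kaehler.TensorProduct
import Mathlib.RingTheory.Derivation.ToSquareZero
import Mathlib.RingTheory.Filtration
import Mathlib.RingTheory.Ideal.Cotangent
import Mathlib.RingTheory.Smooth.Kaehler

/-!
# EGA 0_IV 22.6.1: adic formal smoothness of a quotient (helper61)
-/

set_option autoImplicit false
universe u
open TensorProduct KaehlerDifferential

namespace Groth.Agent.Lib.Helper61.AdicQuot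

variable {A B : Type u} [CommRing A] [CommRing B] [Algebra A B]

/-- Artin–Rees consequence: `J ⊓ Q'^n ≤ Q' * J` for some `n ≥ 1`. -/
theorem exists_pow_inf_le_mul [IsNoetherianRing B] (Q' J : Ideal B) :
    ∃ n : ℕ, 1 ≤ n ∧ Q' ^ n ⊓ J ≤ Q' * J := by
  obtain ⟨k, hk⟩ := Ideal.exists_pow_inf_eq_pow_smul Q' (M := B) J
  refine ⟨k + 1, Nat.le_add_left 1 k, ?_⟩
  have h := hk (k + 1) (Nat.le_succ k)
  simp only [smul_eq_mul, Ideal.mul_top, Nat.add_sub_cancel_left, pow_one] at h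
  rw [h]
  exact Ideal.mul_mono_right inf_le_right

/-- (⇒) of EGA 0_IV 22.6.1. -/
theorem exists_leftInverse_of_smooth [IsNoetherianRing B] (I J : Ideal B) (Q : Ideal (B ⧸ J))
    (hQ : ∃ n : ℕ, (I.map (Ideal.Quotient.mk J)) ^ n ≤ Q)
    (hC : CAlgX.IsAdicFormallySmooth A (B ⧸ J) (I.map (Ideal.Quotient.mk J))) :
    ∃ g : ((B ⧸ J) ⧸ Q) ⊗[B] ((B ⧸ J) ⊗[B] Ω[B⁄A]) →ₗ[(B ⧸ J) ⧸ Q]
          ((B ⧸ J) ⧸ Q) ⊗[B] (RingHom.ker (algebraMap B (B ⧸ J))).Cotangent,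
        g ∘ₗ LinearMap.baseChange ((B ⧸ J) ⧸ Q)
          (KaehlerDifferential.kerCotangentToTensor A B (B ⧸ J)) = LinearMap.id := by
  classical
  have hJ₀ : RingHom.ker (algebraMap B (B ⧸ J)) = J := by
    rw [Ideal.Quotient.algebraMap_eq, Ideal.mk_ker]
  let Q' : Ideal B := Q.comap (Ideal.Quotient.mk J)
  have hJQ' : J ≤ Q' := fun x hx => by
    show Ideal.Quotient.mk J x ∈ Q
    rw [Ideal.Quotient.eq_zero_iff_mem.mpr hx]
    exact Q.zero_mem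
  obtain ⟨n, hn1, hAR⟩ := exists_pow_inf_le_mul Q' J
  let a : Ideal B := Q' * J ⊔ Q' ^ n
  let Nk : Ideal (B ⧸ a) := J.map (Ideal.Quotient.mk a)
  have hsq : Nk ^ 2 = ⊥ := by
    rw [← Ideal.map_pow, Ideal.map_eq_bot_iff_le_ker, Ideal.mk_ker]
    calc J ^ 2 = J * J := sq J
      _ ≤ Q' * J := Ideal.mul_mono_left hJQ'
      _ ≤ a := le_sup_left
  let ψ : (B ⧸ J) →ₐ[A] (B ⧸ a) ⧸ Nk :=
    Ideal.Quotient.liftₐ J ((Ideal.Quotient.mkₐ A Nk).comp (Ideal.Quotient.mkₐ A a)) (by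
      intro x hx
      show Ideal.Quotient.mk Nk (Ideal.Quotient.mk a x) = 0
      exact Ideal.Quotient.eq_zero_iff_mem.mpr (Ideal.mem_map_of_mem _ hx))
  obtain ⟨n₀, hn₀⟩ := hQ
  have hψ : ∃ k, ∀ x ∈ (I.map (Ideal.Quotient.mk J)) ^ k, ψ x = 0 := by
    refine ⟨n₀ * n, fun x hx => ?_⟩
    have hx1 : x ∈ Q ^ n := by
      rw [pow_mul] at hx
      exact Ideal.pow_right_mono hn₀ n hx
    have hQmap : Q = Q'.map (Ideal.Quotient.mk J) :=
      (Ideal.map_comap_of_surjective _ Ideal.Quotient.mk_surjective Q).symm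
    rw [hQmap, ← Ideal.map_pow] at hx1
    obtain ⟨b, hb, rfl⟩ := (Ideal.mem_map_iff_of_surjective _ Ideal.Quotient.mk_surjective).mp hx1
    show Ideal.Quotient.mk Nk (Ideal.Quotient.mk a b) = 0
    rw [Ideal.Quotient.eq_zero_iff_mem.mpr (show b ∈ a from (le_sup_right : Q' ^ n ≤ a) hb), map_zero]
  obtain ⟨χ, hχ⟩ := hC (B ⧸ a) Nk hsq ψ hψ
  -- the lift as a map from `B` and the associated derivation
  let f : B →ₐ[A] (B ⧸ a) := χ.comp (Ideal.Quotient.mkₐ A J)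
  have he : (Ideal.Quotient.mkₐ A Nk).comp f = IsScalarTower.toAlgHom A B ((B ⧸ a) ⧸ Nk) := by
    ext b
    have h1 := congrArg (fun φ => φ (Ideal.Quotient.mk J b)) hχ
    exact h1
  let d : Derivation A B Nk := derivationToSquareZeroOfLift Nk hsq f he
  have hd : ∀ x ∈ J, (((-d) x : Nk) : B ⧸ a) = Ideal.Quotient.mk a x := by
    intro x hx
    have hfx : f x = 0 := by
      show χ (Ideal.Quotient.mk J x) = 0
      rw [Ideal.Quotient.eq_zero_iff_mem.mpr hx, map_zero]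
    show ((-(d x) : Nk) : B ⧸ a) = _
    rw [Submodule.coe_neg, derivationToSquareZeroOfLift_apply, hfx, zero_sub, neg_neg]
    rfl
  let ℓ₀ : Ω[B⁄A] →ₗ[B] Nk := (-d).liftKaehlerDifferential
  -- the comparison map `Nk → K ⊗ J/J²`
  let p : RingHom.ker (algebraMap B (B ⧸ J)) →ₗ[B] Nk :=
    { toFun := fun x => ⟨Ideal.Quotient.mk a x.1, Ideal.mem_map_of_mem _ (hJ₀.le x.2)⟩
      map_add' := fun x y => Subtype.ext (map_add _ _ _)
      map_smul' := fun b x => Subtype.ext (by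
        show Ideal.Quotient.mk a (b * x.1) = b • Ideal.Quotient.mk a x.1
        rw [map_mul, Algebra.smul_def]
        rfl) }
  have hp : Function.Surjective p := by
    rintro ⟨y, hy⟩
    obtain ⟨x, hx, rfl⟩ := (Ideal.mem_map_iff_of_surjective _ Ideal.Quotient.mk_surjective).mp hy
    exact ⟨⟨x, hJ₀.ge hx⟩, rfl⟩
  let r : RingHom.ker (algebraMap B (B ⧸ J)) →ₗ[B]
      ((B ⧸ J) ⧸ Q) ⊗[B] (RingHom.ker (algebraMap B (B ⧸ J))).Cotangent :=
    (TensorProduct.mk B ((B ⧸ J) ⧸ Q) (RingHom.ker (algebraMap B (B ⧸ J))).Cotangent 1) ∘ₗ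
      (RingHom.ker (algebraMap B (B ⧸ J))).toCotangent
  have hmul : ∀ x ∈ Q' * J, ∃ hx : x ∈ RingHom.ker (algebraMap B (B ⧸ J)), r ⟨x, hx⟩ = 0 := by
    intro x hx
    induction hx using Submodule.mul_induction_on' with
    | mem_mul_mem q hq j hj =>
      have hj' : j ∈ RingHom.ker (algebraMap B (B ⧸ J)) := hJ₀.ge hj
      refine ⟨Ideal.mul_mem_left _ _ hj', ?_⟩
      have h1 : (⟨q * j, Ideal.mul_mem_left _ _ hj'⟩ : RingHom.ker (algebraMap B (B ⧸ J))) =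
          q • ⟨j, hj'⟩ := rfl
      show (1 : (B ⧸ J) ⧸ Q) ⊗ₜ[B] (RingHom.ker (algebraMap B (B ⧸ J))).toCotangent _ = 0
      rw [h1, map_smul, ← TensorProduct.smul_tmul]
      have h2' : q • (1 : (B ⧸ J) ⧸ Q) = algebraMap B ((B ⧸ J) ⧸ Q) q := by
        exact (Algebra.algebraMap_eq_smul_one q).symm
      rw [h2']
      have h2 : algebraMap B ((B ⧸ J) ⧸ Q) q = 0 := by
        show Ideal.Quotient.mk Q (Ideal.Quotient.mk J q) = 0
        exact Ideal.Quotient.eq_zero_iff_mem.mpr hq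
      rw [h2, TensorProduct.zero_tmul]
    | add x hx y hy ihx ihy =>
      obtain ⟨hx', hx0⟩ := ihx
      obtain ⟨hy', hy0⟩ := ihy
      refine ⟨add_mem hx' hy', ?_⟩
      have h1 : (⟨x + y, add_mem hx' hy'⟩ : RingHom.ker (algebraMap B (B ⧸ J))) =
          ⟨x, hx'⟩ + ⟨y, hy'⟩ := rfl
      rw [h1, map_add, hx0, hy0, add_zero]
  have hker : LinearMap.ker p ≤ LinearMap.ker r := by
    rintro ⟨x, hx⟩ hpx
    rw [LinearMap.mem_ker] at hpx ⊢
    have hxa : x ∈ a := by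
      have := congrArg Subtype.val hpx
      exact Ideal.Quotient.eq_zero_iff_mem.mp this
    have hxJ : x ∈ J := hJ₀.le hx
    have hx2 : x ∈ Q' * J := by
      have h3 : x ∈ (Q' * J ⊔ Q' ^ n) ⊓ J := ⟨hxa, hxJ⟩
      rw [sup_inf_assoc_of_le _ (Ideal.mul_le_right (I := Q') (J := J))] at h3
      exact (sup_le le_rfl hAR) h3
    obtain ⟨hx', h0⟩ := hmul x hx2
    exact h0
  let θ : Nk →ₗ[B] ((B ⧸ J) ⧸ Q) ⊗[B] (RingHom.ker (algebraMap B (B ⧸ J))).Cotangent :=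
    ((LinearMap.ker p).liftQ r hker) ∘ₗ (p.quotKerEquivOfSurjective hp).symm.toLinearMap
  have hθ : ∀ x, θ (p x) = r x := by
    intro x
    have h1 : (p.quotKerEquivOfSurjective hp).symm (p x) = Submodule.Quotient.mk x := by
      rw [LinearEquiv.symm_apply_eq]
      rfl
    show ((LinearMap.ker p).liftQ r hker) ((p.quotKerEquivOfSurjective hp).symm (p x)) = r x
    rw [h1]
    rfl
  let ℓ : Ω[B⁄A] →ₗ[B] ((B ⧸ J) ⧸ Q) ⊗[B] (RingHom.ker (algebraMap B (B ⧸ J))).Cotangent :=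
    θ ∘ₗ ℓ₀
  let ℓC : (B ⧸ J) ⊗[B] Ω[B⁄A] →ₗ[B ⧸ J]
      ((B ⧸ J) ⧸ Q) ⊗[B] (RingHom.ker (algebraMap B (B ⧸ J))).Cotangent :=
    LinearMap.liftBaseChange (B ⧸ J) ℓ
  refine ⟨LinearMap.liftBaseChange ((B ⧸ J) ⧸ Q) (ℓC.restrictScalars B), ?_⟩
  apply LinearMap.ext
  intro z
  induction z using TensorProduct.induction_on with
  | zero => simp
  | add x y hx hy => rw [map_add, hx, hy, map_add]
  | tmul k y =>
    obtain ⟨x, rfl⟩ := Ideal.toCotangent_surjective _ y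
    have hx : (x : B) ∈ J := hJ₀.le x.2
    have h2 : ℓ (D A B (x : B)) = r x := by
      show θ (ℓ₀ (D A B (x : B))) = r x
      have h3 : ℓ₀ (D A B (x : B)) = p x := by
        show (-d).liftKaehlerDifferential (D A B (x : B)) = p x
        rw [Derivation.liftKaehlerDifferential_comp_D]
        exact Subtype.ext (hd x hx)
      rw [h3, hθ]
    simp only [LinearMap.comp_apply, LinearMap.baseChange_tmul, LinearMap.id_apply,
      kerCotangentToTensor_toCotangent, LinearMap.liftBaseChange_tmul, LinearMap.restrictScalars_apply]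
    show k • ℓC ((1 : B ⧸ J) ⊗ₜ[B] D A B (x : B)) = _
    rw [LinearMap.liftBaseChange_tmul, one_smul, h2]
    show k • ((1 : (B ⧸ J) ⧸ Q) ⊗ₜ[B] _) = _
    rw [TensorProduct.smul_tmul', smul_eq_mul, mul_one]

/-- Single lifting step for (⇐): the square-zero kernel is killed by `Q`. -/
theorem lift_step (I J : Ideal B) (Q : Ideal (B ⧸ J)) (hB : CAlgX.IsAdicFormallySmooth A B I)
    (g : ((B ⧸ J) ⧸ Q) ⊗[B] ((B ⧸ J) ⊗[B] Ω[B⁄A]) →ₗ[(B ⧸ J) ⧸ Q]
          ((B ⧸ J) ⧸ Q) ⊗[B] (RingHom.ker (algebraMap B (B ⧸ J))).Cotangent)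
    (hg : g ∘ₗ LinearMap.baseChange ((B ⧸ J) ⧸ Q)
          (KaehlerDifferential.kerCotangentToTensor A B (B ⧸ J)) = LinearMap.id)
    (E : Type u) [CommRing E] [Algebra A E] (L : Ideal E) (hL : L ^ 2 = ⊥)
    (ψ : (B ⧸ J) →ₐ[A] E ⧸ L) (hψ : ∃ k, ∀ x ∈ (I.map (Ideal.Quotient.mk J)) ^ k, ψ x = 0)
    (hQL : ∀ c ∈ Q, ∀ e : E, Ideal.Quotient.mk L e = ψ c → ∀ l ∈ L, e * l = 0) :
    ∃ χ : (B ⧸ J) →ₐ[A] E, (Ideal.Quotient.mkₐ A L).comp χ = ψ := by
  classical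
  have hJ₀ : RingHom.ker (algebraMap B (B ⧸ J)) = J := by
    rw [Ideal.Quotient.algebraMap_eq, Ideal.mk_ker]
  -- lift from `B`
  obtain ⟨k, hk⟩ := hψ
  have hψB : ∃ k, ∀ x ∈ I ^ k, (ψ.comp (Ideal.Quotient.mkₐ A J)) x = 0 := by
    refine ⟨k, fun x hx => hk _ ?_⟩
    rw [← Ideal.map_pow]
    exact Ideal.mem_map_of_mem _ hx
  obtain ⟨χ₀, hχ₀⟩ := hB E L hL (ψ.comp (Ideal.Quotient.mkₐ A J)) hψB
  have hχ₀' : ∀ b : B, Ideal.Quotient.mk L (χ₀ b) = ψ (Ideal.Quotient.mk J b) := fun b =>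
    congrArg (fun φ => φ b) hχ₀
  letI : Algebra B E := χ₀.toRingHom.toAlgebra
  haveI : IsScalarTower A B E := IsScalarTower.of_algebraMap_eq (fun a => (χ₀.commutes a).symm)
  have hLL : ∀ x ∈ L, ∀ y ∈ L, x * y = 0 := by
    intro x hx y hy
    have : x * y ∈ L ^ 2 := by rw [sq]; exact Ideal.mul_mem_mul hx hy
    rw [hL] at this
    exact this
  -- module structures on `L`
  letI m1 : Module (E ⧸ L) L := Module.IsTorsionBySet.module (R := E) (M := L) (I := L) (by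
    intro x a
    exact Subtype.ext (hLL a.1 a.2 x.1 x.2))
  letI m2 : Module (B ⧸ J) L := Module.compHom L ψ.toRingHom
  letI m3 : Module ((B ⧸ J) ⧸ Q) L :=
    Module.IsTorsionBySet.module (R := B ⧸ J) (M := L) (I := Q) (by
      intro x c
      obtain ⟨e, he⟩ := Ideal.Quotient.mk_surjective (ψ c.1)
      show ψ c.1 • x = 0
      rw [← he]
      exact Subtype.ext (hQL c.1 c.2 e he x.1 x.2))
  have hsmul : ∀ (b : B) (l : L), algebraMap B ((B ⧸ J) ⧸ Q) b • l = b • l := by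
    intro b l
    show (Ideal.Quotient.mk Q (Ideal.Quotient.mk J b)) • l = b • l
    rw [Module.IsTorsionBySet.mk_smul]
    show ψ (Ideal.Quotient.mk J b) • l = b • l
    rw [← hχ₀', Module.IsTorsionBySet.mk_smul]
    rfl
  haveI : IsScalarTower B ((B ⧸ J) ⧸ Q) L := IsScalarTower.of_algebraMap_smul hsmul
  -- the obstruction map `u : J → L`
  have hχ₀J : ∀ x ∈ J, χ₀ x ∈ L := by
    intro x hx
    rw [← Ideal.Quotient.eq_zero_iff_mem, hχ₀', Ideal.Quotient.eq_zero_iff_mem.mpr hx, map_zero]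
  let u : RingHom.ker (algebraMap B (B ⧸ J)) →ₗ[B] L :=
    { toFun := fun x => ⟨χ₀ x.1, hχ₀J x.1 (hJ₀.le x.2)⟩
      map_add' := fun x y => Subtype.ext (map_add χ₀ _ _)
      map_smul' := fun b x => Subtype.ext (by
        show χ₀ (b * x.1) = b • χ₀ x.1
        rw [map_mul, Algebra.smul_def]
        rfl) }
  have hu : (RingHom.ker (algebraMap B (B ⧸ J)) • ⊤ :
      Submodule B (RingHom.ker (algebraMap B (B ⧸ J)))) ≤ LinearMap.ker u := by
    rw [Submodule.smul_le]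
    intro j hj x _
    rw [LinearMap.mem_ker, map_smul]
    apply Subtype.ext
    show j • (u x : E) = 0
    rw [Algebra.smul_def]
    exact hLL _ (hχ₀J j (hJ₀.le hj)) _ (u x).2
  let ũ : (RingHom.ker (algebraMap B (B ⧸ J))).Cotangent →ₗ[B] L :=
    Submodule.liftQ _ u hu
  have hũ : ∀ x, ũ ((RingHom.ker (algebraMap B (B ⧸ J))).toCotangent x) = u x := fun x => rfl
  let φ : ((B ⧸ J) ⧸ Q) ⊗[B] (RingHom.ker (algebraMap B (B ⧸ J))).Cotangent →ₗ[(B ⧸ J) ⧸ Q] L :=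
    LinearMap.liftBaseChange ((B ⧸ J) ⧸ Q) ũ
  let ι : Ω[B⁄A] →ₗ[B] ((B ⧸ J) ⧸ Q) ⊗[B] ((B ⧸ J) ⊗[B] Ω[B⁄A]) :=
    (TensorProduct.mk B ((B ⧸ J) ⧸ Q) ((B ⧸ J) ⊗[B] Ω[B⁄A]) 1) ∘ₗ
      (TensorProduct.mk B (B ⧸ J) Ω[B⁄A] 1)
  let ℓ : Ω[B⁄A] →ₗ[B] L := (φ.restrictScalars B) ∘ₗ (g.restrictScalars B) ∘ₗ ι
  let D' : Derivation A B L := (KaehlerDifferential.linearMapEquivDerivation A B) ℓ
  have hD' : ∀ x : RingHom.ker (algebraMap B (B ⧸ J)), D' x.1 = u x := by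
    intro x
    show φ (g ((1 : (B ⧸ J) ⧸ Q) ⊗ₜ[B] ((1 : B ⧸ J) ⊗ₜ[B] D A B x.1))) = u x
    have h1 : (1 : (B ⧸ J) ⧸ Q) ⊗ₜ[B] ((1 : B ⧸ J) ⊗ₜ[B] D A B x.1) =
        LinearMap.baseChange ((B ⧸ J) ⧸ Q) (KaehlerDifferential.kerCotangentToTensor A B (B ⧸ J))
          ((1 : (B ⧸ J) ⧸ Q) ⊗ₜ[B] (RingHom.ker (algebraMap B (B ⧸ J))).toCotangent x) := by
      rw [LinearMap.baseChange_tmul, kerCotangentToTensor_toCotangent]
    rw [h1]
    have h2 := congrArg (fun F => F ((1 : (B ⧸ J) ⧸ Q) ⊗ₜ[B]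
      (RingHom.ker (algebraMap B (B ⧸ J))).toCotangent x)) hg
    simp only [LinearMap.comp_apply, LinearMap.id_apply] at h2
    rw [h2]
    show LinearMap.liftBaseChange ((B ⧸ J) ⧸ Q) ũ _ = u x
    rw [LinearMap.liftBaseChange_tmul, one_smul, hũ]
  -- correct the lift by `-D'`
  let χB : B →ₐ[A] E := liftOfDerivationToSquareZero L hL (-D')
  have hχB : ∀ b : B, χB b = χ₀ b - (D' b : E) := by
    intro b
    show (((-D') b : L) : E) + algebraMap B E b = χ₀ b - (D' b : E)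
    rw [Derivation.neg_apply, Submodule.coe_neg]
    show -(D' b : E) + χ₀ b = χ₀ b - (D' b : E)
    ring
  have hχBJ : ∀ x ∈ J, χB x = 0 := by
    intro x hx
    rw [hχB, hD' ⟨x, hJ₀.ge hx⟩]
    show χ₀ x - χ₀ x = 0
    exact sub_self _
  refine ⟨Ideal.Quotient.liftₐ J χB hχBJ, ?_⟩
  apply AlgHom.ext
  intro c
  obtain ⟨b, rfl⟩ := Ideal.Quotient.mk_surjective c
  show Ideal.Quotient.mk L (χB b) = ψ (Ideal.Quotient.mk J b)
  rw [hχB, map_sub, Ideal.Quotient.eq_zero_iff_mem.mpr (D' b).2, sub_zero, hχ₀']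

/-- Surjection version of `lift_step`. -/
theorem lift_step' (I J : Ideal B) (Q : Ideal (B ⧸ J)) (hB : CAlgX.IsAdicFormallySmooth A B I)
    (g : ((B ⧸ J) ⧸ Q) ⊗[B] ((B ⧸ J) ⊗[B] Ω[B⁄A]) →ₗ[(B ⧸ J) ⧸ Q]
          ((B ⧸ J) ⧸ Q) ⊗[B] (RingHom.ker (algebraMap B (B ⧸ J))).Cotangent)
    (hg : g ∘ₗ LinearMap.baseChange ((B ⧸ J) ⧸ Q)
          (KaehlerDifferential.kerCotangentToTensor A B (B ⧸ J)) = LinearMap.id)
    (E E' : Type u) [CommRing E] [Algebra A E] [CommRing E'] [Algebra A E'] (π : E →ₐ[A] E')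
    (hπ : Function.Surjective π) (hL : (RingHom.ker π) ^ 2 = ⊥)
    (ψ : (B ⧸ J) →ₐ[A] E') (hψ : ∃ k, ∀ x ∈ (I.map (Ideal.Quotient.mk J)) ^ k, ψ x = 0)
    (hQL : ∀ c ∈ Q, ∀ e : E, π e = ψ c → ∀ l : E, π l = 0 → e * l = 0) :
    ∃ χ : (B ⧸ J) →ₐ[A] E, π.comp χ = ψ := by
  let eq : (E ⧸ RingHom.ker π) ≃ₐ[A] E' := Ideal.quotientKerAlgEquivOfSurjective hπ
  have heq : ∀ e : E, eq (Ideal.Quotient.mk _ e) = π e := fun e => rfl
  obtain ⟨k, hk⟩ := hψ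
  obtain ⟨χ, hχ⟩ := lift_step I J Q hB g hg E (RingHom.ker π) hL
    ((eq.symm : E' →ₐ[A] (E ⧸ RingHom.ker π)).comp ψ)
    ⟨k, fun x hx => by
      show eq.symm (ψ x) = 0
      rw [hk x hx, map_zero]⟩
    (fun c hc e he l hl => by
      refine hQL c hc e ?_ l (RingHom.mem_ker.mp hl)
      rw [← heq, he]
      show eq (eq.symm (ψ c)) = ψ c
      exact eq.apply_symm_apply _)
  refine ⟨χ, ?_⟩
  apply AlgHom.ext
  intro x
  have h1 : Ideal.Quotient.mk (RingHom.ker π) (χ x) = eq.symm (ψ x) :=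
    congrArg (fun F => F x) hχ
  show π (χ x) = ψ x
  rw [← heq, h1]
  exact eq.apply_symm_apply _

/-- Induction for (⇐): lifting when `Q ^ M` kills the square-zero kernel. -/
theorem lift_pow (I J : Ideal B) (Q : Ideal (B ⧸ J)) (hB : CAlgX.IsAdicFormallySmooth A B I)
    (g : ((B ⧸ J) ⧸ Q) ⊗[B] ((B ⧸ J) ⊗[B] Ω[B⁄A]) →ₗ[(B ⧸ J) ⧸ Q]
          ((B ⧸ J) ⧸ Q) ⊗[B] (RingHom.ker (algebraMap B (B ⧸ J))).Cotangent)
    (hg : g ∘ₗ LinearMap.baseChange ((B ⧸ J) ⧸ Q)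
          (KaehlerDifferential.kerCotangentToTensor A B (B ⧸ J)) = LinearMap.id) (M : ℕ) :
    ∀ (E E' : Type u) [CommRing E] [Algebra A E] [CommRing E'] [Algebra A E'] (π : E →ₐ[A] E')
      (_ : Function.Surjective π) (_ : (RingHom.ker π) ^ 2 = ⊥)
      (ψ : (B ⧸ J) →ₐ[A] E') (_ : ∃ k, ∀ x ∈ (I.map (Ideal.Quotient.mk J)) ^ k, ψ x = 0)
      (_ : ∀ c ∈ Q ^ M, ∀ e : E, π e = ψ c → ∀ l : E, π l = 0 → e * l = 0),
      ∃ χ : (B ⧸ J) →ₐ[A] E, π.comp χ = ψ := by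
  induction M with
  | zero =>
    intro E E' _ _ _ _ π hπ hL ψ hψ hQL
    exact lift_step' I J Q hB g hg E E' π hπ hL ψ hψ (fun c _ => hQL c (by simp))
  | succ M ih =>
    intro E E' _ _ _ _ π hπ hL ψ hψ hQL
    let L : Ideal E := RingHom.ker π
    let L₁ : Ideal E := Ideal.span {x | ∃ q ∈ Q, ∃ e l : E, π e = ψ q ∧ π l = 0 ∧ x = e * l}
    have hL₁L : L₁ ≤ L := Ideal.span_le.mpr (by
      rintro x ⟨q, hq, e, l, he, hl, rfl⟩
      exact L.mul_mem_left e (RingHom.mem_ker.mpr hl))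
    let π₁ : E ⧸ L₁ →ₐ[A] E' := Ideal.Quotient.liftₐ L₁ π (fun x hx => hL₁L hx)
    have hπ₁mk : ∀ e : E, π₁ (Ideal.Quotient.mk L₁ e) = π e := fun e => rfl
    have hπ₁ : Function.Surjective π₁ := fun y => by
      obtain ⟨x, hx⟩ := hπ y
      exact ⟨Ideal.Quotient.mk L₁ x, hx⟩
    have hker₁ : RingHom.ker π₁ = L.map (Ideal.Quotient.mk L₁) :=
      Ideal.ker_quotient_lift (π : E →+* E') (fun x hx => hL₁L hx)
    have hL₁' : (RingHom.ker π₁) ^ 2 = ⊥ := by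
      rw [hker₁, ← Ideal.map_pow, hL, Ideal.map_bot]
    obtain ⟨k, hk⟩ := hψ
    -- step 1: lift to `E ⧸ L₁`
    obtain ⟨χ₁, hχ₁⟩ := lift_step' I J Q hB g hg (E ⧸ L₁) E' π₁ hπ₁ hL₁' ψ ⟨k, hk⟩ (by
      intro c hc e₁ he₁ l₁ hl₁
      obtain ⟨e, rfl⟩ := Ideal.Quotient.mk_surjective e₁
      obtain ⟨l, rfl⟩ := Ideal.Quotient.mk_surjective l₁
      rw [← map_mul, Ideal.Quotient.eq_zero_iff_mem]
      exact Ideal.subset_span ⟨c, hc, e, l, he₁, hl₁, rfl⟩)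
    have hχ₁' : ∀ x, π₁ (χ₁ x) = ψ x := fun x => congrArg (fun F => F x) hχ₁
    -- step 2: lift to `E` by the induction hypothesis
    have hkerL₁ : RingHom.ker (Ideal.Quotient.mkₐ A L₁) = L₁ := Ideal.Quotient.mkₐ_ker A L₁
    obtain ⟨χ, hχ⟩ := ih E (E ⧸ L₁) (Ideal.Quotient.mkₐ A L₁) Ideal.Quotient.mk_surjective (by
        rw [hkerL₁, eq_bot_iff, ← hL]
        exact Ideal.pow_right_mono hL₁L 2) χ₁
      ⟨k + k, fun x hx => by
        rw [pow_add] at hx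
        induction hx using Submodule.mul_induction_on' with
        | mem_mul_mem a ha b hb =>
          rw [map_mul]
          have h1 : χ₁ a * χ₁ b ∈ (RingHom.ker π₁) ^ 2 := by
            rw [sq]
            refine Ideal.mul_mem_mul ?_ ?_
            · rw [RingHom.mem_ker]
              exact (hχ₁' a).trans (hk a ha)
            · rw [RingHom.mem_ker]
              exact (hχ₁' b).trans (hk b hb)
          rw [hL₁'] at h1
          exact h1
        | add x _ y _ ihx ihy => rw [map_add, ihx, ihy, add_zero]⟩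
      (by
        intro c hc e he l hl
        have hl' : l ∈ L₁ := Ideal.Quotient.eq_zero_iff_mem.mp hl
        have hπe : π e = ψ c := by
          rw [← hπ₁mk]
          have : Ideal.Quotient.mk L₁ e = χ₁ c := he
          rw [this, hχ₁']
        clear hl
        induction hl' using Submodule.span_induction with
        | mem x hx =>
          obtain ⟨q, hq, e', l', he', hl', rfl⟩ := hx
          rw [← mul_assoc]
          refine hQL (c * q) ?_ (e * e') ?_ l' hl'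
          · rw [pow_succ]
            exact Ideal.mul_mem_mul hc hq
          · rw [map_mul, map_mul, hπe, he']
        | zero => rw [mul_zero]
        | add x y _ _ hx hy => rw [mul_add, hx, hy, add_zero]
        | smul a x _ hx =>
          rw [smul_eq_mul, mul_left_comm, hx, mul_zero])
    refine ⟨χ, ?_⟩
    apply AlgHom.ext
    intro x
    have h1 : Ideal.Quotient.mk L₁ (χ x) = χ₁ x := congrArg (fun F => F x) hχ
    show π (χ x) = ψ x
    rw [← hπ₁mk, h1, hχ₁']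

/-- (⇐) of EGA 0_IV 22.6.1. -/
theorem smooth_of_leftInverse (I J : Ideal B) (Q : Ideal (B ⧸ J))
    (hB : CAlgX.IsAdicFormallySmooth A B I)
    (hQ' : ∃ m : ℕ, Q ^ m ≤ I.map (Ideal.Quotient.mk J))
    (g : ((B ⧸ J) ⧸ Q) ⊗[B] ((B ⧸ J) ⊗[B] Ω[B⁄A]) →ₗ[(B ⧸ J) ⧸ Q]
          ((B ⧸ J) ⧸ Q) ⊗[B] (RingHom.ker (algebraMap B (B ⧸ J))).Cotangent)
    (hg : g ∘ₗ LinearMap.baseChange ((B ⧸ J) ⧸ Q)
          (KaehlerDifferential.kerCotangentToTensor A B (B ⧸ J)) = LinearMap.id) :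
    CAlgX.IsAdicFormallySmooth A (B ⧸ J) (I.map (Ideal.Quotient.mk J)) := by
  intro E _ _ L hL ψ hψ
  obtain ⟨m, hm⟩ := hQ'
  obtain ⟨k, hk⟩ := hψ
  have hkerL : RingHom.ker (Ideal.Quotient.mkₐ A L) = L := Ideal.Quotient.mkₐ_ker A L
  refine lift_pow I J Q hB g hg (m * k) E (E ⧸ L) (Ideal.Quotient.mkₐ A L)
    Ideal.Quotient.mk_surjective (by rw [hkerL]; exact hL) ψ ⟨k, hk⟩ ?_
  intro c hc e he l hl
  have hc' : c ∈ (I.map (Ideal.Quotient.mk J)) ^ k := by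
    rw [pow_mul] at hc
    exact Ideal.pow_right_mono hm k hc
  have h0 : Ideal.Quotient.mk L e = 0 := by
    have : Ideal.Quotient.mk L e = ψ c := he
    rw [this, hk c hc']
  have heL : e ∈ L := Ideal.Quotient.eq_zero_iff_mem.mp h0
  have hlL : l ∈ L := Ideal.Quotient.eq_zero_iff_mem.mp hl
  have : e * l ∈ L ^ 2 := by rw [sq]; exact Ideal.mul_mem_mul heL hlL
  rw [hL] at this
  exact this

end Groth.Agent.Lib.Helper61.AdicQuot
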