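import Mathlib
import Groth.Agent.Lib.Helper61.BiratGeneric
import Groth.Agent.Lib.Helper61.BiratSpreadScheme

/-!
# Birational morphisms are isomorphisms over dense opens (Stacks 0BAC) (helper61)
-/

universe u

open CategoryTheory CategoryTheory.Limits TopologicalSpace Topology AlgebraicGeometry

namespace Groth.Agent.Lib.Helper61.BiratGlue

open Groth.Agent.Lib.Helper61.BiratGeneric Groth.Agent.Lib.Helper61.BiratSpreadScheme

/-- Gluing isomorphisms over an open cover of the target. -/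
theorem isIso_of_openCover {S T : Scheme.{u}} (g : S ⟶ T) (𝒰 : T.OpenCover)
    (Si : 𝒰.I₀ → Scheme.{u}) (j : ∀ i, Si i ⟶ S) (a : ∀ i, Si i ⟶ 𝒰.X i)
    (hj : ∀ i, IsOpenImmersion (j i)) (ha : ∀ i, IsIso (a i))
    (hcomm : ∀ i, j i ≫ g = a i ≫ 𝒰.f i)
    (hrange : ∀ i, g ⁻¹ᵁ (𝒰.f i).opensRange = (j i).opensRange) : IsIso g := by
  rw [← MorphismProperty.isomorphisms.iff,
    IsZariskiLocalAtTarget.iff_of_openCover (P := MorphismProperty.isomorphisms Scheme) 𝒰]
  intro i
  haveI := hj i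
  haveI := ha i
  have hpb : IsPullback (a i) (j i) (𝒰.f i) g :=
    IsOpenImmersion.isPullback (a i) (j i) (𝒰.f i) g (hcomm i) (hrange i)
  let e := hpb.flip.isoPullback
  have h1 : e.hom ≫ pullback.snd g (𝒰.f i) = a i := hpb.flip.isoPullback_hom_snd
  have h2 : pullback.snd g (𝒰.f i) = e.inv ≫ a i := by
    rw [← h1, Iso.inv_hom_id_assoc]
  change IsIso (pullback.snd g (𝒰.f i))
  rw [h2]
  infer_instance

/-- The complement of the irreducible components not equal to `closure {y}`. -/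
def otherCompl {Y : Type*} [TopologicalSpace Y] (y : Y) : Set Y :=
  {z | ∀ Z ∈ irreducibleComponents Y, z ∈ Z → Z = closure {y}}

lemma isOpen_otherCompl {Y : Type*} [TopologicalSpace Y]
    (hfin : (irreducibleComponents Y).Finite) (y : Y) : IsOpen (otherCompl y) := by
  have : otherCompl y = (⋃ Z ∈ {Z ∈ irreducibleComponents Y | Z ≠ closure {y}}, Z)ᶜ := by
    ext z
    simp only [otherCompl, Set.mem_setOf_eq, Set.mem_compl_iff, Set.mem_iUnion, not_exists,
      ne_eq]
    constructor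
    · intro h Z hZ hz
      exact hZ.2 (h Z hZ.1 hz)
    · intro h Z hZ hz
      by_contra hne
      exact h Z ⟨hZ, hne⟩ hz
  rw [this, isOpen_compl_iff]
  refine Set.Finite.isClosed_biUnion (hfin.subset fun Z hZ => hZ.1) fun Z hZ => ?_
  exact isClosed_of_mem_irreducibleComponents Z hZ.1

lemma mem_otherCompl_self {Y : Type*} [TopologicalSpace Y] {y : Y}
    (hy : closure {y} ∈ irreducibleComponents Y) : y ∈ otherCompl y := by
  intro Z hZ hz
  have h1 : closure {y} ⊆ Z :=
    (isClosed_of_mem_irreducibleComponents Z hZ).closure_subset_iff.mpr (by simpa using hz)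
  exact le_antisymm (hy.2 hZ.1 h1) h1

lemma specializes_of_mem_otherCompl {Y : Type*} [TopologicalSpace Y] [QuasiSober Y] {y z : Y}
    (hz : z ∈ otherCompl y) : y ⤳ z := by
  obtain ⟨y'', hy'', hsp⟩ := exists_generic_specializes z
  have h1 : z ∈ closure {y''} := specializes_iff_mem_closure.mp hsp
  have h2 := hz _ hy'' h1
  rw [specializes_iff_mem_closure, ← h2]
  exact h1

lemma eq_of_mem_otherCompl {Y : Type*} [TopologicalSpace Y] [T0Space Y] {y y' z : Y}
    (hz : z ∈ otherCompl y) (hz' : z ∈ otherCompl y') : y = y' := by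
  have h1 := hz _ (irreducibleComponent_mem_irreducibleComponents z) mem_irreducibleComponent
  have h2 := hz' _ (irreducibleComponent_mem_irreducibleComponents z) mem_irreducibleComponent
  exact (inseparable_iff_closure_eq.mpr (h1.symm.trans h2)).eq

/-- **Stacks 0BAC**: a birational morphism (locally of finite type onto a reduced target, or
locally of finite presentation) is an isomorphism between dense opens. -/
theorem exists_dense_opens_isIso' {X Y : Scheme.{u}} (f : X ⟶ Y)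
    (hXfin : (irreducibleComponents ↥X).Finite) (hYfin : (irreducibleComponents ↥Y).Finite)
    (hbij : Set.BijOn (fun x : X => f.base x) {x : X | closure {x} ∈ irreducibleComponents ↥X}
      {y : Y | closure {y} ∈ irreducibleComponents ↥Y})
    (hiso : ∀ x : X, closure {x} ∈ irreducibleComponents ↥X → IsIso (f.stalkMap x))
    (hf : (LocallyOfFiniteType f ∧ IsReduced Y) ∨ LocallyOfFinitePresentation f) :
    ∃ (U : X.Opens) (V : Y.Opens) (hUV : U ≤ f ⁻¹ᵁ V), Dense (U : Set ↥X) ∧ Dense (V : Set ↥Y) ∧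
      IsIso (f.resLE V U hUV) ∧ (∀ x : X, closure {x} ∈ irreducibleComponents ↥X → x ∈ U) := by
  classical
  let ι := {x : X // closure {x} ∈ irreducibleComponents ↥X}
  have hyi : ∀ i : ι, closure {f i.1} ∈ irreducibleComponents ↥Y := fun i => hbij.mapsTo i.2
  let WX : ι → X.Opens := fun i => ⟨otherCompl i.1, isOpen_otherCompl hXfin i.1⟩
  let WY : ι → Y.Opens := fun i => ⟨otherCompl (f i.1), isOpen_otherCompl hYfin (f i.1)⟩
  have hloc : ∀ i : ι, ∃ (U : X.Opens) (V : Y.Opens) (hUV : U ≤ f ⁻¹ᵁ V), i.1 ∈ U ∧ U ≤ WX i ∧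
      V ≤ WY i ∧ IsIso (f.resLE V U hUV) := fun i =>
    exists_opens_isIso_resLE f hbij.injOn hiso hf i.1 i.2 (hyi i) (WX i) (mem_otherCompl_self i.2)
      (WY i) (mem_otherCompl_self (hyi i)) (fun y' hy' => specializes_of_mem_otherCompl hy')
  choose Ui Vi hUVi hxUi hUiW hViW hisoi using hloc
  have hUV : (⨆ i, Ui i) ≤ f ⁻¹ᵁ (⨆ i, Vi i) := by
    refine iSup_le fun i => (hUVi i).trans ?_
    intro z hz
    exact (le_iSup Vi i) hz
  refine ⟨⨆ i, Ui i, ⨆ i, Vi i, hUV, ?_, ?_, ?_,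
    fun x hx => (le_iSup Ui ⟨x, hx⟩) (hxUi ⟨x, hx⟩)⟩
  · rw [dense_iff_inter_open]
    rintro W hW ⟨w, hw⟩
    obtain ⟨x'', hx'', hsp⟩ := exists_generic_specializes w
    refine ⟨x'', hsp.mem_open hW hw, ?_⟩
    exact (le_iSup Ui ⟨x'', hx''⟩) (hxUi ⟨x'', hx''⟩)
  · rw [dense_iff_inter_open]
    rintro W hW ⟨w, hw⟩
    obtain ⟨y'', hy'', hsp⟩ := exists_generic_specializes w
    obtain ⟨x, hx, rfl⟩ := hbij.surjOn hy''
    refine ⟨f x, hsp.mem_open hW hw, ?_⟩
    exact (le_iSup Vi ⟨x, hx⟩) (hUVi ⟨x, hx⟩ (hxUi ⟨x, hx⟩))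
  · refine isIso_of_openCover (f.resLE (⨆ i, Vi i) (⨆ i, Ui i) hUV)
      (Scheme.Opens.iSupOpenCover Vi) (fun i => (Ui i).toScheme)
      (fun i => X.homOfLE (le_iSup Ui i)) (fun i => f.resLE (Vi i) (Ui i) (hUVi i))
      (fun i => inferInstanceAs (IsOpenImmersion (X.homOfLE (le_iSup Ui i)))) hisoi ?_ ?_
    · intro i
      change X.homOfLE (le_iSup Ui i) ≫ f.resLE (⨆ i, Vi i) (⨆ i, Ui i) hUV =
        f.resLE (Vi i) (Ui i) (hUVi i) ≫ Y.homOfLE (le_iSup Vi i)
      rw [Scheme.Hom.map_resLE, Scheme.Hom.resLE_map]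
    · intro i
      change f.resLE (⨆ i, Vi i) (⨆ i, Ui i) hUV ⁻¹ᵁ (Y.homOfLE (le_iSup Vi i)).opensRange =
        (X.homOfLE (le_iSup Ui i)).opensRange
      rw [Scheme.opensRange_homOfLE, Scheme.opensRange_homOfLE, ← Scheme.Hom.comp_preimage,
        Scheme.Hom.resLE_comp_ι, Scheme.Hom.comp_preimage]
      ext ⟨u, hu⟩
      simp only [Scheme.Hom.coe_preimage, Set.mem_preimage, SetLike.mem_coe, Scheme.Opens.ι_apply]
      constructor
      · intro hfu
        obtain ⟨i', hi'⟩ := Opens.mem_iSup.mp hu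
        have h1 : f u ∈ otherCompl (f i'.1) := hViW i' (hUVi i' hi')
        have h2 : f u ∈ otherCompl (f i.1) := hViW i hfu
        have h3 : f i'.1 = f i.1 := eq_of_mem_otherCompl h1 h2
        have h4 : i' = i := Subtype.ext (hbij.injOn i'.2 i.2 h3)
        exact h4 ▸ hi'
      · intro hu'
        exact hUVi i hu'

theorem exists_dense_opens_isIso {X Y : Scheme.{u}} (f : X ⟶ Y)
    (hXfin : (irreducibleComponents ↥X).Finite) (hYfin : (irreducibleComponents ↥Y).Finite)
    (hbij : Set.BijOn (fun x : X => f.base x) {x : X | closure {x} ∈ irreducibleComponents ↥X}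
      {y : Y | closure {y} ∈ irreducibleComponents ↥Y})
    (hiso : ∀ x : X, closure {x} ∈ irreducibleComponents ↥X → IsIso (f.stalkMap x))
    (hf : (LocallyOfFiniteType f ∧ IsReduced Y) ∨ LocallyOfFinitePresentation f) :
    ∃ (U : X.Opens) (V : Y.Opens) (hUV : U ≤ f ⁻¹ᵁ V), Dense (U : Set ↥X) ∧ Dense (V : Set ↥Y) ∧
      IsIso (f.resLE V U hUV) := by
  obtain ⟨U, V, hUV, h1, h2, h3, -⟩ := exists_dense_opens_isIso' f hXfin hYfin hbij hiso hf
  exact ⟨U, V, hUV, h1, h2, h3⟩

end Groth.Agent.Lib.Helper61.BiratGlue
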