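import Mathlib
import Groth.Agent.Lib.Helper61.BiratGeneric
import Groth.Agent.Lib.Helper61.BiratGlue

/-!
# S-birational iff isomorphic function fields over S (helper61)
-/

universe u

open CategoryTheory CategoryTheory.Limits TopologicalSpace Topology AlgebraicGeometry

namespace Groth.Agent.Lib.Helper61.BiratField

open Groth.Agent.Lib.Helper61.BiratGeneric Groth.Agent.Lib.Helper61.BiratGlue

variable {S X Y : Scheme.{u}}

lemma stalkCongr_hom_eq_eqToHom {a b : S} (h : a = b) :
    (S.presheaf.stalkCongr (.of_eq h)).hom = eqToHom (congrArg S.presheaf.stalk h) := by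
  subst h
  simp [TopCat.Presheaf.stalkCongr]

/-- Residue-field comparison from a common open. -/
theorem exists_residueField_iso_of_isOpenImmersion (sX : X ⟶ S) (sY : Y ⟶ S)
    {W : Scheme.{u}} (j : W ⟶ X) (g : W ⟶ Y) [IsOpenImmersion j] [IsOpenImmersion g]
    (h : g ≫ sY = j ≫ sX) (w : W) (x : X) (y : Y) (hx : j w = x) (hy : g w = y) :
    ∃ (hs : sX x = sY y) (e : X.residueField x ≅ Y.residueField y),
      sX.residueFieldMap x ≫ e.hom =
        eqToHom (congrArg S.residueField hs) ≫ sY.residueFieldMap y := by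
  subst hx hy
  have hs : sX (j w) = sY (g w) := by
    rw [← Scheme.Hom.comp_apply, ← h, Scheme.Hom.comp_apply]
  refine ⟨hs, asIso (j.residueFieldMap w) ≪≫ (asIso (g.residueFieldMap w)).symm, ?_⟩
  have h1 := Scheme.Hom.residueFieldMap_congr h.symm w
  rw [Scheme.residueFieldMap_comp, Scheme.residueFieldMap_comp] at h1
  simp only [Iso.trans_hom, asIso_hom, Iso.symm_hom, asIso_inv]
  rw [← cancel_mono (g.residueFieldMap w)]
  simp only [Category.assoc, IsIso.inv_hom_id, Category.comp_id]
  exact h1

/-- Stalk comparison from a common open. -/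
theorem exists_stalk_iso_of_isOpenImmersion (sX : X ⟶ S) (sY : Y ⟶ S)
    {W : Scheme.{u}} (j : W ⟶ X) (g : W ⟶ Y) [IsOpenImmersion j] [IsOpenImmersion g]
    (h : g ≫ sY = j ≫ sX) (w : W) (x : X) (y : Y) (hx : j w = x) (hy : g w = y) :
    ∃ (hs : sX x = sY y) (e : X.presheaf.stalk x ≅ Y.presheaf.stalk y),
      sX.stalkMap x ≫ e.hom =
        eqToHom (congrArg S.presheaf.stalk hs) ≫ sY.stalkMap y := by
  subst hx hy
  have hs : sX (j w) = sY (g w) := by
    rw [← Scheme.Hom.comp_apply, ← h, Scheme.Hom.comp_apply]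
  refine ⟨hs, asIso (j.stalkMap w) ≪≫ (asIso (g.stalkMap w)).symm, ?_⟩
  have h1 := Scheme.Hom.stalkMap_congr_hom _ _ h.symm w
  rw [Scheme.Hom.stalkMap_comp, Scheme.Hom.stalkMap_comp] at h1
  simp only [Iso.trans_hom, asIso_hom, Iso.symm_hom, asIso_inv]
  rw [← cancel_mono (g.stalkMap w)]
  simp only [Category.assoc, IsIso.inv_hom_id, Category.comp_id]
  refine h1.trans ?_
  congr 1
  exact stalkCongr_hom_eq_eqToHom hs

theorem irreducibleSpace_opens [IrreducibleSpace X] (U : X.Opens) (hU : (U : Set X).Nonempty) :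
    IrreducibleSpace U.toScheme :=
  Subtype.irreducibleSpace
    ⟨hU, (PreirreducibleSpace.isPreirreducible_univ (X := X)).open_subset U.2 (Set.subset_univ _)⟩

/-- A partial isomorphism over `S` between irreducible schemes identifies the generic points. -/
theorem exists_common_open_of_birationalOver [IrreducibleSpace X] [IrreducibleSpace Y]
    (sX : X ⟶ S) (sY : Y ⟶ S) (h : Scheme.BirationalOver sX sY) :
    ∃ (W : Scheme.{u}) (j : W ⟶ X) (g : W ⟶ Y) (_ : IsOpenImmersion j) (_ : IsOpenImmersion g)
      (w : W), g ≫ sY = j ≫ sX ∧ j w = genericPoint X ∧ g w = genericPoint Y := by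
  obtain ⟨φ, hφ⟩ := h
  have hUne : (φ.source : Set X).Nonempty := φ.dense_source.nonempty
  haveI := irreducibleSpace_opens φ.source hUne
  refine ⟨φ.source.toScheme, φ.source.ι, φ.iso.hom ≫ φ.target.ι, inferInstance, inferInstance,
    genericPoint φ.source.toScheme, ?_, ?_, ?_⟩
  · rw [Category.assoc]
    exact hφ
  · exact genericPoint_eq_of_isOpenImmersion φ.source.ι
  · exact genericPoint_eq_of_isOpenImmersion (φ.iso.hom ≫ φ.target.ι)

lemma setOf_closure_mem_irreducibleComponents_eq {Z : Type*} [TopologicalSpace Z]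
    [IrreducibleSpace Z] [QuasiSober Z] [T0Space Z] :
    {z : Z | closure {z} ∈ irreducibleComponents Z} = {genericPoint Z} := by
  ext z
  rw [irreducibleComponents_eq_singleton, Set.mem_setOf_eq, Set.mem_singleton_iff,
    Set.mem_singleton_iff]
  constructor
  · intro h
    exact ((genericPoint_spec Z).eq (show IsGenericPoint z Set.univ from h)).symm
  · rintro rfl
    exact (genericPoint_spec Z).def

/-- Spreading out an isomorphism of generic stalks to a partial isomorphism (integral case). -/
theorem birationalOver_of_stalk_iso [IsIntegral X] [IsIntegral Y] (sX : X ⟶ S) (sY : Y ⟶ S)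
    [LocallyOfFiniteType sX] [LocallyOfFiniteType sY]
    (hs : sX (genericPoint X) = sY (genericPoint Y))
    (ψ : Y.presheaf.stalk (genericPoint Y) ≅ X.presheaf.stalk (genericPoint X))
    (h : sY.stalkMap (genericPoint Y) ≫ ψ.hom =
      S.presheaf.stalkSpecializes (Inseparable.of_eq hs).specializes ≫
        sX.stalkMap (genericPoint X)) :
    Scheme.BirationalOver sX sY := by
  classical
  obtain ⟨U, hξU, f, hf₁, hf₂⟩ := spread_out_of_isGermInjective sX sY hs ψ.hom h
  haveI : Nonempty U := ⟨⟨genericPoint X, hξU⟩⟩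
  let ξU : U.toScheme := ⟨genericPoint X, hξU⟩
  have hξU' : genericPoint U.toScheme = ξU :=
    Subtype.ext (genericPoint_eq_of_isOpenImmersion U.ι)
  -- extract the point and the stalk map
  have hloc1 : IsLocalHom ψ.hom.hom := isLocalHom_of_isIso ψ.hom
  have hisoι : IsIso (U.ι.stalkMap ξU) := inferInstance
  let θ := f.stalkMap ξU ≫ inv (U.ι.stalkMap ξU)
  have hloc2 : IsLocalHom θ.hom := by
    change IsLocalHom (f.stalkMap ξU ≫ inv (U.ι.stalkMap ξU)).hom
    rw [CommRingCat.hom_comp]
    haveI : IsLocalHom (inv (U.ι.stalkMap ξU)).hom := isLocalHom_of_isIso _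
    exact RingHom.isLocalHom_comp _ _
  have hrw : U.fromSpecStalkOfMem (genericPoint X) hξU ≫ f =
      Spec.map θ ≫ Y.fromSpecStalk (f ξU) := by
    change _ = Spec.map (f.stalkMap ξU ≫ inv (U.ι.stalkMap ξU)) ≫ _
    rw [Spec.map_comp, Category.assoc, Scheme.SpecMap_stalkMap_fromSpecStalk]
    rfl
  have heq : (SpecToEquivOfLocalRing Y (X.presheaf.stalk (genericPoint X))).symm
      ⟨genericPoint Y, ψ.hom, hloc1⟩ =
      (SpecToEquivOfLocalRing Y (X.presheaf.stalk (genericPoint X))).symm
        ⟨f ξU, θ, hloc2⟩ := by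
    change Spec.map ψ.hom ≫ Y.fromSpecStalk (genericPoint Y) = _
    rw [hf₁, hrw]
    rfl
  obtain ⟨hη, hψ⟩ := SpecToEquivOfLocalRing_eq_iff.mp
    ((SpecToEquivOfLocalRing Y (X.presheaf.stalk (genericPoint X))).symm.injective heq)
  simp only at hη hψ
  have hisoξ : IsIso (f.stalkMap ξU) := by
    have e1 : IsIso ψ.hom := inferInstance
    have hθ : IsIso θ := IsIso.of_isIso_fac_left (hh := e1) hψ.symm
    haveI : IsIso (f.stalkMap ξU ≫ inv (U.ι.stalkMap ξU)) := hθ
    exact IsIso.of_isIso_comp_right (f.stalkMap ξU) (inv (U.ι.stalkMap ξU))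
  -- apply Stacks 0BAC
  have hlft : LocallyOfFiniteType f := by
    have : LocallyOfFiniteType (f ≫ sY) := by rw [hf₂]; infer_instance
    exact locallyOfFiniteType_of_comp f sY
  obtain ⟨U', V', hUV', hU'd, hV'd, hiso'⟩ := exists_dense_opens_isIso f
    (by rw [irreducibleComponents_eq_singleton]; exact Set.finite_singleton _)
    (by rw [irreducibleComponents_eq_singleton]; exact Set.finite_singleton _)
    (by
      rw [setOf_closure_mem_irreducibleComponents_eq, setOf_closure_mem_irreducibleComponents_eq,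
        Set.bijOn_singleton, hξU']
      exact hη.symm)
    (by
      intro x hx
      have : x ∈ {z : U.toScheme | closure {z} ∈ irreducibleComponents U.toScheme} := hx
      rw [setOf_closure_mem_irreducibleComponents_eq, Set.mem_singleton_iff, hξU'] at this
      subst this
      exact hisoξ)
    (Or.inl ⟨hlft, inferInstance⟩)
  have hbir : Scheme.BirationalOver (U.ι ≫ sX) sY := by
    refine ⟨⟨U', hU'd, V', hV'd, asIso (f.resLE V' U' hUV')⟩, ?_⟩
    change f.resLE V' U' hUV' ≫ V'.ι ≫ sY = U'.ι ≫ U.ι ≫ sX
    rw [Scheme.Hom.resLE_comp_ι_assoc, hf₂]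
  have hUd : Dense (U : Set X) :=
    (U.2.dense (⟨genericPoint X, hξU⟩ : (U : Set X).Nonempty))
  exact (Scheme.Opens.birationalOver_of_dense U sX hUd).symm.trans hbir

theorem isIso_residue_genericPoint (X : Scheme.{u}) [IsIntegral X] :
    IsIso (X.residue (genericPoint X)) := by
  rw [ConcreteCategory.isIso_iff_bijective]
  refine ⟨?_, X.residue_surjective _⟩
  letI : Field (X.presheaf.stalk (genericPoint X)) :=
    inferInstanceAs (Field X.functionField)
  exact (X.residue (genericPoint X)).hom.injective

lemma stalkSpecializes_residue_eqToHom {a b : S} (h : a = b) :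
    S.presheaf.stalkSpecializes (Inseparable.of_eq h).specializes ≫ S.residue a ≫
      eqToHom (congrArg S.residueField h) = S.residue b := by
  subst h
  simp

/-- From an isomorphism of residue fields of the generic points to one of the stalks. -/
theorem exists_stalk_iso_of_residueField_iso [IsIntegral X] [IsIntegral Y] (sX : X ⟶ S)
    (sY : Y ⟶ S) (hs : sX (genericPoint X) = sY (genericPoint Y))
    (e : X.residueField (genericPoint X) ≅ Y.residueField (genericPoint Y))
    (he : sX.residueFieldMap (genericPoint X) ≫ e.hom =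
      eqToHom (congrArg S.residueField hs) ≫ sY.residueFieldMap (genericPoint Y)) :
    ∃ ψ : Y.presheaf.stalk (genericPoint Y) ≅ X.presheaf.stalk (genericPoint X),
      sY.stalkMap (genericPoint Y) ≫ ψ.hom =
        S.presheaf.stalkSpecializes (Inseparable.of_eq hs).specializes ≫
          sX.stalkMap (genericPoint X) := by
  haveI := isIso_residue_genericPoint X
  haveI := isIso_residue_genericPoint Y
  refine ⟨asIso (Y.residue (genericPoint Y)) ≪≫ e.symm ≪≫
    (asIso (X.residue (genericPoint X))).symm, ?_⟩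
  simp only [Iso.trans_hom, asIso_hom, Iso.symm_hom, asIso_inv]
  rw [← cancel_mono (X.residue (genericPoint X))]
  simp only [Category.assoc, IsIso.inv_hom_id, Category.comp_id]
  rw [← Scheme.residue_residueFieldMap, ← Scheme.residue_residueFieldMap_assoc]
  have he' : sX.residueFieldMap (genericPoint X) =
      eqToHom (congrArg S.residueField hs) ≫ sY.residueFieldMap (genericPoint Y) ≫ e.inv := by
    rw [← Category.assoc, ← he, Category.assoc, Iso.hom_inv_id, Category.comp_id]
  rw [he', ← stalkSpecializes_residue_eqToHom hs]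
  simp only [Category.assoc]

end Groth.Agent.Lib.Helper61.BiratField
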