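import Mathlib
import Groth.Agent.Lib.Helper61.BiratField
import Groth.Agent.Lib.Helper61.SpreadOutFP
import Groth.Agent.Lib.Helper24.LfpOfComp

/-!
# S-birational iff isomorphic generic stalks over S, finitely presented case (helper61)
-/

universe u

open CategoryTheory CategoryTheory.Limits TopologicalSpace Topology AlgebraicGeometry

namespace Groth.Agent.Lib.Helper61.BiratFP

open Groth.Agent.Lib.Helper61.BiratGeneric Groth.Agent.Lib.Helper61.BiratGlue
  Groth.Agent.Lib.Helper61.BiratField Groth.Agent.Lib.Helper61.SpreadOutFP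

variable {S X Y : Scheme.{u}}

/-- Spreading out an isomorphism of generic stalks to a partial isomorphism
(irreducible, locally of finite presentation case). -/
theorem birationalOver_of_stalk_iso_fp [IrreducibleSpace X] [IrreducibleSpace Y]
    (sX : X ⟶ S) (sY : Y ⟶ S)
    [LocallyOfFinitePresentation sX] [LocallyOfFinitePresentation sY]
    (hs : sX (genericPoint X) = sY (genericPoint Y))
    (ψ : Y.presheaf.stalk (genericPoint Y) ≅ X.presheaf.stalk (genericPoint X))
    (h : sY.stalkMap (genericPoint Y) ≫ ψ.hom =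
      S.presheaf.stalkSpecializes (Inseparable.of_eq hs).specializes ≫
        sX.stalkMap (genericPoint X)) :
    Scheme.BirationalOver sX sY := by
  classical
  obtain ⟨U, hξU, f, hf₁, hf₂⟩ := spread_out_of_finitePresentation sX sY hs ψ.hom h
  haveI : Nonempty U := ⟨⟨genericPoint X, hξU⟩⟩
  haveI : IrreducibleSpace U.toScheme := irreducibleSpace_opens U ⟨genericPoint X, hξU⟩
  let ξU : U.toScheme := ⟨genericPoint X, hξU⟩
  have hξU' : genericPoint U.toScheme = ξU :=
    Subtype.ext (genericPoint_eq_of_isOpenImmersion U.ι)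
  -- extract the point and the stalk map
  have hloc1 : IsLocalHom ψ.hom.hom := isLocalHom_of_isIso ψ.hom
  have hisoι : IsIso (U.ι.stalkMap ξU) := inferInstance
  let θ := f.stalkMap ξU ≫ inv (U.ι.stalkMap ξU)
  have hloc2 : IsLocalHom θ.hom := by
    change IsLocalHom (f.stalkMap ξU ≫ inv (U.ι.stalkMap ξU)).hom
    rw [CommRingCat.hom_comp]
    haveI : IsLocalHom (inv (U.ι.stalkMap ξU)).hom := isLocalHom_of_isIso _
    exact RingHom.isLocalHom_comp _ _
  have hrw : U.fromSpecStalkOfMem (genericPoint X) hξU ≫ f =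
      Spec.map θ ≫ Y.fromSpecStalk (f ξU) := by
    change _ = Spec.map (f.stalkMap ξU ≫ inv (U.ι.stalkMap ξU)) ≫ _
    rw [Spec.map_comp, Category.assoc, Scheme.SpecMap_stalkMap_fromSpecStalk]
    rfl
  have heq : (SpecToEquivOfLocalRing Y (X.presheaf.stalk (genericPoint X))).symm
      ⟨genericPoint Y, ψ.hom, hloc1⟩ =
      (SpecToEquivOfLocalRing Y (X.presheaf.stalk (genericPoint X))).symm
        ⟨f ξU, θ, hloc2⟩ := by
    change Spec.map ψ.hom ≫ Y.fromSpecStalk (genericPoint Y) = _
    rw [hf₁, hrw]
    rfl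
  obtain ⟨hη, hψ⟩ := SpecToEquivOfLocalRing_eq_iff.mp
    ((SpecToEquivOfLocalRing Y (X.presheaf.stalk (genericPoint X))).symm.injective heq)
  simp only at hη hψ
  have hisoξ : IsIso (f.stalkMap ξU) := by
    have e1 : IsIso ψ.hom := inferInstance
    have hθ : IsIso θ := IsIso.of_isIso_fac_left (hh := e1) hψ.symm
    haveI : IsIso (f.stalkMap ξU ≫ inv (U.ι.stalkMap ξU)) := hθ
    exact IsIso.of_isIso_comp_right (f.stalkMap ξU) (inv (U.ι.stalkMap ξU))
  -- apply Stacks 0BAC
  have hlfp : LocallyOfFinitePresentation f := by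
    haveI : LocallyOfFinitePresentation (f ≫ sY) := by rw [hf₂]; infer_instance
    exact Groth.Agent.Lib.Helper24.locallyOfFinitePresentation_of_comp f sY
  obtain ⟨U', V', hUV', hU'd, hV'd, hiso'⟩ := exists_dense_opens_isIso f
    (by rw [irreducibleComponents_eq_singleton]; exact Set.finite_singleton _)
    (by rw [irreducibleComponents_eq_singleton]; exact Set.finite_singleton _)
    (by
      rw [setOf_closure_mem_irreducibleComponents_eq, setOf_closure_mem_irreducibleComponents_eq,
        Set.bijOn_singleton, hξU']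
      exact hη.symm)
    (by
      intro x hx
      have : x ∈ {z : U.toScheme | closure {z} ∈ irreducibleComponents U.toScheme} := hx
      rw [setOf_closure_mem_irreducibleComponents_eq, Set.mem_singleton_iff, hξU'] at this
      subst this
      exact hisoξ)
    (Or.inr hlfp)
  have hbir : Scheme.BirationalOver (U.ι ≫ sX) sY := by
    refine ⟨⟨U', hU'd, V', hV'd, asIso (f.resLE V' U' hUV')⟩, ?_⟩
    change f.resLE V' U' hUV' ≫ V'.ι ≫ sY = U'.ι ≫ U.ι ≫ sX
    rw [Scheme.Hom.resLE_comp_ι_assoc, hf₂]
  have hUd : Dense (U : Set X) :=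
    (U.2.dense (⟨genericPoint X, hξU⟩ : (U : Set X).Nonempty))
  exact (Scheme.Opens.birationalOver_of_dense U sX hUd).symm.trans hbir

end Groth.Agent.Lib.Helper61.BiratFP
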