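import Mathlib
import Groth.Agent.Lib.Helper61.BiratGeneric
import Groth.Agent.Lib.Helper61.BiratSpreadScheme

/-!
# Quasi-compact morphisms: closure of the image of a closed set (helper61)

If `f` is quasi-compact, `Z` is closed, and no point of `f(Z)` generizes to `y`,
then `y` has an open neighbourhood disjoint from `f(Z)` (cf. Stacks 01R8).
-/

universe u

open CategoryTheory CategoryTheory.Limits TopologicalSpace Topology AlgebraicGeometry

namespace Groth.Agent.Lib.Helper61.BiratQC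

open Groth.Agent.Lib.Helper61.BiratGeneric Groth.Agent.Lib.Helper61.BiratSpreadScheme
open Groth.Agent.Lib.Helper61.BiratQF

variable {X Y : Scheme.{u}}

theorem exists_basicOpen_disjoint (f : X ⟶ Y) {V : Y.Opens} (hV : IsAffineOpen V)
    {W : X.Opens} (hW : IsAffineOpen W) (e : W ≤ f ⁻¹ᵁ V) (Z : Set X) (hZ : IsClosed Z) (y : Y)
    (hyV : y ∈ V) (hy : ∀ z ∈ Z, ¬ f z ⤳ y) :
    ∃ g : Γ(Y, V), y ∈ Y.basicOpen g ∧ ∀ z ∈ Z, z ∈ W → f z ∉ Y.basicOpen g := by
  classical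
  set q := (hV.primeIdealOf ⟨y, hyV⟩).asIdeal with hq
  set φ := (f.appLE V W e).hom with hφ
  let I : Ideal Γ(X, W) :=
    { carrier := {a | ∀ z ∈ Z, z ∉ X.basicOpen a}
      zero_mem' := by
        intro z _
        rw [Scheme.basicOpen_zero]
        exact fun h => h
      add_mem' := by
        intro a b ha hb z hz hzab
        have := X.basicOpen_add_le a b hzab
        rcases this with h | h
        · exact ha z hz h
        · exact hb z hz h
      smul_mem' := by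
        intro r a ha z hz hzra
        rw [smul_eq_mul, Scheme.basicOpen_mul] at hzra
        exact ha z hz hzra.2 }
  by_contra hcon
  push Not at hcon
  let M : Submonoid Γ(X, W) := q.primeCompl.map φ
  have hdis : Disjoint (I : Set Γ(X, W)) (M : Set Γ(X, W)) := by
    rw [Set.disjoint_left]
    rintro a ha ⟨g, hg, rfl⟩
    have hyg : y ∈ Y.basicOpen g := by
      by_contra hc
      exact hg ((mem_primeIdealOf_iff hV ⟨y, hyV⟩ g).mpr hc)
    obtain ⟨z, hz, hzW, hfz⟩ := hcon g hyg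
    apply ha z hz
    change z ∈ X.basicOpen (f.appLE V W e g)
    rw [Scheme.basicOpen_appLE]
    exact ⟨hzW, hfz⟩
  obtain ⟨p', hp', hle, hdis'⟩ := Ideal.exists_le_prime_disjoint I M hdis
  obtain ⟨z', hz'⟩ := primeIdealOf_surjective hW ⟨p', hp'⟩
  have hz'Z : z'.1 ∈ Z := by
    by_contra hc
    let O : X.Opens := W ⊓ ⟨Zᶜ, hZ.isOpen_compl⟩
    obtain ⟨a, haO, hza⟩ := hW.exists_basicOpen_le (V := O) ⟨z'.1, ⟨z'.2, hc⟩⟩ z'.2
    have haI : a ∈ I := by
      intro z hz hza'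
      exact (haO hza').2 hz
    have h1 : a ∈ (hW.primeIdealOf z').asIdeal := by
      rw [hz']
      exact hle haI
    exact (mem_primeIdealOf_iff hW z' a).mp h1 hza
  have hcomap := IsAffineOpen.comap_primeIdealOf_appLE V hV W hW e z'.2
  have h1 : hV.primeIdealOf ⟨f z'.1, e z'.2⟩ ≤ hV.primeIdealOf ⟨y, hyV⟩ := by
    rw [← hcomap, hz']
    intro b hb
    by_contra hbq
    exact Set.disjoint_left.mp hdis' hb ⟨b, hbq, rfl⟩
  rw [PrimeSpectrum.le_iff_specializes] at h1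
  have h2 := h1.map hV.fromSpec.continuous
  rw [hV.fromSpec_primeIdealOf, hV.fromSpec_primeIdealOf] at h2
  exact hy z'.1 hz'Z h2

theorem exists_opens_disjoint_of_quasiCompact (f : X ⟶ Y) [QuasiCompact f]
    (Z : Set X) (hZ : IsClosed Z) (y : Y) (hy : ∀ z ∈ Z, ¬ f z ⤳ y) :
    ∃ N : Y.Opens, y ∈ N ∧ ∀ z ∈ Z, f z ∉ N := by
  classical
  obtain ⟨_, ⟨V, hV, rfl⟩, hyV, -⟩ := Y.isBasis_affineOpens.exists_subset_of_mem_open
    (Set.mem_univ y) isOpen_univ
  have hc : IsCompact ((f ⁻¹ᵁ V : X.Opens) : Set X) := f.isCompact_preimage hV.isCompact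
  obtain ⟨s, hs, hsV⟩ := isCompact_iff_finite_and_eq_biUnion_affineOpens.mp hc
  have hWle : ∀ W ∈ s, (W : X.Opens) ≤ f ⁻¹ᵁ V := by
    intro W hW
    rw [hsV]
    exact le_iSup₂ (f := fun (i : X.affineOpens) (_ : i ∈ s) => (i : X.Opens)) W hW
  have hex : ∀ W : X.affineOpens, ∃ g : Γ(Y, V), W ∈ s → (y ∈ Y.basicOpen g ∧
      ∀ z ∈ Z, z ∈ (W : X.Opens) → f z ∉ Y.basicOpen g) := by
    intro W
    by_cases hW : W ∈ s
    · obtain ⟨g, hg⟩ := exists_basicOpen_disjoint f hV W.2 (hWle W hW) Z hZ y hyV hy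
      exact ⟨g, fun _ => hg⟩
    · exact ⟨0, fun h => absurd h hW⟩
  choose g hg using hex
  haveI := hs.to_subtype
  refine ⟨Y.basicOpen (∏ W ∈ hs.toFinset, g W), ?_, ?_⟩
  · have hq : ∀ W ∈ hs.toFinset, g W ∈ (hV.primeIdealOf ⟨y, hyV⟩).asIdeal.primeCompl := by
      intro W hW
      intro hmem
      exact (mem_primeIdealOf_iff hV ⟨y, hyV⟩ (g W)).mp hmem (hg W (hs.mem_toFinset.mp hW)).1
    have := prod_mem hq
    by_contra hcon
    exact this ((mem_primeIdealOf_iff hV ⟨y, hyV⟩ _).mpr hcon)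
  · intro z hz hfz
    have hzV : z ∈ f ⁻¹ᵁ V := Y.basicOpen_le _ hfz
    rw [hsV] at hzV
    simp only [Opens.mem_iSup] at hzV
    obtain ⟨W, hW, hzW⟩ := hzV
    refine (hg W hW).2 z hz hzW ?_
    have hdvd : g W ∣ ∏ W ∈ hs.toFinset, g W :=
      Finset.dvd_prod_of_mem g (hs.mem_toFinset.mpr hW)
    obtain ⟨c, hc⟩ := hdvd
    rw [hc, Scheme.basicOpen_mul] at hfz
    exact hfz.1

end Groth.Agent.Lib.Helper61.BiratQC
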