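import Mathlib
import Groth.Agent.Lib.Helper61.BiratGeneric
import Groth.Agent.Lib.Helper61.BiratGlue
import Groth.Agent.Lib.Helper61.BiratQC

/-!
# Birational morphisms are isomorphisms over a dense open of the target (Stacks 0BAD) (helper61)
-/

universe u

open CategoryTheory CategoryTheory.Limits TopologicalSpace Topology AlgebraicGeometry

namespace Groth.Agent.Lib.Helper61.BiratOver

open Groth.Agent.Lib.Helper61.BiratGeneric Groth.Agent.Lib.Helper61.BiratGlue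
open Groth.Agent.Lib.Helper61.BiratQC

variable {X Y : Scheme.{u}}

theorem isPullback_resLE (f : X ⟶ Y) {V V' : Y.Opens} {U U' : X.Opens} (e : U ≤ f ⁻¹ᵁ V)
    (e' : U' ≤ f ⁻¹ᵁ V') (hU : U' ≤ U) (hV : V' ≤ V) (h : U ⊓ f ⁻¹ᵁ V' ≤ U') :
    IsPullback (f.resLE V' U' e') (X.homOfLE hU) (Y.homOfLE hV) (f.resLE V U e) := by
  refine IsOpenImmersion.isPullback _ _ _ _ ?_ ?_
  · rw [Scheme.Hom.map_resLE, Scheme.Hom.resLE_map]
  · rw [Scheme.opensRange_homOfLE, Scheme.opensRange_homOfLE, ← Scheme.Hom.comp_preimage,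
      Scheme.Hom.resLE_comp_ι, Scheme.Hom.comp_preimage]
    ext ⟨u, hu⟩
    simp only [Scheme.Hom.coe_preimage, Set.mem_preimage, SetLike.mem_coe, Scheme.Opens.ι_apply]
    exact ⟨fun hfu => h ⟨hu, hfu⟩, fun hu' => e' hu'⟩

/-- If `f` restricts to an isomorphism `U ≅ V`, and `V' ≤ V` with `f⁻¹ V' ≤ U`, then `f` is an
isomorphism over `V'`. -/
theorem isIso_morphismRestrict_of_le (f : X ⟶ Y) {V V' : Y.Opens} {U : X.Opens}
    (e : U ≤ f ⁻¹ᵁ V) [IsIso (f.resLE V U e)] (hV : V' ≤ V) (hU : f ⁻¹ᵁ V' ≤ U) :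
    IsIso (f ∣_ V') := by
  have hpb := isPullback_resLE f e (le_refl (f ⁻¹ᵁ V')) hU hV inf_le_right
  rw [← Scheme.Hom.resLE_eq_morphismRestrict]
  exact hpb.isIso_fst_of_isIso

/-- **Stacks 0BAD**. -/
theorem exists_dense_isIso_morphismRestrict (f : X ⟶ Y)
    (hXfin : (irreducibleComponents ↥X).Finite) (hYfin : (irreducibleComponents ↥Y).Finite)
    (hbij : Set.BijOn (fun x : X => f.base x) {x : X | closure {x} ∈ irreducibleComponents ↥X}
      {y : Y | closure {y} ∈ irreducibleComponents ↥Y})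
    (hiso : ∀ x : X, closure {x} ∈ irreducibleComponents ↥X → IsIso (f.stalkMap x))
    (hf₁ : QuasiCompact f ∨ IsSeparated f)
    (hf₂ : (LocallyOfFiniteType f ∧ IsReduced Y) ∨ LocallyOfFinitePresentation f) :
    ∃ V : Y.Opens, Dense (V : Set ↥Y) ∧ IsIso (f ∣_ V) := by
  classical
  obtain ⟨U, V, hUV, hUd, hVd, hUViso, hUgen⟩ :=
    exists_dense_opens_isIso' f hXfin hYfin hbij hiso hf₂
  rcases hf₁ with hqc | hsep
  · -- quasi-compact case
    let ι := {x : X // closure {x} ∈ irreducibleComponents ↥X}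
    have hyi : ∀ i : ι, closure {f i.1} ∈ irreducibleComponents ↥Y := fun i => hbij.mapsTo i.2
    have hN : ∀ i : ι, ∃ N : Y.Opens, f i.1 ∈ N ∧ ∀ z ∈ (U : Set X)ᶜ, f z ∉ N := by
      intro i
      refine exists_opens_disjoint_of_quasiCompact f _ U.2.isClosed_compl (f i.1) ?_
      intro z hz hsp
      have h1 : f z = f i.1 := eq_of_specializes_of_mem_irreducibleComponents (hyi i) hsp
      have h2 : z = i.1 := eq_of_apply_eq_generic f hbij.injOn hiso i.1 i.2 (hyi i) z h1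
      exact hz (h2 ▸ hUgen i.1 i.2)
    choose N hiN hNZ using hN
    refine ⟨V ⊓ ⨆ i, N i, ?_, ?_⟩
    · rw [dense_iff_inter_open]
      rintro W hW ⟨w, hw⟩
      obtain ⟨y'', hy'', hsp⟩ := exists_generic_specializes w
      obtain ⟨x, hx, rfl⟩ := hbij.surjOn hy''
      refine ⟨f x, hsp.mem_open hW hw, hUV (hUgen x hx), ?_⟩
      exact (le_iSup N ⟨x, hx⟩) (hiN ⟨x, hx⟩)
    · refine isIso_morphismRestrict_of_le f hUV inf_le_left ?_
      intro z hz
      obtain ⟨i, hi⟩ := Opens.mem_iSup.mp hz.2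
      by_contra hzU
      exact hNZ i z hzU hi
  · -- separated case
    refine ⟨V, hVd, ?_⟩
    suffices h : f ⁻¹ᵁ V ≤ U from isIso_morphismRestrict_of_le f hUV le_rfl h
    let s : V.toScheme ⟶ (f ⁻¹ᵁ V).toScheme := inv (f.resLE V U hUV) ≫ X.homOfLE hUV
    have hs : s ≫ (f ∣_ V) = 𝟙 _ := by
      have : X.homOfLE hUV ≫ (f ∣_ V) = f.resLE V U hUV := rfl
      rw [Category.assoc, this, IsIso.inv_hom_id]
    haveI : IsClosedImmersion (s ≫ (f ∣_ V)) := by rw [hs]; infer_instance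
    haveI : IsClosedImmersion s := IsClosedImmersion.of_comp s (f ∣_ V)
    have hcl : IsClosed (Set.range s) := s.isClosedEmbedding.isClosed_range
    intro z hz
    by_contra hzU
    let z' : (f ⁻¹ᵁ V).toScheme := ⟨z, hz⟩
    have hz' : z' ∈ (Set.range s)ᶜ := by
      rintro ⟨v, hv⟩
      apply hzU
      have h1 : (f ⁻¹ᵁ V).ι (s v) = z := by rw [hv]; rfl
      rw [← h1]
      change ((s ≫ (f ⁻¹ᵁ V).ι) v) ∈ U
      have h2 : s ≫ (f ⁻¹ᵁ V).ι = inv (f.resLE V U hUV) ≫ U.ι := by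
        simp only [s, Category.assoc, Scheme.homOfLE_ι]
      rw [h2, Scheme.Hom.comp_apply]
      exact (inv (f.resLE V U hUV) v).2
    let O : X.Opens := (f ⁻¹ᵁ V).ι ''ᵁ ⟨(Set.range s)ᶜ, hcl.isOpen_compl⟩
    have hzO : z ∈ O := ⟨z', hz', rfl⟩
    obtain ⟨u, huO, huU⟩ := hUd.inter_open_nonempty O O.2 ⟨z, hzO⟩
    obtain ⟨u', hu', rfl⟩ := huO
    apply hu'
    let u₀ : U.toScheme := ⟨(f ⁻¹ᵁ V).ι u', huU⟩
    refine ⟨f.resLE V U hUV u₀, ?_⟩
    apply (f ⁻¹ᵁ V).ι.isEmbedding.injective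
    change (s ≫ (f ⁻¹ᵁ V).ι) _ = _
    have h2 : s ≫ (f ⁻¹ᵁ V).ι = inv (f.resLE V U hUV) ≫ U.ι := by
      simp only [s, Category.assoc, Scheme.homOfLE_ι]
    have h3 : (inv (f.resLE V U hUV)) (f.resLE V U hUV u₀) = u₀ := by
      rw [← Scheme.Hom.comp_apply, IsIso.hom_inv_id]
      rfl
    rw [h2, Scheme.Hom.comp_apply, h3]
    rfl

end Groth.Agent.Lib.Helper61.BiratOver
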