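import Mathlib.RingTheory.ZariskisMainTheorem
import Mathlib.RingTheory.IntegralClosure.IntegrallyClosed
import Mathlib.RingTheory.Localization.LocalizationLocalization
import Mathlib.RingTheory.Localization.AtPrime.Basic

/-!
# Birational quasi-finite algebras over a normal point are local isomorphisms (helper61)

Ring-level core: `A ⊆ B` domains with the same fraction field, `B` of finite type over `A`
and quasi-finite at a prime `q` lying over `p`, with `A_p` integrally closed.  Then some
`s ∈ A \ p` satisfies `A_s = B_s`.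
-/

set_option autoImplicit false
set_option linter.style.haveILetI false
universe u

namespace Groth.Agent.Lib.Helper61.BiratQF

variable {A B : Type u} [CommRing A] [CommRing B] [IsDomain A] [IsDomain B] [Algebra A B]

/-- Integral elements of `B` lie in `A_p` when `A_p` is integrally closed and `A ⊆ B` is
birational. -/
theorem exists_mul_eq_of_isIntegral
    (hinj : Function.Injective (algebraMap A B))
    (hbir : ∀ b : B, ∃ a : A, a ≠ 0 ∧ ∃ a' : A, algebraMap A B a * b = algebraMap A B a')
    (p : Ideal A) [p.IsPrime]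
    (Ap : Type u) [CommRing Ap] [Algebra A Ap] [IsLocalization.AtPrime Ap p]
    [IsIntegrallyClosed Ap] (x : B) (hx : IsIntegral A x) :
    ∃ t : A, t ∉ p ∧ ∃ a : A, algebraMap A B t * x = algebraMap A B a := by
  classical
  let K := FractionRing B
  haveI : IsScalarTower A B K := inferInstance
  have hBK : Function.Injective (algebraMap B K) := IsFractionRing.injective B K
  have hAK : Function.Injective (algebraMap A K) := hBK.comp hinj
  haveI : FaithfulSMul A K := (faithfulSMul_iff_algebraMap_injective A K).mpr hAK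
  haveI : IsFractionRing A K := by
    refine IsFractionRing.of_field A K fun z => ?_
    obtain ⟨b, b', hb', rfl⟩ := IsFractionRing.div_surjective (A := B) z
    have hb'0 : b' ≠ 0 := nonZeroDivisors.ne_zero hb'
    obtain ⟨a1, ha1, a1', h1⟩ := hbir b
    obtain ⟨a2, ha2, a2', h2⟩ := hbir b'
    have ha2' : a2' ≠ 0 := by
      rintro rfl
      rw [map_zero] at h2
      rcases mul_eq_zero.mp h2 with h | h
      · exact ha2 (hinj (by rw [h, map_zero]))
      · exact hb'0 h
    refine ⟨a1' * a2, a1 * a2', ?_⟩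
    have e1 : algebraMap A K a1 * algebraMap B K b = algebraMap A K a1' := by
      have := congrArg (algebraMap B K) h1
      rwa [map_mul] at this
    have e2 : algebraMap A K a2 * algebraMap B K b' = algebraMap A K a2' := by
      have := congrArg (algebraMap B K) h2
      rwa [map_mul] at this
    have n1 : algebraMap A K a1 ≠ 0 := fun h => ha1 (hAK (by rw [h, map_zero]))
    have n2 : algebraMap A K a2' ≠ 0 := fun h => ha2' (hAK (by rw [h, map_zero]))
    have n3 : algebraMap B K b' ≠ 0 := fun h => hb'0 (hBK (by rw [h, map_zero]))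
    rw [map_mul, map_mul, div_eq_div_iff n3 (mul_ne_zero n1 n2), ← e1, ← e2]
    ring
  have hunits : ∀ y : p.primeCompl, IsUnit (algebraMap A K y) := by
    intro y
    refine IsUnit.mk0 _ fun h => ?_
    have : (y : A) = 0 := hAK (by rw [h, map_zero])
    exact y.2 (this ▸ p.zero_mem)
  letI : Algebra Ap K := (IsLocalization.lift (M := p.primeCompl) (S := Ap) hunits).toAlgebra
  haveI : IsScalarTower A Ap K := IsScalarTower.of_algebraMap_eq fun a =>
    (IsLocalization.lift_eq (M := p.primeCompl) (S := Ap) hunits a).symm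
  haveI : IsFractionRing Ap K :=
    IsFractionRing.isFractionRing_of_isDomain_of_isLocalization p.primeCompl Ap K
  have hxK : IsIntegral Ap (algebraMap B K x) := (hx.map (IsScalarTower.toAlgHom A B K)).tower_top
  obtain ⟨y, hy⟩ := IsIntegrallyClosed.isIntegral_iff.mp hxK
  obtain ⟨a, t, rfl⟩ := IsLocalization.exists_mk'_eq p.primeCompl y
  refine ⟨t, t.2, a, ?_⟩
  apply hBK
  rw [map_mul, ← hy]
  have h3 : algebraMap Ap K (IsLocalization.mk' Ap a t) * algebraMap A K t = algebraMap A K a := by
    rw [IsScalarTower.algebraMap_apply A Ap K, IsScalarTower.algebraMap_apply A Ap K, ← map_mul,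
      IsLocalization.mk'_spec]
  rw [mul_comm]
  exact h3

/-- Core lemma: `B_s = A_s` for some `s ∉ p`. -/
theorem exists_away [Algebra.FiniteType A B]
    (hinj : Function.Injective (algebraMap A B))
    (hbir : ∀ b : B, ∃ a : A, a ≠ 0 ∧ ∃ a' : A, algebraMap A B a * b = algebraMap A B a')
    (q : Ideal B) [q.IsPrime] [Algebra.QuasiFiniteAt A q]
    (p : Ideal A) [p.IsPrime] [q.LiesOver p]
    (Ap : Type u) [CommRing Ap] [Algebra A Ap] [IsLocalization.AtPrime Ap p]
    [IsIntegrallyClosed Ap] :
    ∃ s : A, s ∉ p ∧ ∀ b : B, ∃ (n : ℕ) (a : A), algebraMap A B s ^ n * b = algebraMap A B a := by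
  classical
  have hpq : ∀ a : A, algebraMap A B a ∈ q ↔ a ∈ p := by
    intro a
    rw [Ideal.over_def q p, Ideal.mem_comap]
  obtain ⟨r, hrq, hrint, hr⟩ :=
    Algebra.zariskisMainProperty_iff.mp (Algebra.ZariskisMainProperty.of_finiteType (R := A) q)
  have hN := exists_mul_eq_of_isIntegral hinj hbir p Ap
  -- r = a0 / t0 with a0 ∉ p
  obtain ⟨t0, ht0, a0, h0⟩ := hN r hrint
  have ha0 : a0 ∉ p := by
    intro h
    have h1 : algebraMap A B t0 * r ∈ q := by rw [h0]; exact (hpq a0).mpr h
    rcases Ideal.IsPrime.mem_or_mem inferInstance h1 with h2 | h2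
    · exact ht0 ((hpq t0).mp h2)
    · exact hrq h2
  -- every x is in A_p
  have hall : ∀ x : B, ∃ u : A, u ∉ p ∧ ∃ a : A, algebraMap A B u * x = algebraMap A B a := by
    intro x
    obtain ⟨m, hm⟩ := hr x
    obtain ⟨t1, ht1, a1, h1⟩ := hN _ hm
    refine ⟨t1 * a0 ^ m, ?_, t0 ^ m * a1, ?_⟩
    · intro h
      rcases Ideal.IsPrime.mem_or_mem inferInstance h with h2 | h2
      · exact ht1 h2
      · exact ha0 (Ideal.IsPrime.mem_of_pow_mem inferInstance m h2)
    · rw [map_mul, map_mul, map_pow, map_pow, ← h0, ← h1]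
      ring
  obtain ⟨F, hF⟩ := (Algebra.FiniteType.out : (⊤ : Subalgebra A B).FG)
  choose u hu a ha using hall
  refine ⟨∏ x ∈ F, u x, ?_, ?_⟩
  · intro h
    obtain ⟨x, -, hx⟩ := (Ideal.IsPrime.prod_mem_iff (hp := inferInstance)).mp h
    exact hu x hx
  set s := ∏ x ∈ F, u x with hs
  let S : Subalgebra A B :=
    { carrier := {b | ∃ (n : ℕ) (c : A), algebraMap A B s ^ n * b = algebraMap A B c}
      mul_mem' := by
        rintro b b' ⟨n, c, h⟩ ⟨n', c', h'⟩
        refine ⟨n + n', c * c', ?_⟩
        rw [map_mul, ← h, ← h', pow_add]; ring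
      add_mem' := by
        rintro b b' ⟨n, c, h⟩ ⟨n', c', h'⟩
        refine ⟨n + n', s ^ n' * c + s ^ n * c', ?_⟩
        rw [map_add, map_mul, map_mul, map_pow, map_pow, ← h, ← h', pow_add]; ring
      algebraMap_mem' := fun c => ⟨0, c, by simp⟩ }
  have hS : (⊤ : Subalgebra A B) ≤ S := by
    rw [← hF]
    refine Algebra.adjoin_le ?_
    intro x hx
    have hx' : x ∈ F := hx
    refine ⟨1, (∏ y ∈ F.erase x, u y) * a x, ?_⟩
    rw [pow_one, hs, ← Finset.mul_prod_erase F u hx', map_mul, map_mul, ← ha x]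
    ring
  intro b
  exact hS (Algebra.mem_top : b ∈ (⊤ : Subalgebra A B))

/-- The induced map on localizations away from `s` is bijective. -/
theorem bijective_of_away {A B As Bs : Type*} [CommRing A] [CommRing B] [CommRing As]
    [CommRing Bs] [Algebra A As] [Algebra B Bs] (φ : A →+* B) (s : A)
    [IsLocalization.Away s As] [IsLocalization.Away (φ s) Bs]
    (ψ : As →+* Bs) (hψ : ∀ a, ψ (algebraMap A As a) = algebraMap B Bs (φ a))
    (hinj : Function.Injective φ)
    (hsurj : ∀ b : B, ∃ (n : ℕ) (a : A), φ s ^ n * b = φ a) :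
    Function.Bijective ψ := by
  have hus : ∀ n : ℕ, IsUnit (algebraMap A As (s ^ n)) := fun n =>
    IsLocalization.map_units As (⟨s ^ n, n, rfl⟩ : Submonoid.powers s)
  have hut : ∀ n : ℕ, IsUnit (algebraMap B Bs (φ s ^ n)) := fun n =>
    IsLocalization.map_units Bs (⟨φ s ^ n, n, rfl⟩ : Submonoid.powers (φ s))
  constructor
  · rw [injective_iff_map_eq_zero]
    intro z hz
    obtain ⟨⟨a, ⟨_, n, rfl⟩⟩, h⟩ := IsLocalization.surj (Submonoid.powers s) z
    simp only at h
    have h1 : algebraMap B Bs (φ a) = 0 := by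
      rw [← hψ, ← h, map_mul, hz, zero_mul]
    obtain ⟨⟨_, m, rfl⟩, hm⟩ := (IsLocalization.map_eq_zero_iff (Submonoid.powers (φ s)) Bs _).mp h1
    simp only at hm
    have h2 : s ^ m * a = 0 := hinj (by rw [map_mul, map_pow, hm, map_zero])
    have h3 : algebraMap A As a = 0 := by
      have := congrArg (algebraMap A As) h2
      rw [map_mul, map_zero] at this
      exact (hus m).mul_right_eq_zero.mp this
    rw [h3] at h
    exact (hus n).mul_left_eq_zero.mp h
  · intro w
    obtain ⟨⟨b, ⟨_, n, rfl⟩⟩, h⟩ := IsLocalization.surj (Submonoid.powers (φ s)) w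
    simp only at h
    obtain ⟨m, c, hc⟩ := hsurj b
    obtain ⟨v, hv⟩ := (hus (n + m)).exists_right_inv
    refine ⟨algebraMap A As c * v, ?_⟩
    have hv' : algebraMap B Bs (φ s ^ (n + m)) * ψ v = 1 := by
      rw [← map_pow, ← hψ, ← map_mul, hv, map_one]
    apply (hut (n + m)).mul_left_cancel
    rw [map_mul, hψ, mul_left_comm, hv', mul_one, ← hc, map_mul, pow_add, map_mul, ← h]
    ring

end Groth.Agent.Lib.Helper61.BiratQF
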