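import Mathlib

/-!
# Compact objects are quotients of finite powers of a separator (helper61)

Pure category theory.  Let `C` be an abelian category with small colimits and a separator `G`.
If `Hom(F, -)` commutes with small filtered colimits then `F` is a quotient of a finite coproduct of
copies of `G`.  Consequently, if `C` is well-powered, such objects `F` are represented, up to
isomorphism, by the small family `cokernel K.arrow`, `K : Subobject (∐_{Fin n} G)`, `n : ℕ`.
-/

set_option autoImplicit false
universe v u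
open CategoryTheory CategoryTheory.Limits Opposite

namespace Groth.Agent.Lib.Helper61.CompactQuot

variable {C : Type u} [Category.{v} C] [Abelian C] [HasColimitsOfSize.{v, v} C]

section

variable (G F : C)

/-- the canonical map from the coproduct of copies of `G` indexed by a finite set of maps. -/
noncomputable def σ (S : Finset (G ⟶ F)) : (∐ fun _ : S => G) ⟶ F :=
  Sigma.desc fun s => s.1

/-- the quotient map. -/
noncomputable def q (S : Finset (G ⟶ F)) : F ⟶ cokernel (σ G F S) := cokernel.π _

lemma comp_q {S : Finset (G ⟶ F)} (g : G ⟶ F) (hg : g ∈ S) : g ≫ q G F S = 0 := by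
  have h : g = Sigma.ι (fun _ : S => G) ⟨g, hg⟩ ≫ σ G F S := by
    simp [σ]
  rw [h, Category.assoc, q, cokernel.condition, comp_zero]

lemma σ_comp_q {S S' : Finset (G ⟶ F)} (h : S ≤ S') : σ G F S ≫ q G F S' = 0 := by
  apply Sigma.hom_ext
  intro s
  rw [comp_zero]
  change Sigma.ι _ s ≫ Sigma.desc _ ≫ _ = 0
  rw [Sigma.ι_desc_assoc]
  exact comp_q G F s.1 (h s.2)

/-- the functor `S ↦ coker (∐_S G ⟶ F)`. -/
noncomputable def D : Finset (G ⟶ F) ⥤ C where
  obj S := cokernel (σ G F S)
  map {S S'} f := cokernel.desc _ (q G F S') (σ_comp_q G F (leOfHom f))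
  map_id S := by
    apply coequalizer.hom_ext
    simp [q]
  map_comp f g := by
    apply coequalizer.hom_ext
    simp [q]

/-- the quotient map, with codomain written as a value of `D`. -/
noncomputable def q' (S : Finset (G ⟶ F)) : F ⟶ (D G F).obj S := q G F S

lemma q_comp_map {S S' : Finset (G ⟶ F)} (f : S ⟶ S') :
    q' G F S ≫ (D G F).map f = q' G F S' := by
  simp [q', q, D]

lemma comp_q' {S : Finset (G ⟶ F)} (g : G ⟶ F) (hg : g ∈ S) : g ≫ q' G F S = 0 :=
  comp_q G F g hg

end

/-- A compact object is a quotient of a finite coproduct of copies of a separator. -/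
theorem exists_finset_epi_of_compact {G : C} (hG : IsSeparator G) (F : C)
    (hF : ∀ {Λ : Type v} [SmallCategory Λ] [IsFiltered Λ] (E : Λ ⥤ C),
      PreservesColimit E (coyoneda.obj (op F))) :
    ∃ S : Finset (G ⟶ F), Epi (σ G F S) := by
  classical
  haveI := hF (D G F)
  let p : F ⟶ colimit (D G F) := q' G F ∅ ≫ colimit.ι (D G F) ∅
  have hp : ∀ S, q' G F S ≫ colimit.ι (D G F) S = p := by
    intro S
    have h : (∅ : Finset (G ⟶ F)) ≤ S := Finset.empty_subset S
    rw [← q_comp_map G F (homOfLE h), Category.assoc, colimit.w]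
  have hp0 : p = 0 := by
    apply hG.def
    intro g
    rw [← hp {g}, ← Category.assoc, comp_q' G F g (Finset.mem_singleton_self g), zero_comp,
      comp_zero]
  obtain ⟨S, a, ha⟩ := Limits.exists_eq_of_preservesColimit_coyoneda_self
    (colimit.isColimit (D G F)) (X := F) (i := ∅) (q' G F ∅) 0 (by
      change q' G F ∅ ≫ colimit.ι (D G F) ∅ = 0 ≫ colimit.ι (D G F) ∅
      rw [zero_comp]
      exact hp0)
  rw [q_comp_map, zero_comp] at ha
  exact ⟨S, Abelian.epi_of_cokernel_π_eq_zero _ ha⟩

variable (G : C)

/-- the small index type of the representatives. -/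
abbrev Idx : Type (max u v) := Σ n : ℕ, Subobject (∐ fun _ : Fin n => G)

/-- the representatives. -/
noncomputable def rep (t : Idx G) : C := cokernel t.2.arrow

instance [LocallySmall.{v} C] [WellPowered.{v} C] : Small.{v} (Idx G) := by
  unfold Idx
  infer_instance

/-- An epimorphic image of `∐_{Fin n} G` is isomorphic to a representative. -/
theorem exists_rep_of_epi {n : ℕ} {F : C} (π : (∐ fun _ : Fin n => G) ⟶ F) [Epi π] :
    ∃ t : Idx G, Nonempty (F ≅ rep G t) := by
  refine ⟨⟨n, Subobject.mk (kernel.ι π)⟩, ⟨?_⟩⟩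
  have h1 : IsColimit (CokernelCofork.ofπ π (kernel.condition π)) :=
    Abelian.epiIsCokernelOfKernel _ (limit.isLimit _)
  have e1 : cokernel (kernel.ι π) ≅ F :=
    (cokernelIsCokernel (kernel.ι π)).coconePointUniqueUpToIso h1
  have h2 : (Subobject.mk (kernel.ι π)).arrow =
      (Subobject.underlyingIso (kernel.ι π)).hom ≫ kernel.ι π :=
    (Subobject.underlyingIso_hom_comp_eq_mk (kernel.ι π)).symm
  exact e1.symm ≪≫ (cokernelEpiComp (Subobject.underlyingIso (kernel.ι π)).hom
    (kernel.ι π)).symm ≪≫ (cokernelIsoOfEq h2).symm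

/-- A compact object is isomorphic to one of the representatives. -/
theorem exists_rep_of_compact {G : C} (hG : IsSeparator G) (F : C)
    (hF : ∀ {Λ : Type v} [SmallCategory Λ] [IsFiltered Λ] (E : Λ ⥤ C),
      PreservesColimit E (coyoneda.obj (op F))) :
    ∃ t : Idx G, Nonempty (F ≅ rep G t) := by
  classical
  obtain ⟨S, hS⟩ := exists_finset_epi_of_compact hG F hF
  let e : Fin S.card ≃ S := S.equivFin.symm
  let r : (∐ fun _ : Fin S.card => G) ≅ ∐ fun _ : S => G :=
    Sigma.reindex e (fun _ : S => G)
  haveI : Epi (r.hom ≫ σ G F S) := epi_comp _ _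
  exact exists_rep_of_epi G (r.hom ≫ σ G F S)

end Groth.Agent.Lib.Helper61.CompactQuot
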