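import Groth.Agent.Lib.Helper61.UnivThick
import Groth.Agent.Lib.Helper61.QCohPullbackSections
import Groth.Agent.Lib.QCoh.OmegaS2
import Mathlib.LinearAlgebra.TensorProduct.Quotient

/-!
# Vanishing of the conormal sheaf of a square-zero closed immersion (helper61)
-/

set_option autoImplicit false
universe u
open AlgebraicGeometry CategoryTheory Limits TensorProduct

namespace Groth.Agent.Lib.Helper61.ConormalZero

/-- If `A' → A` is surjective with square zero kernel `J` and `A ⊗[A'] J = 0` then `J = 0`. -/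
theorem eq_bot_of_subsingleton_tensor {A' A : Type u} [CommRing A'] [CommRing A] [Algebra A' A]
    (hsurj : Function.Surjective (algebraMap A' A)) (J : Ideal A')
    (hJ : ∀ x, x ∈ J ↔ algebraMap A' A x = 0)
    (hsq : ∀ x ∈ J, ∀ y ∈ J, x * y = 0)
    (hss : Subsingleton (A ⊗[A'] J)) : J = ⊥ := by
  let q : (A' ⧸ J) →ₗ[A'] A :=
    Submodule.liftQ J (Algebra.linearMap A' A) (fun x hx => (hJ x).mp hx)
  have hq : Function.Bijective q := by
    constructor
    · rw [← LinearMap.ker_eq_bot]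
      apply Submodule.ker_liftQ_eq_bot
      intro x hx
      exact (hJ x).mpr hx
    · intro a
      obtain ⟨x, rfl⟩ := hsurj a
      exact ⟨Submodule.Quotient.mk x, rfl⟩
  let e1 : (A' ⧸ J) ≃ₗ[A'] A := LinearEquiv.ofBijective q hq
  let e2 : (A' ⧸ J) ⊗[A'] J ≃ₗ[A'] A ⊗[A'] J := TensorProduct.congr e1 (LinearEquiv.refl _ _)
  let e3 := TensorProduct.quotTensorEquivQuotSMul (↥J) J
  have hbot : (J • (⊤ : Submodule A' J)) = ⊥ := by
    rw [eq_bot_iff, Submodule.smul_le]
    intro r hr n _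
    rw [Submodule.mem_bot]
    exact Subtype.ext (hsq r hr n.1 n.2)
  have h1 : Subsingleton ((A' ⧸ J) ⊗[A'] J) := e2.toEquiv.subsingleton
  have h2 : Subsingleton (↥J ⧸ (J • (⊤ : Submodule A' J))) := e3.symm.toEquiv.subsingleton
  have h3 : Subsingleton ↥J := (Submodule.quotEquivOfEqBot _ hbot).symm.toEquiv.subsingleton
  rw [eq_bot_iff]
  intro x hx
  have := Subsingleton.elim (⟨x, hx⟩ : ↥J) 0
  exact congrArg Subtype.val this

/-- Sections of a zero module are trivial. -/
theorem subsingleton_sections_of_isZero {X : Scheme.{u}} {M : X.Modules} (hM : IsZero M)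
    (U : X.Opens) : Subsingleton Γ(M, U) := by
  refine ⟨fun x y => ?_⟩
  have h0 : (𝟙 M : M ⟶ M) = 0 := hM.eq_of_src _ _
  have h1 : ∀ z : Γ(M, U), z = 0 := fun z => by
    have := congrArg (fun φ : M ⟶ M => (φ.app U) z) h0
    exact this
  rw [h1 x, h1 y]

/-- If the conormal sheaf of a closed immersion with square zero ideal vanishes, the ideal is
zero. -/
theorem ker_eq_bot_of_isZero_conormal {X X' : Scheme.{u}} (i : X ⟶ X') [IsClosedImmersion i]
    (hsq : i.ker * i.ker = ⊥) (hz : IsZero (Omega.conormal i)) : i.ker = ⊥ := by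
  refine le_antisymm (fun U' => ?_) bot_le
  rw [Scheme.IdealSheafData.ideal_bot]
  have hU : IsAffineOpen (i ⁻¹ᵁ U'.1) := U'.2.preimage i
  letI alg : Algebra Γ(X', U'.1) Γ(X, i ⁻¹ᵁ U'.1) := (i.appLE U'.1 (i ⁻¹ᵁ U'.1) le_rfl).hom.toAlgebra
  have hmap : ∀ x : Γ(X', U'.1), algebraMap Γ(X', U'.1) Γ(X, i ⁻¹ᵁ U'.1) x = (i.app U'.1).hom x := by
    intro x
    show (i.appLE U'.1 (i ⁻¹ᵁ U'.1) le_rfl).hom x = _
    rw [Scheme.Hom.appLE_eq_app]
  have e := QCohPullback.sectionsPullbackEquiv i (ClSub.idealMod i.ker) hU U'.2 le_rfl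
  haveI : Subsingleton Γ((Scheme.Modules.pullback i).obj (ClSub.idealMod i.ker), i ⁻¹ᵁ U'.1) :=
    subsingleton_sections_of_isZero hz _
  have h1 : Subsingleton (Γ(X, i ⁻¹ᵁ U'.1) ⊗[Γ(X', U'.1)] Γ(ClSub.idealMod i.ker, U'.1)) :=
    e.symm.toEquiv.subsingleton
  let e2 := TensorProduct.congr (LinearEquiv.refl Γ(X', U'.1) Γ(X, i ⁻¹ᵁ U'.1))
    (Groth.Agent.Lib.QCoh.idealModΓEquiv i.ker U'.1)
  have h2 := e2.symm.toEquiv.subsingleton
  have hJ : RingHom.ker (i.ker.subschemeι.app U'.1).hom = i.ker.ideal U' :=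
    Scheme.IdealSheafData.ker_subschemeι_app i.ker U'
  have hres := eq_bot_of_subsingleton_tensor
    (A' := Γ(X', U'.1)) (A := Γ(X, i ⁻¹ᵁ U'.1))
    (fun a => by
      obtain ⟨x, hx⟩ := i.app_surjective U'.1 U'.2 a
      exact ⟨x, (hmap x).trans hx⟩)
    (RingHom.ker (i.ker.subschemeι.app U'.1).hom)
    (fun x => by
      rw [hJ, Scheme.Hom.ker_apply, RingHom.mem_ker, hmap])
    (fun x hx y hy => by
      rw [hJ, Scheme.Hom.ker_apply, RingHom.mem_ker] at hx hy
      exact ThickBC.sq_zero i hsq U'.1 x y hx hy)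
    h2
  rw [← hJ, hres]
  exact bot_le

/-- The ideal module of the zero ideal sheaf is zero. -/
theorem isZero_idealMod_bot (X : Scheme.{u}) : IsZero (ClSub.idealMod (⊥ : X.IdealSheafData)) := by
  rw [IsZero.iff_id_eq_zero]
  apply Scheme.Modules.hom_ext
  intro U
  have hss : Subsingleton Γ(ClSub.idealMod (⊥ : X.IdealSheafData), U) := by
    have e := Groth.Agent.Lib.QCoh.idealModΓEquiv (⊥ : X.IdealSheafData) U
    have hinj : Function.Injective ((⊥ : X.IdealSheafData).subschemeι.app U).hom :=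
      (ConcreteCategory.bijective_of_isIso ((⊥ : X.IdealSheafData).subschemeι.app U)).1
    have hk : RingHom.ker ((⊥ : X.IdealSheafData).subschemeι.app U).hom = ⊥ :=
      (RingHom.injective_iff_ker_eq_bot _).mp hinj
    have h2 : Subsingleton ↥(RingHom.ker ((⊥ : X.IdealSheafData).subschemeι.app U).hom) := by
      rw [hk]
      infer_instance
    exact e.toEquiv.subsingleton
  ext x
  exact Subsingleton.elim _ _

/-- The conormal sheaf of an isomorphism is zero. -/
theorem isZero_conormal_of_isIso {X X' : Scheme.{u}} (i : X ⟶ X') [IsIso i] :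
    IsZero (Omega.conormal i) := by
  unfold Omega.conormal
  rw [Scheme.Hom.ker_eq_bot_of_isIso]
  exact (Scheme.Modules.pullback i).map_isZero (isZero_idealMod_bot X')

/-- A closed immersion with zero ideal is an isomorphism. -/
theorem isIso_of_ker_eq_bot {X X' : Scheme.{u}} (i : X ⟶ X') [IsClosedImmersion i]
    (hk : i.ker = ⊥) : IsIso i := by
  have h1 : IsIso i.imageι := (Scheme.isIso_subschemeι_iff_eq_bot i.ker).mpr hk
  rw [← i.toImage_imageι]
  infer_instance

end Groth.Agent.Lib.Helper61.ConormalZero
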