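import Mathlib
import Groth.Agent.Lib.Helper61.GenFinMain
import Groth.Agent.Lib.Helper61.BiratGlue

/-!
# Generic finiteness over a dense open (Stacks 0BAH-type statement) (helper61)
-/

universe u

open CategoryTheory CategoryTheory.Limits TopologicalSpace Topology AlgebraicGeometry

namespace Groth.Agent.Lib.Helper61.GenFin

open Groth.Agent.Lib.Helper61.BiratGeneric Groth.Agent.Lib.Helper61.BiratQF
  Groth.Agent.Lib.Helper61.BiratSpreadScheme Groth.Agent.Lib.Helper61.BiratGlue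

variable {X Y : Scheme.{u}}

/-- Affine-local form: a closed set of an affine open whose image misses a maximal point `η`
of the (affine) target misses the preimage of a basic open neighbourhood of `η`. -/
theorem exists_basicOpen_disjoint_of_closed (f : X ⟶ Y) {V : Y.Opens} (hV : IsAffineOpen V)
    {W : X.Opens} (hW : IsAffineOpen W) (e : W ≤ f ⁻¹ᵁ V) (T : Set X) (hT : IsClosed T)
    {η : Y} (hηV : η ∈ V) (hη : closure {η} ∈ irreducibleComponents ↥Y)
    (hηT : ∀ x ∈ T, f x ≠ η) :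
    ∃ a : Γ(Y, V), η ∈ Y.basicOpen a ∧ ∀ x ∈ T, x ∈ W → f x ∉ Y.basicOpen a := by
  set φ := (f.appLE V W e).hom with hφ
  set P := (hV.primeIdealOf ⟨η, hηV⟩).asIdeal with hP
  haveI : P.IsPrime := (hV.primeIdealOf ⟨η, hηV⟩).2
  let t : Set (PrimeSpectrum Γ(X, W)) := (fun q : PrimeSpectrum Γ(X, W) => hW.fromSpec q) ⁻¹' T
  have ht : IsClosed t := hT.preimage hW.fromSpec.continuous
  let I : Ideal Γ(X, W) := PrimeSpectrum.vanishingIdeal t
  have hnot : ¬ (I.comap φ ≤ P) := by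
    intro hle
    have hmin : P ∈ (I.comap φ).minimalPrimes := by
      refine ⟨⟨inferInstance, hle⟩, ?_⟩
      rintro q ⟨hq, -⟩ hqP
      exact (primeIdealOf_mem_minimalPrimes hV hηV hη).2 ⟨hq, bot_le⟩ hqP
    obtain ⟨q, hq, hIq, hqP⟩ := Ideal.exists_comap_eq_of_mem_minimalPrimes φ P hmin
    have hqt : (⟨q, hq⟩ : PrimeSpectrum Γ(X, W)) ∈ t := by
      have h1 : (⟨q, hq⟩ : PrimeSpectrum Γ(X, W)) ∈ PrimeSpectrum.zeroLocus (I : Set Γ(X, W)) := hIq
      rw [PrimeSpectrum.zeroLocus_vanishingIdeal_eq_closure, ht.closure_eq] at h1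
      exact h1
    obtain ⟨x, hx⟩ := primeIdealOf_surjective hW ⟨q, hq⟩
    have hxT : x.1 ∈ T := by
      have h2 : hW.fromSpec (⟨q, hq⟩ : PrimeSpectrum Γ(X, W)) ∈ T := hqt
      rw [← hx, hW.fromSpec_primeIdealOf] at h2
      exact h2
    apply hηT x.1 hxT
    have hcomap := IsAffineOpen.comap_primeIdealOf_appLE V hV W hW e x.2
    have h3 : hV.primeIdealOf ⟨f x.1, e x.2⟩ = hV.primeIdealOf ⟨η, hηV⟩ := by
      rw [← hcomap, hx]
      exact PrimeSpectrum.ext hqP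
    have h4 := congrArg (fun q => hV.fromSpec q) h3
    simp only [hV.fromSpec_primeIdealOf] at h4
    exact h4
  obtain ⟨a, haI, haP⟩ := SetLike.not_le_iff_exists.mp hnot
  refine ⟨a, ?_, ?_⟩
  · by_contra hcon
    exact haP ((mem_primeIdealOf_iff hV ⟨η, hηV⟩ a).mpr hcon)
  · intro x hxT hxW hfx
    have h1 : hW.primeIdealOf ⟨x, hxW⟩ ∈ t := by
      change hW.fromSpec (hW.primeIdealOf ⟨x, hxW⟩) ∈ T
      rw [hW.fromSpec_primeIdealOf]
      exact hxT
    have h2 : φ a ∈ (hW.primeIdealOf ⟨x, hxW⟩).asIdeal :=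
      (PrimeSpectrum.mem_vanishingIdeal t (φ a)).mp haI _ h1
    rw [mem_primeIdealOf_iff hW ⟨x, hxW⟩ (φ a)] at h2
    apply h2
    change x ∈ X.basicOpen (f.appLE V W e a)
    rw [Scheme.basicOpen_appLE]
    exact ⟨hxW, hfx⟩

/-- For a quasi-compact morphism, a closed set whose image misses a maximal point `η` of the
target misses the preimage of a whole neighbourhood of `η`. -/
theorem exists_opens_disjoint_of_closed (f : X ⟶ Y) [QuasiCompact f] (T : Set X)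
    (hT : IsClosed T) {η : Y} (hη : closure {η} ∈ irreducibleComponents ↥Y)
    (hηT : ∀ x ∈ T, f x ≠ η) :
    ∃ N : Y.Opens, η ∈ N ∧ ∀ x ∈ T, f x ∉ N := by
  classical
  obtain ⟨_, ⟨V₀, hV₀, rfl⟩, hηV₀, -⟩ :=
    Y.isBasis_affineOpens.exists_subset_of_mem_open (Set.mem_univ η) isOpen_univ
  have hc : IsCompact ((f ⁻¹ᵁ V₀ : X.Opens) : Set X) :=
    QuasiCompact.isCompact_preimage (f := f) _ V₀.2 hV₀.isCompact
  obtain ⟨s, hs, hsU⟩ := (isCompact_iff_finite_and_eq_biUnion_affineOpens).mp hc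
  haveI : Finite ↥s := hs.to_subtype
  have := Fintype.ofFinite ↥s
  have hsub : ∀ i : ↥s, (i.1 : X.Opens) ≤ f ⁻¹ᵁ V₀ := by
    intro i
    rw [hsU]
    exact le_iSup₂ (f := fun (j : X.affineOpens) (_ : j ∈ s) => (j : X.Opens)) i.1 i.2
  choose a haη ha using fun i : ↥s =>
    exists_basicOpen_disjoint_of_closed f hV₀ i.1.2 (hsub i) T hT hηV₀ hη hηT
  haveI := (hV₀.primeIdealOf ⟨η, hηV₀⟩).2
  have hηg : ∀ g : Γ(Y, V₀), η ∈ Y.basicOpen g ↔
      g ∉ (hV₀.primeIdealOf ⟨η, hηV₀⟩).asIdeal := by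
    intro g
    rw [mem_primeIdealOf_iff hV₀ ⟨η, hηV₀⟩ g, not_not]
  refine ⟨Y.basicOpen (∏ i, a i), ?_, ?_⟩
  · rw [hηg]
    intro hmem
    obtain ⟨i, -, hi⟩ := (Ideal.IsPrime.prod_mem_iff).mp hmem
    exact (hηg _).mp (haη i) hi
  · intro x hxT hfx
    have hx' : x ∈ f ⁻¹ᵁ V₀ := Y.basicOpen_le _ hfx
    rw [hsU] at hx'
    simp only [Opens.mem_iSup] at hx'
    obtain ⟨j, hj, hxj⟩ := hx'
    apply ha ⟨j, hj⟩ x hxT hxj
    have hdvd : a ⟨j, hj⟩ ∣ ∏ i, a i := Finset.dvd_prod_of_mem _ (Finset.mem_univ _)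
    obtain ⟨c, hc⟩ := hdvd
    rw [hc, Scheme.basicOpen_mul] at hfx
    exact hfx.1

lemma finite_setOf_generic {Z : Type*} [TopologicalSpace Z] [T0Space Z]
    (hZ : (irreducibleComponents Z).Finite) :
    {z : Z | closure {z} ∈ irreducibleComponents Z}.Finite := by
  refine Set.Finite.of_finite_image (f := fun z : Z => closure {z}) (hZ.subset ?_) ?_
  · rintro _ ⟨z, hz, rfl⟩
    exact hz
  · intro z _ z' _ h
    exact (inseparable_iff_closure_eq.mpr h).eq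

set_option backward.isDefEq.respectTransparency.types false in
/-- Finiteness over each member of a family of opens gives finiteness over their union. -/
theorem isFinite_morphismRestrict_iSup (f : X ⟶ Y) {κ : Type*} (V : κ → Y.Opens)
    (h : ∀ k, IsFinite (f ∣_ V k)) : IsFinite (f ∣_ ⨆ k, V k) := by
  refine IsZariskiLocalAtTarget.of_forall_exists_morphismRestrict (P := @IsFinite) ?_
  intro x
  obtain ⟨k, hk⟩ := Opens.mem_iSup.mp x.2
  refine ⟨(⨆ k, V k).ι ⁻¹ᵁ V k, hk, ?_⟩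
  have himg : (⨆ k, V k).ι ''ᵁ ((⨆ k, V k).ι ⁻¹ᵁ V k) = V k := by
    rw [Scheme.Hom.image_preimage_eq_opensRange_inf, Scheme.Opens.opensRange_ι]
    exact inf_eq_right.mpr (le_iSup V k)
  exact (MorphismProperty.arrow_mk_iso_iff @IsFinite
    (morphismRestrictRestrict f (⨆ k, V k) _ ≪≫ morphismRestrictEq f himg)).mpr (h k)

/-- Generic finiteness at one generic point, without quasi-separatedness, when the source has
finitely many irreducible components and only generic points lie over generic points. -/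
theorem exists_isFinite_of_generic (f : X ⟶ Y) [LocallyOfFiniteType f] [QuasiCompact f]
    (hX : (irreducibleComponents ↥X).Finite)
    (hgen : ∀ x : X, closure {f x} ∈ irreducibleComponents ↥Y →
      closure {x} ∈ irreducibleComponents ↥X)
    {η : Y} (hη : closure {η} ∈ irreducibleComponents ↥Y) :
    ∃ V : Y.Opens, IsAffineOpen V ∧ η ∈ V ∧ IsFinite (f ∣_ V) := by
  classical
  let G : Set X := {x : X | closure {x} ∈ irreducibleComponents ↥X}
  have hG : G.Finite := finite_setOf_generic hX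
  haveI : Finite ↥G := hG.to_subtype
  have hfib : (f ⁻¹' {η}).Finite := by
    refine hG.subset ?_
    intro x hx
    rw [Set.mem_preimage, Set.mem_singleton_iff] at hx
    exact hgen x (hx ▸ hη)
  -- disjoint affine neighbourhoods of the generic points
  have hA : ∀ ξ : ↥G, ∃ A : X.Opens, IsAffineOpen A ∧ ξ.1 ∈ A ∧
      (A : Set X) ⊆ otherCompl ξ.1 := by
    intro ξ
    obtain ⟨_, ⟨A, hA, rfl⟩, hξA, hAsub⟩ := X.isBasis_affineOpens.exists_subset_of_mem_open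
      (mem_otherCompl_self ξ.2) (isOpen_otherCompl hX ξ.1)
    exact ⟨A, hA, hξA, hAsub⟩
  choose A hAaff hξA hAsub using hA
  have hAdisj : ∀ ξ ξ' : ↥G, ∀ x : X, x ∈ A ξ → x ∈ A ξ' → ξ = ξ' := by
    intro ξ ξ' x hx hx'
    exact Subtype.ext (eq_of_mem_otherCompl (hAsub ξ hx) (hAsub ξ' hx'))
  let T : Set X := (⋃ ξ, (A ξ : Set X))ᶜ
  have hT : IsClosed T := (isOpen_iUnion fun ξ => (A ξ).2).isClosed_compl
  have hηT : ∀ x ∈ T, f x ≠ η := by
    intro x hxT hfx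
    apply hxT
    have hxG : x ∈ G := hgen x (hfx ▸ hη)
    exact Set.mem_iUnion.mpr ⟨⟨x, hxG⟩, hξA ⟨x, hxG⟩⟩
  obtain ⟨N, hηN, hN⟩ := exists_opens_disjoint_of_closed f T hT hη hηT
  obtain ⟨_, ⟨V₀, hV₀, rfl⟩, hηV₀, hV₀N⟩ :=
    Y.isBasis_affineOpens.exists_subset_of_mem_open hηN N.2
  have hmemA : ∀ x : X, f x ∈ V₀ → ∃ ξ, x ∈ A ξ := by
    intro x hx
    by_contra hcon
    apply hN x ?_ (hV₀N hx)
    intro hmem
    obtain ⟨ξ, hξ⟩ := Set.mem_iUnion.mp hmem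
    exact hcon ⟨ξ, hξ⟩
  have hc : IsCompact ((f ⁻¹ᵁ V₀ : X.Opens) : Set X) :=
    QuasiCompact.isCompact_preimage (f := f) _ V₀.2 hV₀.isCompact
  have hKc : ∀ ξ : ↥G, IsCompact ((f ⁻¹ᵁ V₀ ⊓ A ξ : X.Opens) : Set X) := by
    intro ξ
    have h1 : ((f ⁻¹ᵁ V₀ ⊓ A ξ : X.Opens) : Set X) =
        ((f ⁻¹ᵁ V₀ : X.Opens) : Set X) ∩ (⋃ ξ' ∈ {ξ' : ↥G | ξ' ≠ ξ}, (A ξ' : Set X))ᶜ := by
      ext x
      simp only [Opens.coe_inf, Set.mem_inter_iff, SetLike.mem_coe, Set.mem_compl_iff,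
        Set.mem_iUnion, Set.mem_ofPred_eq, not_exists]
      constructor
      · rintro ⟨hx, hxA⟩
        refine ⟨hx, fun ξ' hne hxA' => hne (hAdisj ξ' ξ x hxA' hxA)⟩
      · rintro ⟨hx, hne⟩
        obtain ⟨ξ'', hξ''⟩ := hmemA x hx
        by_cases h : ξ'' = ξ
        · exact ⟨hx, h ▸ hξ''⟩
        · exact absurd hξ'' (hne ξ'' h)
    rw [h1]
    exact hc.inter_right (isOpen_biUnion fun ξ' _ => (A ξ').2).isClosed_compl
  choose s hs hsK using fun ξ : ↥G =>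
    (isCompact_iff_finite_and_eq_biUnion_affineOpens).mp (hKc ξ)
  haveI : ∀ ξ : ↥G, Finite ↥(s ξ) := fun ξ => (hs ξ).to_subtype
  have hUle : ∀ p : (Σ ξ : ↥G, ↥(s ξ)), (p.2.1 : X.Opens) ≤ f ⁻¹ᵁ V₀ ⊓ A p.1 := by
    intro p
    rw [hsK p.1]
    exact le_iSup₂ (f := fun (j : X.affineOpens) (_ : j ∈ s p.1) => (j : X.Opens)) p.2.1 p.2.2
  obtain ⟨V, hV, hηV, -, hfin⟩ := exists_isFinite_morphismRestrict f hV₀ hηV₀ hη hfib
    (fun p : (Σ ξ : ↥G, ↥(s ξ)) => (p.2.1 : X.Opens)) (fun p => p.2.1.2)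
    (fun p => (hUle p).trans inf_le_left)
    (by
      intro x hx
      obtain ⟨ξ, hξ⟩ := hmemA x hx
      have hx' : x ∈ f ⁻¹ᵁ V₀ ⊓ A ξ := ⟨hx, hξ⟩
      rw [hsK ξ] at hx'
      simp only [Opens.mem_iSup] at hx'
      obtain ⟨j, hj, hxj⟩ := hx'
      exact ⟨⟨ξ, ⟨j, hj⟩⟩, hxj⟩)
    (by
      rintro ⟨ξ, i⟩ ⟨ξ', k⟩
      by_cases h : ξ = ξ'
      · subst h
        exact isCompact_inter_of_isAffineOpen (hAaff ξ)
          (fun x hx => ((hUle ⟨ξ, i⟩) hx).2) (i.1 : X.Opens).2 i.1.2.isCompact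
          (fun x hx => ((hUle ⟨ξ, k⟩) hx).2) (k.1 : X.Opens).2 k.1.2.isCompact
      · have hempty : ((i.1 : X.Opens) : Set X) ∩ ((k.1 : X.Opens) : Set X) = ∅ := by
          rw [Set.eq_empty_iff_forall_notMem]
          rintro x ⟨hxi, hxk⟩
          exact h (hAdisj ξ ξ' x ((hUle ⟨ξ, i⟩) hxi).2 ((hUle ⟨ξ', k⟩) hxk).2)
        simp only [hempty]
        exact isCompact_empty)
  exact ⟨V, hV, hηV, hfin⟩

/-- **Generic finiteness over a dense open** for quasi-compact morphisms locally of finite type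
between schemes with finitely many irreducible components. -/
theorem exists_dense_isFinite (f : X ⟶ Y) [LocallyOfFiniteType f] [QuasiCompact f]
    (hX : (irreducibleComponents ↥X).Finite)
    (hgen : ∀ x : X, closure {f x} ∈ irreducibleComponents ↥Y →
      closure {x} ∈ irreducibleComponents ↥X) :
    ∃ V : Y.Opens, Dense (V : Set Y) ∧ IsFinite (f ∣_ V) := by
  let GY : Set Y := {y : Y | closure {y} ∈ irreducibleComponents ↥Y}
  choose V _ hηV hfin using fun η : ↥GY => exists_isFinite_of_generic f hX hgen η.2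
  refine ⟨⨆ η, V η, ?_, isFinite_morphismRestrict_iSup f V hfin⟩
  rw [dense_iff_inter_open]
  rintro O hO ⟨y, hy⟩
  obtain ⟨η, hη, hsp⟩ := exists_generic_specializes y
  exact ⟨η, hsp.mem_open hO hy, Opens.mem_iSup.mpr ⟨⟨η, hη⟩, hηV ⟨η, hη⟩⟩⟩

end Groth.Agent.Lib.Helper61.GenFin
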