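import Mathlib
import Groth.Agent.Lib.Helper61.GenFinDense
import Groth.Agent.Lib.Helper70.GeomPts
import Groth.Agent.Lib.Helper81.QFinFib

/-!
# Finiteness of the function field extension of a dominant morphism (Stacks 02NX) (helper61)
-/

universe u

open CategoryTheory CategoryTheory.Limits TopologicalSpace Topology AlgebraicGeometry

namespace Groth.Agent.Lib.Helper61.GenFin

variable {X Y : Scheme.{u}}

/-- A dominant morphism of irreducible schemes maps the generic point to the generic point. -/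
lemma map_genericPoint [IrreducibleSpace X] [IrreducibleSpace Y] (f : X ⟶ Y) [IsDominant f] :
    f (genericPoint X) = genericPoint Y := by
  have h1 : IsGenericPoint (f (genericPoint X)) (closure (f '' ⊤)) :=
    (genericPoint_spec X).image f.continuous
  rw [Set.top_eq_univ, Set.image_univ, f.denseRange.closure_range] at h1
  exact h1.eq (genericPoint_spec Y)

lemma closure_mem_irreducibleComponents_iff [IrreducibleSpace Y] (y : Y) :
    closure {y} ∈ irreducibleComponents ↥Y ↔ y = genericPoint Y := by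
  rw [irreducibleComponents_eq_singleton, Set.mem_singleton_iff]
  constructor
  · intro h
    have h1 : IsGenericPoint y (⊤ : Set Y) := h
    exact h1.eq (genericPoint_spec Y)
  · rintro rfl
    exact (genericPoint_spec Y).def

/-- For `f` locally of finite type with `X` irreducible: the residue field extension at the generic
point is finite iff the generic point is the only point of its fibre. -/
theorem finite_residueFieldMap_iff_fiber_singleton [IrreducibleSpace X] (f : X ⟶ Y)
    [LocallyOfFiniteType f] :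
    (f.residueFieldMap (genericPoint X)).hom.Finite ↔
      ∀ x : X, f x = f (genericPoint X) → x = genericPoint X := by
  rw [← Groth.Agent.Lib.Helper81.QFinFib.isClosed_asFiber_iff]
  set ξ := genericPoint X with hξ
  have hinj : Function.Injective (f.fiberι (f ξ)) := (f.fiberι (f ξ)).isEmbedding.injective
  constructor
  · intro hcl x hx
    let z : f.fiber (f ξ) := (f.fiberHomeo (f ξ)).symm ⟨x, hx⟩
    have hz : f.fiberι (f ξ) z = x := f.fiberι_fiberHomeo_symm _ _
    have hsp : f.asFiber ξ ⤳ z := by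
      rw [← (f.fiberι (f ξ)).isEmbedding.isInducing.specializes_iff, f.fiberι_asFiber, hz]
      exact genericPoint_specializes x
    have hmem : z ∈ closure ({f.asFiber ξ} : Set (f.fiber (f ξ))) :=
      specializes_iff_mem_closure.mp hsp
    rw [hcl.closure_eq, Set.mem_singleton_iff] at hmem
    rw [← hz, hmem, f.fiberι_asFiber]
  · intro h
    have huniv : ({f.asFiber ξ} : Set (f.fiber (f ξ))) = Set.univ := by
      rw [Set.eq_univ_iff_forall]
      intro z
      rw [Set.mem_singleton_iff]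
      apply hinj
      rw [f.fiberι_asFiber]
      exact h _ (f.fiberHomeo (f ξ) z).2
    rw [huniv]
    exact isClosed_univ

/-- If `f` restricts to a finite morphism `U ⟶ V`, the residue field extensions at points of `U`
are finite. -/
theorem finite_residueFieldMap_of_isFinite_resLE (f : X ⟶ Y) {U : X.Opens} {V : Y.Opens}
    (e : U ≤ f ⁻¹ᵁ V) (h : IsFinite (f.resLE V U e)) (x : X) (hx : x ∈ U) :
    (f.residueFieldMap x).hom.Finite := by
  have hq : (f.resLE V U e).QuasiFiniteAt ⟨x, hx⟩ := Scheme.Hom.quasiFiniteAt _ _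
  have h1 : (f.resLE V U e ≫ V.ι).QuasiFiniteAt ⟨x, hx⟩ :=
    Scheme.Hom.quasiFiniteAt_comp_iff.mpr hq
  rw [Scheme.Hom.resLE_comp_ι] at h1
  have h2 : f.QuasiFiniteAt (U.ι ⟨x, hx⟩) :=
    Scheme.Hom.quasiFiniteAt_comp_iff_of_isOpenImmersion.mp h1
  have h3 : f.QuasiFiniteAt x := h2
  change (letI := (f.residueFieldMap x).hom.toAlgebra
    Module.Finite (Y.residueField (f x)) (X.residueField x))
  exact Groth.Agent.Lib.Helper70.GeomPts.finite_residueField_map (Y.presheaf.stalk (f x))
    (X.presheaf.stalk x) (f.stalkMap x).hom h3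

/-- If the generic point is alone in its fibre, `f` is finite between suitable nonempty affine
opens. -/
theorem exists_isFinite_resLE_of_fiber [IsIntegral X] [IsIntegral Y] (f : X ⟶ Y)
    [LocallyOfFiniteType f] (hη : f (genericPoint X) = genericPoint Y)
    (hC : ∀ x : X, f x = genericPoint Y → x = genericPoint X) :
    ∃ (U : X.Opens) (V : Y.Opens) (hUV : U ≤ f ⁻¹ᵁ V), IsAffineOpen U ∧ IsAffineOpen V ∧
      Nonempty ↥U ∧ IsFinite (f.resLE V U hUV) := by
  set ξ := genericPoint X with hξ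
  set η := genericPoint Y with hη'
  obtain ⟨_, ⟨V₀, hV₀, rfl⟩, hηV₀, -⟩ :=
    Y.isBasis_affineOpens.exists_subset_of_mem_open (Set.mem_univ η) isOpen_univ
  have hξV₀ : ξ ∈ f ⁻¹ᵁ V₀ := by
    change f ξ ∈ V₀
    rw [hη]
    exact hηV₀
  obtain ⟨_, ⟨U₀, hU₀, rfl⟩, hξU₀, e₀⟩ :=
    X.isBasis_affineOpens.exists_subset_of_mem_open hξV₀ (f ⁻¹ᵁ V₀).2
  have e : U₀ ≤ f ⁻¹ᵁ V₀ := e₀
  have hmax : closure {η} ∈ irreducibleComponents ↥Y :=
    (closure_mem_irreducibleComponents_iff η).mpr rfl
  have hfib : (f ⁻¹' {η}).Finite := by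
    refine (Set.finite_singleton ξ).subset ?_
    intro x hx
    exact hC x hx
  obtain ⟨g₀, hg₀, H⟩ := exists_isFinite_resLE f hV₀ hU₀ e hηV₀ hmax hfib
  have e' : X.basicOpen (f.appLE V₀ U₀ e g₀) ≤ f ⁻¹ᵁ Y.basicOpen g₀ := by
    rw [Scheme.basicOpen_appLE]
    exact inf_le_right
  refine ⟨X.basicOpen (f.appLE V₀ U₀ e g₀), Y.basicOpen g₀, e', hU₀.basicOpen _,
    hV₀.basicOpen _, ⟨⟨ξ, ?_⟩⟩, H g₀ dvd_rfl e'⟩
  rw [Scheme.basicOpen_appLE]
  refine ⟨hξU₀, ?_⟩
  change f ξ ∈ Y.basicOpen g₀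
  rw [hη]
  exact hg₀

/-- For a separated morphism from an integral scheme, finiteness of a restriction `U ⟶ V` with
`U` nonempty forces `U = f⁻¹ V`, hence `f⁻¹ V ⟶ V` is finite. -/
theorem isFinite_morphismRestrict_of_isFinite_resLE [IsIntegral X] (f : X ⟶ Y) [IsSeparated f]
    {U : X.Opens} {V : Y.Opens} (e : U ≤ f ⁻¹ᵁ V) [hne : Nonempty ↥U]
    (h : IsFinite (f.resLE V U e)) : IsFinite (f ∣_ V) := by
  haveI : Nonempty ↥(f ⁻¹ᵁ V) := ⟨⟨hne.some.1, e hne.some.2⟩⟩
  haveI : IsFinite (X.homOfLE e ≫ f ∣_ V) := h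
  haveI : Nonempty ↥(f ⁻¹ᵁ V).toScheme := ‹Nonempty ↥(f ⁻¹ᵁ V)›
  haveI : IsIntegral (f ⁻¹ᵁ V).toScheme := isIntegral_of_isOpenImmersion (f ⁻¹ᵁ V).ι
  haveI : IrreducibleSpace ↥(f ⁻¹ᵁ V).toScheme := inferInstance
  haveI : PreconnectedSpace ↥(f ⁻¹ᵁ V).toScheme := inferInstance
  haveI : IsProper (X.homOfLE e) := IsProper.of_comp (X.homOfLE e) (f ∣_ V)
  have hcl : IsClosed (Set.range (X.homOfLE e)) := (X.homOfLE e).isClosedMap.isClosed_range
  have hop : IsOpen (Set.range (X.homOfLE e)) := (X.homOfLE e).isOpenEmbedding.isOpen_range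
  have huniv : Set.range (X.homOfLE e) = Set.univ :=
    IsClopen.eq_univ ⟨hcl, hop⟩ ⟨_, ⟨hne.some, rfl⟩⟩
  have hUV : U = f ⁻¹ᵁ V := by
    refine le_antisymm e ?_
    intro x hx
    have hmem : (⟨x, hx⟩ : ↥(f ⁻¹ᵁ V)) ∈ Set.range (X.homOfLE e) := by
      rw [huniv]
      exact Set.mem_univ _
    obtain ⟨u, hu⟩ := hmem
    have h1 := Scheme.homOfLE_apply e u
    rw [hu] at h1
    change x = u.1 at h1
    rw [h1]
    exact u.2
  subst hUV
  rw [Scheme.Hom.resLE_eq_morphismRestrict] at h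
  exact h

end Groth.Agent.Lib.Helper61.GenFin
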