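import Mathlib

/-!
# Finite coproducts of finite morphisms are finite (helper61)
-/

set_option autoImplicit false
universe u

open CategoryTheory CategoryTheory.Limits AlgebraicGeometry

namespace Groth.Agent.Lib.Helper61.SigmaFinite

theorem isFinite_of_isEmpty {Q T : Scheme.{u}} (π : Q ⟶ T) [IsEmpty Q] : IsFinite π := by
  haveI : IsClosedImmersion π := inferInstance
  infer_instance

section Step

variable {P : Scheme.{u}} {n : ℕ} (C : Fin (n + 1) → Scheme.{u})

/-- `C 0 ⨿ ∐_{i} C (i+1) ⟶ ∐ C`. -/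
noncomputable def toSigma : (C 0 ⨿ ∐ fun i : Fin n => C i.succ) ⟶ ∐ C :=
  coprod.desc (Sigma.ι C 0) (Sigma.desc (fun i : Fin n => Sigma.ι C i.succ))

/-- `∐ C ⟶ C 0 ⨿ ∐_{i} C (i+1)`. -/
noncomputable def fromSigma : ∐ C ⟶ (C 0 ⨿ ∐ fun i : Fin n => C i.succ) :=
  Sigma.desc (Fin.cases (motive := fun i => C i ⟶ (C 0 ⨿ ∐ fun i : Fin n => C i.succ))
    coprod.inl (fun i => Sigma.ι (fun i : Fin n => C i.succ) i ≫ coprod.inr))

theorem ι_zero_fromSigma : Sigma.ι C 0 ≫ fromSigma C = coprod.inl := by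
  simp [fromSigma]

theorem ι_succ_fromSigma (i : Fin n) :
    Sigma.ι C i.succ ≫ fromSigma C = Sigma.ι (fun i : Fin n => C i.succ) i ≫ coprod.inr := by
  simp [fromSigma]

theorem toSigma_fromSigma : toSigma C ≫ fromSigma C = 𝟙 _ := by
  apply coprod.hom_ext
  · rw [toSigma, ← Category.assoc, coprod.inl_desc, ι_zero_fromSigma, Category.comp_id]
  · apply Sigma.hom_ext
    intro i
    rw [toSigma, ← Category.assoc coprod.inr, coprod.inr_desc, ← Category.assoc, Sigma.ι_desc,
      ι_succ_fromSigma, Category.comp_id]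

theorem fromSigma_toSigma : fromSigma C ≫ toSigma C = 𝟙 _ := by
  apply Sigma.hom_ext
  intro i
  refine Fin.cases ?_ (fun j => ?_) i
  · rw [← Category.assoc, ι_zero_fromSigma, toSigma, coprod.inl_desc, Category.comp_id]
  · rw [← Category.assoc, ι_succ_fromSigma, toSigma, Category.assoc, coprod.inr_desc,
      Sigma.ι_desc, Category.comp_id]

instance : IsIso (fromSigma C) :=
  ⟨toSigma C, fromSigma_toSigma C, toSigma_fromSigma C⟩

theorem sigmaDesc_eq (ν : ∀ i, C i ⟶ P) :
    Sigma.desc ν = fromSigma C ≫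
      coprod.desc (ν 0) (Sigma.desc (fun i : Fin n => ν i.succ)) := by
  apply Sigma.hom_ext
  intro i
  refine Fin.cases ?_ (fun j => ?_) i
  · rw [← Category.assoc, ι_zero_fromSigma, coprod.inl_desc, Sigma.ι_desc]
  · rw [← Category.assoc, ι_succ_fromSigma, Category.assoc, coprod.inr_desc, Sigma.ι_desc,
      Sigma.ι_desc]

end Step

theorem isFinite_sigmaDesc_fin {P : Scheme.{u}} : ∀ (n : ℕ) (C : Fin n → Scheme.{u})
    (ν : ∀ i, C i ⟶ P) (_ : ∀ i, IsFinite (ν i)), IsFinite (Sigma.desc ν)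
  | 0, C, ν, _ => by
    haveI : IsEmpty ↥(∐ C) := by
      constructor
      intro x
      obtain ⟨i, -⟩ := (sigmaOpenCover C).exists_eq x
      exact Fin.elim0 i
    exact isFinite_of_isEmpty _
  | n + 1, C, ν, h => by
    rw [sigmaDesc_eq C ν]
    haveI : IsFinite (ν 0) := h 0
    haveI : IsFinite (Sigma.desc (fun i : Fin n => ν i.succ)) :=
      isFinite_sigmaDesc_fin n (fun i => C i.succ) (fun i => ν i.succ) (fun i => h i.succ)
    infer_instance

end Groth.Agent.Lib.Helper61.SigmaFinite
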