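import Mathlib
import Groth.Agent.Lib.Helper91.DimOneTop

/-!
# Topology of one-dimensional irreducible Noetherian sober spaces (helper61)
-/

set_option autoImplicit false

open TopologicalSpace Topology

namespace Groth.Agent.Lib.Helper61.DimOneFib

variable {X : Type*} [TopologicalSpace X]

/-- A closed subset of a Noetherian quasi-sober space all of whose points are closed is finite. -/
theorem finite_of_isClosed_of_forall_isClosed_singleton [NoetherianSpace X] [QuasiSober X]
    (Z : Set X) (hZ : IsClosed Z) (h : ∀ z ∈ Z, IsClosed ({z} : Set X)) : Z.Finite := by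
  obtain ⟨S, hSfin, hSc, hSi, rfl⟩ := NoetherianSpace.exists_finite_set_isClosed_irreducible hZ
  refine hSfin.sUnion fun t ht => ?_
  obtain ⟨w, hw⟩ := QuasiSober.sober (hSi t ht) (hSc t ht)
  have hwt : w ∈ t := hw.mem
  have hwc : IsClosed ({w} : Set X) := h w (Set.mem_sUnion.mpr ⟨t, ht, hwt⟩)
  have : t = {w} := by
    rw [← hw.def, hwc.closure_eq]
  rw [this]
  exact Set.finite_singleton w

/-- In an irreducible T0 space of dimension `≤ 1`, every point other than the generic point is
closed. -/
theorem isClosed_singleton_of_ne_genericPoint [QuasiSober X] [IrreducibleSpace X] [T0Space X]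
    (hdim : topologicalKrullDim X ≤ 1) (x : X) (hx : x ≠ genericPoint X) :
    IsClosed ({x} : Set X) := by
  let T : IrreducibleCloseds X := ⟨Set.univ, IrreducibleSpace.isIrreducible_univ X, isClosed_univ⟩
  have hlt : Groth.Agent.Lib.Helper91.DimOneTop.cl x < T := by
    refine lt_of_le_of_ne (fun z _ => trivial) ?_
    intro heq
    have h' : closure ({x} : Set X) = Set.univ :=
      congrArg (fun Z : IrreducibleCloseds X => (Z : Set X)) heq
    have hg : IsGenericPoint x (Set.univ : Set X) := h'
    exact hx (hg.eq (genericPoint_spec X))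
  have := Groth.Agent.Lib.Helper91.DimOneTop.closure_singleton_eq_of_lt hdim hlt
  rw [← this]
  exact isClosed_closure

/-- An irreducible space of dimension one whose generic point is closed does not exist. -/
theorem not_isClosed_singleton_genericPoint [QuasiSober X] [IrreducibleSpace X]
    (hdim : topologicalKrullDim X = 1) : ¬ IsClosed ({genericPoint X} : Set X) := by
  intro hcl
  have huniv : (Set.univ : Set X) = {genericPoint X} := by
    rw [← (genericPoint_spec X).def, hcl.closure_eq]
  have hk : (0 : WithBot ℕ∞) < Order.krullDim (IrreducibleCloseds X) := by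
    show 0 < topologicalKrullDim X
    rw [hdim]; exact zero_lt_one
  obtain ⟨Z₀, Z₁, hlt⟩ := Order.krullDim_pos_iff.mp hk
  obtain ⟨z, hz1, hz0⟩ := Set.exists_of_ssubset (show (Z₀ : Set X) ⊂ Z₁ from hlt)
  obtain ⟨w, hw⟩ := Z₀.isIrreducible.nonempty
  have hz : z = genericPoint X := by
    have : z ∈ (Set.univ : Set X) := trivial
    rw [huniv] at this
    exact this
  have hw' : w = genericPoint X := by
    have : w ∈ (Set.univ : Set X) := trivial
    rw [huniv] at this
    exact this
  exact hz0 (hz ▸ hw' ▸ hw)

end Groth.Agent.Lib.Helper61.DimOneFib
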