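import Mathlib
import Groth.Agent.Lib.Helper61.BiratQFScheme

/-!
# Valuation rings are maximal for domination; birational stalk maps onto them (helper61)
-/

set_option autoImplicit false
universe u

open AlgebraicGeometry CategoryTheory Limits

namespace Groth.Agent.Lib.Helper61.ValDominate

/-- A local homomorphism from a valuation ring to a local domain such that every element of the
target is a "fraction" of elements of the source is surjective. -/
theorem surjective_of_valuationRing {R B : Type*} [CommRing R] [IsDomain R] [ValuationRing R]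
    [CommRing B] [IsDomain B] (φ : R →+* B) [IsLocalHom φ]
    (hfrac : ∀ b : B, ∃ s r : R, φ s ≠ 0 ∧ φ s * b = φ r) : Function.Surjective φ := by
  intro b
  obtain ⟨s, r, hs, hsr⟩ := hfrac b
  obtain ⟨c, hc | hc⟩ := ValuationRing.cond s r
  · refine ⟨c, ?_⟩
    have : φ s * φ c = φ s * b := by rw [← map_mul, hc, hsr]
    exact mul_left_cancel₀ hs this
  · have hr : φ r ≠ 0 := by
      intro h0
      apply hs
      rw [← hc, map_mul, h0, zero_mul]
    have h1 : φ r * (φ c * b) = φ r * 1 := by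
      rw [mul_one, ← mul_assoc, ← map_mul, hc, hsr]
    have h2 : φ c * b = 1 := mul_left_cancel₀ hr h1
    have hu : IsUnit (φ c) := IsUnit.of_mul_eq_one _ h2
    have hcu : IsUnit c := (isUnit_map_iff φ c).mp hu
    obtain ⟨u, rfl⟩ := hcu
    refine ⟨(↑u⁻¹ : R), ?_⟩
    have h3 : φ (↑u⁻¹ : R) * φ (u : R) = 1 := by
      rw [← map_mul, Units.inv_mul, map_one]
    calc φ (↑u⁻¹ : R) = φ (↑u⁻¹ : R) * (φ (u : R) * b) := by rw [h2, mul_one]
      _ = b := by rw [← mul_assoc, h3, one_mul]

/-- A Noetherian local domain which is integrally closed of dimension at most one is a valuation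
ring. -/
theorem valuationRing_of_dim_le_one (R : Type*) [CommRing R] [IsDomain R] [IsLocalRing R]
    [IsNoetherianRing R] [IsIntegrallyClosed R] (hdim : ringKrullDim R ≤ 1) : ValuationRing R := by
  have h31 : (IsIntegrallyClosed R ∧
      ∀ P : Ideal R, P ≠ ⊥ → P.IsPrime → P = IsLocalRing.maximalIdeal R) → ValuationRing R :=
    ((tfae_of_isNoetherianRing_of_isLocalRing_of_isDomain R).out 3 1).mp
  refine h31 ⟨inferInstance, ?_⟩
  intro P hP hPp
  have hle : Ring.KrullDimLE 1 R := Ring.krullDimLE_iff.mpr (by exact_mod_cast hdim)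
  have := (Ring.krullDimLE_one_iff_of_noZeroDivisors.mp hle) P hP hPp
  exact IsLocalRing.eq_maximalIdeal this

section Scheme

variable {X Y : Scheme.{u}} [IsIntegral X] [IsIntegral Y] (f : X ⟶ Y)

/-- For a birational morphism of integral schemes, every element of `O_{X,x}` is a fraction of
elements coming from `O_{Y, f x}`. -/
theorem exists_stalkMap_mul_eq (hbir : IsIso (f.stalkMap (genericPoint X))) (x : X)
    (b : X.presheaf.stalk x) :
    ∃ s r : Y.presheaf.stalk (f x), (f.stalkMap x).hom s ≠ 0 ∧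
      (f.stalkMap x).hom s * b = (f.stalkMap x).hom r := by
  classical
  obtain ⟨_, ⟨U, hU, rfl⟩, hxU, -⟩ := Y.isBasis_affineOpens.exists_subset_of_mem_open
    (Set.mem_univ (f x)) isOpen_univ
  obtain ⟨_, ⟨V, hV, rfl⟩, hxV, hUV : V ≤ f ⁻¹ᵁ U⟩ :=
    X.isBasis_affineOpens.exists_subset_of_mem_open hxU (f ⁻¹ᵁ U).2
  haveI : Nonempty V := ⟨⟨x, hxV⟩⟩
  letI := X.presheaf.algebra_section_stalk ⟨x, hxV⟩
  haveI := hV.isLocalization_stalk ⟨x, hxV⟩
  obtain ⟨⟨b₀, t⟩, hbt⟩ := IsLocalization.surj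
    (hV.primeIdealOf ⟨x, hxV⟩).asIdeal.primeCompl b
  have hbt' : b * X.presheaf.germ V x hxV t.1 = X.presheaf.germ V x hxV b₀ := hbt
  have htunit : IsUnit (X.presheaf.germ V x hxV t.1) :=
    IsLocalization.map_units (M := (hV.primeIdealOf ⟨x, hxV⟩).asIdeal.primeCompl)
      (X.presheaf.stalk x) t
  obtain ⟨a, ha, a', haa'⟩ :=
    Groth.Agent.Lib.Helper61.BiratQF.exists_mul_eq_of_birational f hbir hU V hUV b₀
  obtain ⟨a₁, ha₁, a₁', haa₁'⟩ :=
    Groth.Agent.Lib.Helper61.BiratQF.exists_mul_eq_of_birational f hbir hU V hUV t.1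
  have hinj := Groth.Agent.Lib.Helper61.BiratQF.appLE_injective_of_birational f hbir U V hUV
  set g := X.presheaf.germ V x hxV with hg
  set γ := Y.presheaf.germ U (f x) hxU with hγ
  have hgerm : ∀ c : Γ(Y, U), g (f.appLE U V hUV c) = f.stalkMap x (γ c) := fun c =>
    Groth.Agent.Lib.Helper61.BiratQF.germ_appLE f U V hUV x hxV hxU c
  have hne : ∀ c : Γ(Y, U), c ≠ 0 → f.stalkMap x (γ c) ≠ 0 := by
    intro c hc h0
    rw [← hgerm] at h0
    have h1 : f.appLE U V hUV c = 0 := by
      apply germ_injective_of_isIntegral X x hxV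
      rw [h0, map_zero]
    exact hc (hinj (by rw [h1, map_zero]))
  have e1 : f.stalkMap x (γ a) * g b₀ = f.stalkMap x (γ a') := by
    rw [← hgerm, ← hgerm, ← map_mul, haa']
  have e2 : f.stalkMap x (γ a₁) * g t.1 = f.stalkMap x (γ a₁') := by
    rw [← hgerm, ← hgerm, ← map_mul, haa₁']
  have hne2 : f.stalkMap x (γ a₁') ≠ 0 := by
    rw [← e2]
    exact mul_ne_zero (hne a₁ ha₁) htunit.ne_zero
  refine ⟨γ a * γ a₁', γ a' * γ a₁, ?_, ?_⟩
  · show (f.stalkMap x) (γ a * γ a₁') ≠ 0
    rw [map_mul]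
    exact mul_ne_zero (hne a ha) hne2
  · show (f.stalkMap x) (γ a * γ a₁') * b = (f.stalkMap x) (γ a' * γ a₁)
    rw [map_mul, map_mul, ← e1, ← e2, ← hbt']
    ring

end Scheme

end Groth.Agent.Lib.Helper61.ValDominate
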