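import Mathlib
import Groth.Agent.S9701
import Groth.Agent.Lib.Helper61.ValDominate
import Groth.Agent.Lib.Helper91.GenPrime2

/-!
Global extension of a morphism from a dense open `U ⊆ X` into a proper `S`-scheme `Y`, when all local
rings of `X` outside `U` are valuation rings (glueing the local extensions of S9701).
-/

namespace Groth.Agent.Lib.Helper61.ExtendCurve

open AlgebraicGeometry CategoryTheory Limits

universe u

lemma isDominant_homOfLE {X : Scheme.{u}} {U W : X.Opens} (hUW : U ≤ W) (hU : Dense (U : Set X)) :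
    IsDominant (X.homOfLE hUW) := by
  constructor
  have hd : Dense ((Subtype.val : W → X) ⁻¹' (U : Set X)) :=
    hU.preimage W.2.isOpenMap_subtype_val
  refine hd.mono ?_
  intro z hz
  refine ⟨⟨z.1, hz⟩, ?_⟩
  apply Subtype.ext
  have := congrArg (fun f => f.base ⟨z.1, hz⟩) (X.homOfLE_ι hUW)
  simpa using this

lemma isDominant_ι {X : Scheme.{u}} {U : X.Opens} (hU : Dense (U : Set X)) :
    IsDominant U.ι := by
  constructor
  rw [DenseRange, Scheme.Opens.range_ι]
  exact hU

/-- Global extension: glue local extensions from S9701. -/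
theorem existsUnique_extension {X Y S : Scheme.{u}} (p : X ⟶ S) (q : Y ⟶ S) [IsProper q]
    [IsReduced X] (hX : (irreducibleComponents ↥X).Finite)
    (U : X.Opens) (hU : Dense (U : Set X)) (g : (U : Scheme.{u}) ⟶ Y) (hg : g ≫ q = U.ι ≫ p)
    (hval : ∀ x : X, x ∉ U → ∃ hdom : IsDomain (X.presheaf.stalk x),
      @ValuationRing (X.presheaf.stalk x) _ hdom) :
    ∃! g' : X ⟶ Y, U.ι ≫ g' = g ∧ g' ≫ q = p := by
  classical
  have hloc : ∀ x : X, ∃ (U' : X.Opens) (hUU' : U ≤ U'), x ∈ U' ∧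
      ∃ f' : (U' : Scheme.{u}) ⟶ Y, f' ≫ q = U'.ι ≫ p ∧ X.homOfLE hUU' ≫ f' = g := by
    intro x
    by_cases hxU : x ∈ U
    · exact ⟨U, le_rfl, hxU, g, hg, by simp⟩
    · obtain ⟨hdom, hv⟩ := hval x hxU
      exact Groth.Agent.S9701.result p q x U g hg (hU x) (Or.inl ⟨inferInstance, hX⟩) hdom hv
  choose U' hUU' hxU' f' hf'q hf'g using hloc
  have hcov : TopologicalSpace.IsOpenCover U' := by
    rw [TopologicalSpace.IsOpenCover, eq_top_iff]
    intro x _
    exact TopologicalSpace.Opens.mem_iSup.mpr ⟨x, hxU' x⟩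
  let 𝒰 := X.openCoverOfIsOpenCover U' hcov
  have hagree' : ∀ x y : X, pullback.fst (U' x).ι (U' y).ι ≫ f' x =
      pullback.snd (U' x).ι (U' y).ι ≫ f' y := by
    intro x y
    have hpb := isPullback_opens_inf (U' x) (U' y)
    rw [← hpb.isoPullback_inv_fst, ← hpb.isoPullback_inv_snd, Category.assoc, Category.assoc]
    congr 1
    have hle : U ≤ U' x ⊓ U' y := le_inf (hUU' x) (hUU' y)
    haveI : IsDominant (X.homOfLE hle) := isDominant_homOfLE hle hU
    refine ext_of_isDominant_of_isSeparated q ?_ (X.homOfLE hle) ?_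
    · rw [Category.assoc, Category.assoc, hf'q, hf'q]; simp
    · rw [← Category.assoc, ← Category.assoc, X.homOfLE_homOfLE, X.homOfLE_homOfLE, hf'g, hf'g]
  have hagree : ∀ x y : 𝒰.I₀, pullback.fst (𝒰.f x) (𝒰.f y) ≫ f' x =
      pullback.snd (𝒰.f x) (𝒰.f y) ≫ f' y := fun x y => hagree' x y
  have hgl : ∀ x : X, (U' x).ι ≫ 𝒰.glueMorphisms f' hagree = f' x :=
    fun x => 𝒰.ι_glueMorphisms f' hagree x
  haveI : IsDominant U.ι := isDominant_ι hU
  have hq : 𝒰.glueMorphisms f' hagree ≫ q = p := by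
    refine 𝒰.hom_ext _ _ fun x => ?_
    have h1 : (U' x).ι ≫ 𝒰.glueMorphisms f' hagree ≫ q = (U' x).ι ≫ p := by
      rw [← Category.assoc, hgl x, hf'q x]
    exact h1
  refine ⟨𝒰.glueMorphisms f' hagree, ⟨?_, hq⟩, ?_⟩
  · rcases isEmpty_or_nonempty X with hE | ⟨⟨x⟩⟩
    · haveI : IsEmpty (U : Scheme.{u}) := ⟨fun z => hE.false z.1⟩
      exact (isInitialOfIsEmpty (X := (U : Scheme.{u}))).hom_ext _ _
    · rw [← X.homOfLE_ι (hUU' x), Category.assoc, hgl, hf'g]
  · rintro g'' ⟨h1, h2⟩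
    refine ext_of_isDominant_of_isSeparated q (h2.trans hq.symm) U.ι ?_
    rw [h1]
    rcases isEmpty_or_nonempty X with hE | ⟨⟨x⟩⟩
    · haveI : IsEmpty (U : Scheme.{u}) := ⟨fun z => hE.false z.1⟩
      exact (isInitialOfIsEmpty (X := (U : Scheme.{u}))).hom_ext _ _
    · rw [← X.homOfLE_ι (hUU' x), Category.assoc, hgl, hf'g]

/-- On a quasi-compact locally Noetherian scheme whose closed points have local rings of dimension `≤ 1`,
all local rings have dimension `≤ 1`. -/
theorem ringKrullDim_stalk_le_one {X : Scheme.{u}} [CompactSpace X]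
    (hcurve : ∀ x : X, IsClosed ({x} : Set X) → ringKrullDim (X.presheaf.stalk x) ≤ 1) (x : X) :
    ringKrullDim (X.presheaf.stalk x) ≤ 1 := by
  obtain ⟨y, hy, hyc⟩ := IsClosed.exists_closed_singleton (isClosed_closure (s := ({x} : Set X)))
    ⟨x, subset_closure rfl⟩
  have hsp : x ⤳ y := specializes_iff_mem_closure.mpr hy
  rw [Groth.Agent.Lib.Helper91.GenPrime.ringKrullDim_stalk_eq_height hsp]
  refine le_trans ?_ (hcurve y hyc)
  exact Ideal.height_le_ringKrullDim_of_ne_top Ideal.IsPrime.ne_top'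

end Groth.Agent.Lib.Helper61.ExtendCurve
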