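import Mathlib
import Groth.Agent.Lib.Helper61.DimOneFib
import Groth.Agent.Lib.Helper61.ExtendCurve
import Groth.Agent.Lib.Helper73.SchemeDim2

/-!
Topology of irreducible "algebraic curves" given by the condition that the local rings at closed points
have dimension one.
-/

set_option autoImplicit false
set_option backward.isDefEq.respectTransparency.types false

namespace Groth.Agent.Lib.Helper61.CurveTop

open AlgebraicGeometry CategoryTheory Limits TopologicalSpace

universe u

theorem ringKrullDim_stalk_genericPoint (Z : Scheme.{u}) [IrreducibleSpace Z] :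
    ringKrullDim (Z.presheaf.stalk (genericPoint Z)) = 0 := by
  rw [ringKrullDim_stalk_eq_coheight]
  have : IsMax (genericPoint Z) := fun y _ => genericPoint_specializes y
  rw [Order.coheight_eq_zero.mpr this]; rfl

variable {Z : Scheme.{u}} [IrreducibleSpace Z] [CompactSpace Z]
  (hZ : ∀ z : Z, IsClosed ({z} : Set Z) → ringKrullDim (Z.presheaf.stalk z) = 1)

include hZ

theorem topologicalKrullDim_le_one : topologicalKrullDim Z ≤ 1 :=
  Groth.Agent.Lib.Helper73.SchemeDim.topologicalKrullDim_le_of_forall_stalk 1
    (Groth.Agent.Lib.Helper61.ExtendCurve.ringKrullDim_stalk_le_one (fun y hy => (hZ y hy).le))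

theorem isClosed_singleton_of_ne {z : Z} (hz : z ≠ genericPoint Z) : IsClosed ({z} : Set Z) :=
  Groth.Agent.Lib.Helper61.DimOneFib.isClosed_singleton_of_ne_genericPoint
    (topologicalKrullDim_le_one hZ) z hz

omit [CompactSpace Z] in
theorem not_isClosed_singleton_genericPoint : ¬ IsClosed ({genericPoint Z} : Set Z) := by
  intro h
  have h1 := hZ _ h
  rw [ringKrullDim_stalk_genericPoint] at h1
  exact zero_ne_one h1

theorem finite_of_isClosed_of_not_mem [IsLocallyNoetherian Z] (T : Set Z) (hT : IsClosed T)
    (hη : genericPoint Z ∉ T) : T.Finite := by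
  haveI : IsNoetherian Z := {}
  refine Groth.Agent.Lib.Helper61.DimOneFib.finite_of_isClosed_of_forall_isClosed_singleton T hT ?_
  intro z hz
  exact isClosed_singleton_of_ne hZ (fun h => hη (h ▸ hz))

theorem infinite [JacobsonSpace Z] : ¬ (Set.univ : Set Z).Finite := by
  intro hfin
  have hcl : IsClosed ({genericPoint Z}ᶜ : Set Z) := by
    have : ({genericPoint Z}ᶜ : Set Z) = ⋃ z ∈ ({genericPoint Z}ᶜ : Set Z), {z} := by
      ext z; simp
    rw [this]
    exact (hfin.subset (Set.subset_univ _)).isClosed_biUnion
      fun z hz => isClosed_singleton_of_ne hZ hz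
  have hopen : IsOpen ({genericPoint Z} : Set Z) := by
    simpa using hcl.isOpen_compl
  have hd : Dense (closedPoints Z) := by
    have := JacobsonSpace.closure_inter_closedPoints (X := Z) isClosed_univ
    rw [Set.univ_inter] at this
    exact dense_iff_closure_eq.mpr this
  obtain ⟨z, hz1, hz2⟩ := hd.inter_open_nonempty _ hopen ⟨_, rfl⟩
  rw [Set.mem_singleton_iff] at hz1
  exact not_isClosed_singleton_genericPoint hZ (hz1 ▸ hz2)

end Groth.Agent.Lib.Helper61.CurveTop
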