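import Mathlib
import Groth.Prelude.Def_CurvBase
import Groth.Agent.Lib.Helper61.ExtendCurve

/-!
Morphisms of integral schemes versus homomorphisms of function fields.
-/

set_option autoImplicit false
set_option backward.isDefEq.respectTransparency.types false

namespace Groth.Agent.Lib.Helper61.FunFieldMor

open AlgebraicGeometry CategoryTheory Limits

universe u

/-- `Spec O_x → X → Spec k` is `Spec` of the structure map `k → O_x` (from helper39's S4451). -/
theorem fromSpecStalk_comp_over (k : Type u) [Field k] (X : Scheme.{u})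
    [X.Over (Spec (CommRingCat.of k))] (x : X) :
    X.fromSpecStalk x ≫ (X ↘ (Spec (CommRingCat.of k))) =
      Spec.map (CommRingCat.ofHom (Curv2.stalkMap k X x)) := by
  have h1 := Scheme.toSpecΓ_naturality (X ↘ (Spec (CommRingCat.of k)))
  rw [← SpecMap_ΓSpecIso_hom] at h1
  have h2 : (X ↘ (Spec (CommRingCat.of k))) = X.toSpecΓ ≫
      Spec.map ((X ↘ (Spec (CommRingCat.of k))).appTop) ≫
        Spec.map (Scheme.ΓSpecIso (CommRingCat.of k)).inv := by
    rw [← Category.assoc, ← h1, Category.assoc, ← Spec.map_comp, Iso.inv_hom_id, Spec.map_id,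
      Category.comp_id]
  rw [h2, Scheme.fromSpecStalk_toSpecΓ_assoc, ← Spec.map_comp, ← Spec.map_comp]
  rfl

/-- A morphism `u : X ⟶ Y` of integral schemes whose restriction to the generic point of `X`
factors as `Spec ψ` followed by the generic point of `Y` is dominant and induces `ψ` on function
fields. -/
theorem stalkMap_genericPoint_eq {X Y : Scheme.{u}} [IsIntegral X] [IsIntegral Y] (u : X ⟶ Y)
    (ψ : Y.presheaf.stalk (genericPoint Y) ⟶ X.presheaf.stalk (genericPoint X))
    (h : X.fromSpecStalk (genericPoint X) ≫ u = Spec.map ψ ≫ Y.fromSpecStalk (genericPoint Y)) :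
    ∃ hu : u.base (genericPoint X) = genericPoint Y,
      Y.presheaf.stalkSpecializes (specializes_of_eq hu) ≫ u.stalkMap (genericPoint X) = ψ := by
  have hu : u.base (genericPoint X) = genericPoint Y := by
    have h1 := congrArg (fun g => g.base (IsLocalRing.closedPoint (X.presheaf.stalk (genericPoint X)))) h
    simp only [Scheme.Hom.comp_base, TopCat.hom_comp, ContinuousMap.comp_apply] at h1
    rw [Scheme.fromSpecStalk_closedPoint] at h1
    rw [h1]
    have h2 : ∀ z : Spec (Y.presheaf.stalk (genericPoint Y)),
        (Y.fromSpecStalk (genericPoint Y)).base z = genericPoint Y := by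
      intro z
      have hz : (Y.fromSpecStalk (genericPoint Y)).base z ∈
          Set.range (Y.fromSpecStalk (genericPoint Y)) := ⟨z, rfl⟩
      rw [Scheme.range_fromSpecStalk] at hz
      exact (hz.antisymm (genericPoint_specializes _)).eq
    exact h2 _
  refine ⟨hu, ?_⟩
  apply Spec.map_injective
  rw [← cancel_mono (Y.fromSpecStalk (genericPoint Y)), ← h, Spec.map_comp, Category.assoc,
    Scheme.SpecMap_stalkSpecializes_fromSpecStalk, Scheme.SpecMap_stalkMap_fromSpecStalk]

/-- Converse of `stalkMap_genericPoint_eq`. -/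
theorem fromSpecStalk_comp_eq {X Y : Scheme.{u}} [IsIntegral X] [IsIntegral Y] (u : X ⟶ Y)
    (ψ : Y.presheaf.stalk (genericPoint Y) ⟶ X.presheaf.stalk (genericPoint X))
    (hu : u.base (genericPoint X) = genericPoint Y)
    (h : Y.presheaf.stalkSpecializes (specializes_of_eq hu) ≫ u.stalkMap (genericPoint X) = ψ) :
    X.fromSpecStalk (genericPoint X) ≫ u = Spec.map ψ ≫ Y.fromSpecStalk (genericPoint Y) := by
  rw [← h, Spec.map_comp, Category.assoc,
    Scheme.SpecMap_stalkSpecializes_fromSpecStalk, Scheme.SpecMap_stalkMap_fromSpecStalk]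

/-- `Spec K(X) → X` is dominant for integral `X`. -/
theorem isDominant_fromSpecStalk_genericPoint (X : Scheme.{u}) [IsIntegral X] :
    IsDominant (X.fromSpecStalk (genericPoint X)) := by
  constructor
  intro y
  have h1 : genericPoint X ∈ Set.range (X.fromSpecStalk (genericPoint X)) :=
    ⟨IsLocalRing.closedPoint _, Scheme.fromSpecStalk_closedPoint⟩
  have h2 : y ∈ closure ({genericPoint X} : Set X) :=
    specializes_iff_mem_closure.mp (genericPoint_specializes y)
  exact closure_mono (Set.singleton_subset_iff.mpr h1) h2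

/-- Two morphisms from an integral scheme into a separated `S`-scheme which agree at the generic point
are equal. -/
theorem ext_of_fromSpecStalk_genericPoint {X Y S : Scheme.{u}} [IsIntegral X] (q : Y ⟶ S)
    [IsSeparated q] (u v : X ⟶ Y) (hq : u ≫ q = v ≫ q)
    (h : X.fromSpecStalk (genericPoint X) ≫ u = X.fromSpecStalk (genericPoint X) ≫ v) : u = v := by
  haveI := isDominant_fromSpecStalk_genericPoint X
  exact ext_of_isDominant_of_isSeparated q hq (X.fromSpecStalk (genericPoint X)) h

end Groth.Agent.Lib.Helper61.FunFieldMor
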