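import Groth.Agent.Lib.Helper61.CurveExist
import Groth.Agent.Lib.Helper61.GenFinFunField
import Groth.Agent.Lib.Helper73.DimLocal
import Groth.Agent.S4442
import Groth.Agent.S4445
import Groth.Agent.S2346
import Groth.Agent.S4809
import Groth.Agent.S2278
import Groth.Agent.S2279
import Groth.Agent.Lib.Helper61.SigmaFinite

/-!
# Normal completion of a normal curve (helper61)
-/

set_option autoImplicit false
universe u

open CategoryTheory CategoryTheory.Limits AlgebraicGeometry

namespace Groth.Agent.Lib.Helper61.CurveCompletion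

open Groth.Agent.Lib.Proj Groth.Agent.Lib.Helper61.P1Curve Groth.Agent.Lib.Helper61.CurveField
  Groth.Agent.Lib.Helper61.CurveExist

variable (k : Type u) [Field k] (K : Type u) [Field K] [Algebra k K]

/-- Variant of `CurveExist.main` that records the finite morphism to `P^1_k`. -/
theorem main' (hfg : (⊤ : IntermediateField k K).FG) (htr : Algebra.trdeg k K = 1) :
    ∃ (C : Scheme.{u}) (ν : C ⟶ CohB1.ProjSpace 1 k) (_ : IsIntegral C),
      IsFinite ν ∧ Pi1.IsNormalScheme C ∧
      (∀ x : C, IsClosed ({x} : Set C) → ringKrullDim (C.presheaf.stalk x) = 1) ∧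
      ∃ e : C.presheaf.stalk (genericPoint C) ≃+* K,
        ∀ c : k, e ((C.presheaf.germ ⊤ (genericPoint C) trivial).hom
          (Coh.toGlobal (ν ≫ CohB1.ProjSpace.toSpec 1 k) c)) = algebraMap k K c := by
  obtain ⟨t, ht⟩ := exists_transcendental htr
  let P := CohB1.ProjSpace 1 k
  haveI hprop : IsProper (P ↘ Spec (CommRingCat.of k)) := isProper_toSpec k
  haveI : QuasiCompact (g k K t ≫ CohB1.ProjSpace.toSpec 1 k) := by
    rw [g_toSpec]; infer_instance
  haveI : QuasiCompact (g k K t) := QuasiCompact.of_comp (g k K t) (CohB1.ProjSpace.toSpec 1 k)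
  haveI : QuasiSeparated (g k K t) := inferInstance
  have hφ := φ_finite k K t ht hfg htr
  have hg := g_eq k K t ht
  obtain ⟨hfin, hnorm, hdim⟩ := Groth.Agent.S4454.result k P
    (fun x hx => ringKrullDim_stalk_of_isClosed k x hx) K (φ k K t ht) hφ (g k K t) hg
  obtain ⟨hint, -, -, hpt, hinj, hrange⟩ := Groth.Agent.S4448.result P K (φ k K t ht) (g k K t) hg
  refine ⟨(g k K t).normalization, (g k K t).fromNormalization, hint, hfin, hnorm, hdim, ?_⟩
  have hsurj : Function.Surjective (Scheme.stalkClosedPointTo (g k K t).toNormalization).hom := by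
    intro y
    have hy : y ∈ Set.range (Scheme.stalkClosedPointTo (g k K t).toNormalization).hom := by
      rw [hrange]
      exact hφ.to_isIntegral y
    exact hy
  have key : ∀ (x : (g k K t).normalization)
      (_ : (g k K t).toNormalization (IsLocalRing.closedPoint K) = x),
      ∃ e : (g k K t).normalization.presheaf.stalk x ≃+* K,
        ∀ c : k, e (((g k K t).normalization.presheaf.germ ⊤ x trivial).hom
          (Coh.toGlobal ((g k K t).fromNormalization ≫ CohB1.ProjSpace.toSpec 1 k) c)) =
            algebraMap k K c := by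
    rintro x rfl
    refine ⟨RingEquiv.ofBijective (Scheme.stalkClosedPointTo (g k K t).toNormalization).hom
      ⟨hinj, hsurj⟩, fun c => ?_⟩
    have h1 := Scheme.Spec_stalkClosedPointTo_fromSpecStalk (g k K t).toNormalization
    have h2 := fromSpecStalk_comp_eq_SpecMap
      ((g k K t).fromNormalization ≫ CohB1.ProjSpace.toSpec 1 k)
      ((g k K t).toNormalization (IsLocalRing.closedPoint K))
    have h3 : Spec.map (Scheme.stalkClosedPointTo (g k K t).toNormalization) ≫
        (g k K t).normalization.fromSpecStalk _ ≫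
        ((g k K t).fromNormalization ≫ CohB1.ProjSpace.toSpec 1 k) =
        Spec.map (CommRingCat.ofHom (algebraMap k K)) := by
      rw [← Category.assoc, h1, ← Category.assoc, Scheme.Hom.toNormalization_fromNormalization,
        g_toSpec]
    rw [h2, ← Spec.map_comp] at h3
    have h4 := Spec.map_injective h3
    exact congr($(h4).hom c)
  obtain ⟨e, he⟩ := key _ hpt
  exact ⟨e, he⟩


section FunctionField

variable (X : Scheme.{u}) [X.Over (Spec (CommRingCat.of k))]
  [LocallyOfFiniteType (X ↘ (Spec (CommRingCat.of k)))]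
  [QuasiCompact (X ↘ (Spec (CommRingCat.of k)))] [IsIntegral X]

theorem trdeg_functionField
    (hX : ∀ x : X, IsClosed ({x} : Set X) → ringKrullDim (X.presheaf.stalk x) = 1) :
    @Algebra.trdeg k X.functionField _ _ (Curv2.stalkAlgebra k X (genericPoint X)) = 1 := by
  have h1 := (Groth.Agent.S4442.result k X).mpr hX (genericPoint X)
    ((Groth.Agent.Lib.Helper61.GenFin.closure_mem_irreducibleComponents_iff _).mpr rfl)
  rw [← h1]
  letI := Curv2.stalkAlgebra k X (genericPoint X)
  letI := Curv2.resAlgebra k X (genericPoint X)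
  have hbij : Function.Bijective (X.residue (genericPoint X)).hom := by
    constructor
    · exact RingHom.injective (X.residue (genericPoint X)).hom
    · exact Ideal.Quotient.mk_surjective
  exact Groth.Agent.Lib.Helper73.DimFormula.trdeg_eq_of_ringEquiv (RingEquiv.refl k)
    (RingEquiv.ofBijective (X.residue (genericPoint X)).hom hbij) (fun d => rfl)

theorem fg_functionField :
    letI := Curv2.stalkAlgebra k X (genericPoint X)
    (⊤ : IntermediateField k X.functionField).FG := by
  letI := Curv2.stalkAlgebra k X (genericPoint X)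
  obtain ⟨_, ⟨U, hU, rfl⟩, hxU, -⟩ := X.isBasis_affineOpens.exists_subset_of_mem_open
    (Set.mem_univ (genericPoint X)) isOpen_univ
  haveI : Nonempty U := ⟨⟨_, hxU⟩⟩
  let ψ : k →+* Γ(X, U) := ((X ↘ (Spec (CommRingCat.of k))).appLE ⊤ U le_top).hom.comp
    (Scheme.ΓSpecIso (CommRingCat.of k)).inv.hom
  have hψ : ψ.FiniteType := by
    have h1 : ((X ↘ (Spec (CommRingCat.of k))).appLE ⊤ U le_top).hom.FiniteType :=
      (X ↘ (Spec (CommRingCat.of k))).finiteType_appLE (isAffineOpen_top _) hU le_top
    have h2 : (Scheme.ΓSpecIso (CommRingCat.of k)).inv.hom.FiniteType :=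
      RingHom.FiniteType.of_surjective _
        (ConcreteCategory.bijective_of_isIso (Scheme.ΓSpecIso (CommRingCat.of k)).inv).2
    exact h1.comp h2
  letI := ψ.toAlgebra
  haveI : Algebra.FiniteType k Γ(X, U) := hψ
  haveI : IsScalarTower k Γ(X, U) X.functionField := by
    refine IsScalarTower.of_algebraMap_eq (fun c => ?_)
    change Curv2.stalkMap k X (genericPoint X) c = (X.germToFunctionField U).hom (ψ c)
    simp only [Curv2.stalkMap, Coh.toGlobal, ψ, RingHom.comp_apply, Scheme.Hom.appLE]
    rw [← CommRingCat.comp_apply, ← CommRingCat.comp_apply, ← CommRingCat.comp_apply]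
    simp
  haveI := functionField_isFractionRing_of_isAffineOpen X U hU
  haveI : Algebra.EssFiniteType Γ(X, U) X.functionField :=
    Algebra.EssFiniteType.of_isLocalization _ (nonZeroDivisors Γ(X, U))
  haveI : Algebra.EssFiniteType k X.functionField :=
    Algebra.EssFiniteType.comp k Γ(X, U) X.functionField
  exact IntermediateField.fg_top_iff.mpr inferInstance

end FunctionField


section IntegralCase

attribute [local instance] Curv2.stalkAlgebra

variable (X : Scheme.{u}) [X.Over (Spec (CommRingCat.of k))]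
  [LocallyOfFiniteType (X ↘ (Spec (CommRingCat.of k)))]
  [QuasiCompact (X ↘ (Spec (CommRingCat.of k)))]
  [IsSeparated (X ↘ (Spec (CommRingCat.of k)))] [IsIntegral X]

theorem completion_of_isIntegral
    (hX : ∀ x : X, IsClosed ({x} : Set X) → ringKrullDim (X.presheaf.stalk x) = 1)
    (hnorm : Pi1.IsNormalScheme X) :
    ∃ (Xc : Scheme.{u}) (ν : Xc ⟶ CohB1.ProjSpace 1 k) (j : X ⟶ Xc),
      IsFinite ν ∧ IsOpenImmersion j ∧ Dense (Set.range j) ∧
      j ≫ ν ≫ CohB1.ProjSpace.toSpec 1 k = X ↘ (Spec (CommRingCat.of k)) ∧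
      Pi1.IsNormalScheme Xc ∧
      ∀ x : Xc, IsClosed ({x} : Set Xc) → ringKrullDim (Xc.presheaf.stalk x) = 1 := by
  obtain ⟨C, ν, hCint, hfin, hCnorm, hCdim, e, he⟩ :=
    main' k X.functionField (fg_functionField k X) (trdeg_functionField k X hX)
  letI : C.Over (Spec (CommRingCat.of k)) := ⟨ν ≫ CohB1.ProjSpace.toSpec 1 k⟩
  haveI : IsProper (CohB1.ProjSpace.toSpec 1 k) := isProper_toSpec k
  haveI : IsProper (C ↘ (Spec (CommRingCat.of k))) := by
    change IsProper (ν ≫ CohB1.ProjSpace.toSpec 1 k)
    infer_instance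
  let φ : C.functionField →ₐ[k] X.functionField :=
    { (e : C.presheaf.stalk (genericPoint C) →+* X.functionField) with
      commutes' := he }
  obtain ⟨u, ⟨hu1, hu, hu2⟩, -⟩ := Groth.Agent.S4445.result k X C hX hnorm hCdim φ
  -- birational
  have hbij : Function.Bijective (C.presheaf.stalkSpecializes (specializes_of_eq hu) ≫
      u.stalkMap (genericPoint X)).hom := by
    rw [hu2]
    exact e.bijective
  have hiso1 : IsIso (C.presheaf.stalkSpecializes (specializes_of_eq hu) ≫
      u.stalkMap (genericPoint X)) := (ConcreteCategory.isIso_iff_bijective _).mpr hbij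
  have hiso2 : IsIso (C.presheaf.stalkSpecializes (specializes_of_eq hu)) :=
    (C.presheaf.stalkCongr (Inseparable.of_eq hu.symm)).isIso_hom
  have hbir : IsIso (u.stalkMap (genericPoint X)) := IsIso.of_isIso_comp_left
    (C.presheaf.stalkSpecializes (specializes_of_eq hu)) _
  -- dominant
  have hdense : Dense (Set.range u) := by
    have h1 : ({genericPoint C} : Set C) ⊆ Set.range u := by
      rintro _ rfl
      exact ⟨genericPoint X, hu⟩
    have h2 : Dense ({genericPoint C} : Set C) := by
      rw [dense_iff_closure_eq]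
      exact (genericPoint_spec C).def
    exact h2.mono h1
  haveI : IsDominant u := ⟨hdense⟩
  -- quasi-finite
  haveI : LocallyOfFiniteType u := by
    haveI : LocallyOfFiniteType (u ≫ (C ↘ (Spec (CommRingCat.of k)))) := by
      rw [hu1]; infer_instance
    exact locallyOfFiniteType_of_comp u (C ↘ (Spec (CommRingCat.of k)))
  have hfib := (Groth.Agent.S2346.result k X C hX hCdim u hu1).mp inferInstance
  haveI : LocallyQuasiFinite u := LocallyQuasiFinite.of_finite_preimage_singleton u hfib
  haveI : IsSeparated u := by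
    haveI : IsSeparated (u ≫ (C ↘ (Spec (CommRingCat.of k)))) := by rw [hu1]; infer_instance
    exact IsSeparated.of_comp u (C ↘ (Spec (CommRingCat.of k)))
  have hopen := (Groth.Agent.S4809.result (fun y => (hCnorm y).2) u hu hbir).2 inferInstance
  exact ⟨C, ν, u, hfin, hopen, hdense, hu1, hCnorm, hCdim⟩

end IntegralCase


section OpenCase

variable (X : Scheme.{u}) [X.Over (Spec (CommRingCat.of k))]
  [LocallyOfFiniteType (X ↘ (Spec (CommRingCat.of k)))]
  [QuasiCompact (X ↘ (Spec (CommRingCat.of k)))]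
  [IsSeparated (X ↘ (Spec (CommRingCat.of k)))]

theorem completion_open
    (hcurve : ∀ x : X, IsClosed ({x} : Set X) → ringKrullDim (X.presheaf.stalk x) = 1)
    (hnorm : Pi1.IsNormalScheme X) (U : X.Opens) (hirr : IsIrreducible (U : Set X))
    (hcl : IsClosed (U : Set X)) :
    ∃ (C : Scheme.{u}) (ν : C ⟶ CohB1.ProjSpace 1 k) (j : (U : Scheme.{u}) ⟶ C),
      IsFinite ν ∧ IsOpenImmersion j ∧ Dense (Set.range j) ∧
      j ≫ ν ≫ CohB1.ProjSpace.toSpec 1 k = U.ι ≫ (X ↘ (Spec (CommRingCat.of k))) ∧
      Pi1.IsNormalScheme C ∧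
      ∀ x : C, IsClosed ({x} : Set C) → ringKrullDim (C.presheaf.stalk x) = 1 := by
  haveI : CompactSpace X := QuasiCompact.compactSpace_of_compactSpace (X ↘ Spec (CommRingCat.of k))
  letI : (U : Scheme.{u}).Over (Spec (CommRingCat.of k)) :=
    ⟨U.ι ≫ (X ↘ (Spec (CommRingCat.of k)))⟩
  haveI : LocallyOfFiniteType ((U : Scheme.{u}) ↘ (Spec (CommRingCat.of k))) := by
    change LocallyOfFiniteType (U.ι ≫ (X ↘ (Spec (CommRingCat.of k))))
    infer_instance
  haveI : CompactSpace (U : Scheme.{u}) := isCompact_iff_compactSpace.mp hcl.isCompact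
  haveI : QuasiCompact ((U : Scheme.{u}) ↘ (Spec (CommRingCat.of k))) :=
    (HasAffineProperty.iff_of_isAffine (P := @QuasiCompact)).mpr ‹_›
  haveI : IsSeparated ((U : Scheme.{u}) ↘ (Spec (CommRingCat.of k))) := by
    change IsSeparated (U.ι ≫ (X ↘ (Spec (CommRingCat.of k))))
    infer_instance
  haveI : IrreducibleSpace (U : Scheme.{u}) := Subtype.irreducibleSpace hirr
  haveI : IsReduced X := by
    haveI : ∀ x : X, _root_.IsReduced (X.presheaf.stalk x) := fun x => by
      haveI := (hnorm x).1
      infer_instance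
    exact isReduced_of_isReduced_stalk X
  haveI : IsIntegral (U : Scheme.{u}) := isIntegral_of_irreducibleSpace_of_isReduced _
  have hU1 : ∀ x : (U : Scheme.{u}), IsClosed ({x} : Set (U : Scheme.{u})) →
      ringKrullDim ((U : Scheme.{u}).presheaf.stalk x) = 1 := by
    intro x hx
    have hx' : IsClosed ({U.ι x} : Set X) := by
      have := (hcl.isClosedEmbedding_subtypeVal).isClosedMap _ hx
      have h2 : ({U.ι x} : Set X) = Subtype.val '' ({x} : Set (U : Scheme.{u})) := by
        ext y
        constructor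
        · rintro rfl
          exact ⟨x, rfl, rfl⟩
        · rintro ⟨z, rfl, rfl⟩
          rfl
      rw [h2]
      exact this
    rw [← hcurve _ hx']
    exact ringKrullDim_eq_of_ringEquiv (asIso (U.ι.stalkMap x)).commRingCatIsoToRingEquiv.symm
  have hU2 : Pi1.IsNormalScheme (U : Scheme.{u}) :=
    Groth.Agent.Lib.Helper7.NormField.isNormalScheme_of_isOpenImmersion U.ι hnorm
  exact completion_of_isIntegral k (U : Scheme.{u}) hU1 hU2

end OpenCase


section Sigma

variable {σ : Type} [Small.{u} σ] (C : σ → Scheme.{u})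

theorem isNormalScheme_sigma (h : ∀ i, Pi1.IsNormalScheme (C i)) : Pi1.IsNormalScheme (∐ C) :=
  Groth.Agent.Lib.Helper7.NormField.isNormalScheme_of_openCover (sigmaOpenCover C) h

theorem ringKrullDim_stalk_sigma
    (h : ∀ i, ∀ x : C i, IsClosed ({x} : Set (C i)) → ringKrullDim ((C i).presheaf.stalk x) = 1)
    (x : ↥(∐ C)) (hx : IsClosed ({x} : Set ↥(∐ C))) :
    ringKrullDim ((∐ C).presheaf.stalk x) = 1 := by
  obtain ⟨i, y, rfl⟩ := (sigmaOpenCover C).exists_eq x
  change IsClosed ({(Sigma.ι C i) y} : Set ↥(∐ C)) at hx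
  change ringKrullDim ((∐ C).presheaf.stalk ((Sigma.ι C i) y)) = 1
  have hy : IsClosed ({y} : Set (C i)) := by
    have h1 := hx.preimage (Sigma.ι C i).continuous
    have h2 : (Sigma.ι C i) ⁻¹' {(Sigma.ι C i) y} = {y} := by
      ext z
      constructor
      · intro hz
        exact (Sigma.ι C i).isOpenEmbedding.injective hz
      · rintro rfl
        rfl
    rwa [h2] at h1
  rw [← h i y hy]
  exact ringKrullDim_eq_of_ringEquiv (asIso ((Sigma.ι C i).stalkMap y)).commRingCatIsoToRingEquiv

variable {D : σ → Scheme.{u}} (j : ∀ i, D i ⟶ C i)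

theorem isOpenImmersion_sigmaDesc_comp [∀ i, IsOpenImmersion (j i)] :
    IsOpenImmersion (Sigma.desc (fun i => j i ≫ Sigma.ι C i)) := by
  refine isOpenImmersion_sigmaDesc _ _ (fun a b hab => ?_)
  have h1 := disjoint_opensRange_sigmaι C a b hab
  rw [Function.onFun_apply]
  refine Set.disjoint_left.mpr ?_
  rintro _ ⟨x, rfl⟩ ⟨y, hy⟩
  have h2 : (Sigma.ι C a) ((j a) x) ∈ (Sigma.ι C a).opensRange ⊓ (Sigma.ι C b).opensRange := by
    refine ⟨⟨_, rfl⟩, ?_⟩
    rw [Scheme.Hom.comp_apply] at hy
    rw [Scheme.Hom.comp_apply] at hy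
    exact ⟨_, hy⟩
  rw [h1.eq_bot] at h2
  exact h2

theorem dense_range_sigmaDesc_comp (hj : ∀ i, Dense (Set.range (j i))) :
    Dense (Set.range (Sigma.desc (fun i => j i ≫ Sigma.ι C i))) := by
  intro x
  obtain ⟨i, y, rfl⟩ := (sigmaOpenCover C).exists_eq x
  change (Sigma.ι C i) y ∈ _
  have h1 : y ∈ closure (Set.range (j i)) := hj i y
  have h2 := image_closure_subset_closure_image (Sigma.ι C i).continuous ⟨y, h1, rfl⟩
  refine closure_mono ?_ h2
  rintro _ ⟨_, ⟨z, rfl⟩, rfl⟩
  refine ⟨(Sigma.ι D i) z, ?_⟩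
  rw [← Scheme.Hom.comp_apply, Sigma.ι_desc, Scheme.Hom.comp_apply]

end Sigma


section General

variable (X : Scheme.{u}) [X.Over (Spec (CommRingCat.of k))]
  [LocallyOfFiniteType (X ↘ (Spec (CommRingCat.of k)))]
  [QuasiCompact (X ↘ (Spec (CommRingCat.of k)))]
  [IsSeparated (X ↘ (Spec (CommRingCat.of k)))]

open TopologicalSpace in
theorem completion
    (hcurve : ∀ x : X, IsClosed ({x} : Set X) → ringKrullDim (X.presheaf.stalk x) = 1)
    (hnorm : Pi1.IsNormalScheme X) :
    ∃ (Xc : Scheme.{u}) (ν : Xc ⟶ CohB1.ProjSpace 1 k) (j : X ⟶ Xc),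
      IsFinite ν ∧ IsOpenImmersion j ∧ Dense (Set.range j) ∧
      j ≫ ν ≫ CohB1.ProjSpace.toSpec 1 k = X ↘ (Spec (CommRingCat.of k)) ∧
      Pi1.IsNormalScheme Xc ∧
      ∀ x : Xc, IsClosed ({x} : Set Xc) → ringKrullDim (Xc.presheaf.stalk x) = 1 := by
  haveI : IsLocallyNoetherian X :=
    LocallyOfFiniteType.isLocallyNoetherian (X ↘ Spec (CommRingCat.of k))
  haveI : CompactSpace X := QuasiCompact.compactSpace_of_compactSpace (X ↘ Spec (CommRingCat.of k))
  haveI : IsNoetherian X := {}
  -- the irreducible components are pairwise disjoint, open, and finite in number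
  have hdisj : (irreducibleComponents (X : Type u)).PairwiseDisjoint id := by
    refine (Groth.Agent.S2279.result X).mpr (fun x => ?_)
    haveI := (hnorm x).1
    rw [nilradical_eq_zero]
    exact Ideal.isPrime_bot
  have hloc : ∀ x : X, ∃ U ∈ nhds x, NoetherianSpace U :=
    fun x => ⟨Set.univ, Filter.univ_mem, inferInstance⟩
  have hopen : ∀ Z ∈ irreducibleComponents (X : Type u), IsOpen Z :=
    ((Groth.Agent.S2278.result X hloc).out 3 0).mp hdisj
  have hfin : (irreducibleComponents (X : Type u)).Finite :=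
    NoetherianSpace.finite_irreducibleComponents
  haveI : Finite ↥(irreducibleComponents (X : Type u)) := hfin.to_subtype
  obtain ⟨n, ⟨e⟩⟩ := Finite.exists_equiv_fin ↥(irreducibleComponents (X : Type u))
  let U : Fin n → X.Opens := fun i => ⟨(e.symm i).1, hopen _ (e.symm i).2⟩
  have hUirr : ∀ i, IsIrreducible (U i : Set X) := fun i => (e.symm i).2.1
  have hUcl : ∀ i, IsClosed (U i : Set X) := fun i =>
    isClosed_of_mem_irreducibleComponents _ (e.symm i).2
  have hUdisj : ∀ a b, a ≠ b → Disjoint (U a : Set X) (U b : Set X) := by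
    intro a b hab
    have hne : (e.symm a).1 ≠ (e.symm b).1 := fun h => hab (e.symm.injective (Subtype.ext h))
    exact hdisj (e.symm a).2 (e.symm b).2 hne
  have hUcov : ∀ x : X, ∃ i, x ∈ U i := by
    intro x
    refine ⟨e ⟨irreducibleComponent x, irreducibleComponent_mem_irreducibleComponents x⟩, ?_⟩
    change x ∈ (e.symm (e _)).1
    rw [Equiv.symm_apply_apply]
    exact mem_irreducibleComponent
  choose C ν j hfinν hopenj hdensej hcomp hnormC hdimC using
    fun i => completion_open k X hcurve hnorm (U i) (hUirr i) (hUcl i)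
  -- `X` is the disjoint union of the `U i`
  have hcolim : Nonempty (IsColimit (Cofan.mk X (fun i => (U i).ι))) := by
    refine nonempty_isColimit_cofanMk_of (fun i => (U i).ι) ?_ ?_
    · rw [eq_top_iff]
      intro x _
      obtain ⟨i, hi⟩ := hUcov x
      refine Opens.mem_iSup.mpr ⟨i, ?_⟩
      rw [Scheme.Opens.opensRange_ι]
      exact hi
    · intro a b hab
      rw [Function.onFun_apply, Scheme.Opens.opensRange_ι, Scheme.Opens.opensRange_ι,
        disjoint_iff]
      ext x
      simp only [Opens.coe_inf, Opens.coe_bot, Set.mem_inter_iff, Set.mem_empty_iff_false,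
        iff_false, not_and]
      intro ha hb
      exact Set.disjoint_left.mp (hUdisj a b hab) ha hb
  haveI hs : IsIso (Sigma.desc (fun i => (U i).ι)) :=
    (Cofan.nonempty_isColimit_iff_isIso_sigmaDesc (Cofan.mk X (fun i => (U i).ι))).mp hcolim
  haveI : ∀ i, IsOpenImmersion (j i) := hopenj
  haveI hm : IsOpenImmersion (Sigma.desc (fun i => j i ≫ Sigma.ι C i)) :=
    isOpenImmersion_sigmaDesc_comp C j
  refine ⟨∐ C, Sigma.desc ν, inv (Sigma.desc (fun i => (U i).ι)) ≫
    Sigma.desc (fun i => j i ≫ Sigma.ι C i),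
    Groth.Agent.Lib.Helper61.SigmaFinite.isFinite_sigmaDesc_fin n C ν hfinν, inferInstance, ?_, ?_,
    isNormalScheme_sigma C hnormC, ringKrullDim_stalk_sigma C hdimC⟩
  · have h1 := dense_range_sigmaDesc_comp C j hdensej
    have h2 : Set.range (inv (Sigma.desc (fun i => (U i).ι)) ≫
        Sigma.desc (fun i => j i ≫ Sigma.ι C i)) =
        Set.range (Sigma.desc (fun i => j i ≫ Sigma.ι C i)) := by
      ext y
      constructor
      · rintro ⟨x, rfl⟩
        exact ⟨_, (Scheme.Hom.comp_apply _ _ _).symm⟩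
      · rintro ⟨x, rfl⟩
        refine ⟨(Sigma.desc (fun i => (U i).ι)) x, ?_⟩
        rw [← Scheme.Hom.comp_apply, ← Category.assoc, IsIso.hom_inv_id, Category.id_comp]
    rw [h2]
    exact h1
  · rw [Category.assoc, IsIso.inv_comp_eq]
    apply Sigma.hom_ext
    intro i
    rw [← Category.assoc, Sigma.ι_desc, Category.assoc, ← Category.assoc (Sigma.ι C i),
      Sigma.ι_desc, ← Category.assoc (Sigma.ι _ i), Sigma.ι_desc]
    exact hcomp i

end General

end Groth.Agent.Lib.Helper61.CurveCompletion
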