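import Mathlib

/-!
# Field theory for function fields of curves (helper61)
-/

set_option autoImplicit false
universe u

open Cardinal

namespace Groth.Agent.Lib.Helper61.CurveField

theorem exists_transcendental {k K : Type u} [Field k] [Field K] [Algebra k K]
    (htr : Algebra.trdeg k K = 1) : ∃ t : K, Transcendental k t := by
  by_contra h
  push Not at h
  have halg : Algebra.IsAlgebraic k K := ⟨fun x => by
    have := h x
    rwa [Transcendental, not_not] at this⟩
  have := trdeg_eq_zero_iff.mpr halg
  rw [htr] at this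
  exact one_ne_zero this

theorem isAlgebraic_adjoin_of_transcendental {k K : Type u} [Field k] [Field K] [Algebra k K]
    (htr : Algebra.trdeg k K = 1) (t : K) (ht : Transcendental k t) :
    Algebra.IsAlgebraic (Algebra.adjoin k {t}) K := by
  have hind : AlgebraicIndependent k (fun _ : PUnit.{u+1} => t) :=
    algebraicIndependent_unique_type_iff.mpr ht
  have hb : IsTranscendenceBasis k (fun _ : PUnit.{u+1} => t) :=
    hind.isTranscendenceBasis_of_trdeg_le_of_finite (by rw [htr]; simp)
  have := hb.isAlgebraic
  rwa [Set.range_const] at this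

theorem isAlgebraic_of_subalgebra_le_range {k F K : Type u} [Field k] [Field F] [Field K]
    [Algebra k K] [Algebra F K] (S : Subalgebra k K)
    (hS : ∀ s ∈ S, s ∈ Set.range (algebraMap F K)) (y : K) (hy : IsAlgebraic S y) :
    IsAlgebraic F y := by
  obtain ⟨p, hp0, hp⟩ := hy
  have hlift : p.map (algebraMap S K) ∈ Polynomial.lifts (algebraMap F K) := by
    rw [Polynomial.lifts_iff_coeff_lifts]
    intro n
    rw [Polynomial.coeff_map]
    exact hS _ (p.coeff n).2
  obtain ⟨q, hq⟩ := hlift
  rw [Polynomial.coe_mapRingHom] at hq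
  refine ⟨q, ?_, ?_⟩
  · rintro rfl
    rw [Polynomial.map_zero] at hq
    exact hp0 ((Polynomial.map_eq_zero_iff (FaithfulSMul.algebraMap_injective S K)).mp hq.symm)
  · rw [Polynomial.aeval_def, Polynomial.eval₂_eq_eval_map, hq, ← Polynomial.eval₂_eq_eval_map,
      ← Polynomial.aeval_def]
    exact hp

theorem finite_of_transcendental {k F K : Type u} [Field k] [Field F] [Field K] [Algebra k K]
    (ι : k →+* F) (φ : F →+* K) (hφ : ∀ c, φ (ι c) = algebraMap k K c)
    (hfg : (⊤ : IntermediateField k K).FG) (htr : Algebra.trdeg k K = 1)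
    (t₀ : F) (ht : Transcendental k (φ t₀)) : φ.Finite := by
  letI := ι.toAlgebra
  letI := φ.toAlgebra
  haveI : IsScalarTower k F K := IsScalarTower.of_algebraMap_eq (fun c => (hφ c).symm)
  haveI : Algebra.EssFiniteType k K := IntermediateField.fg_top_iff.mp hfg
  haveI : Algebra.EssFiniteType F K := Algebra.EssFiniteType.of_comp k F K
  have halg := isAlgebraic_adjoin_of_transcendental htr (φ t₀) ht
  haveI : Algebra.IsAlgebraic F K := by
    constructor
    intro y
    refine isAlgebraic_of_subalgebra_le_range (k := k) (Algebra.adjoin k {φ t₀}) ?_ y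
      (halg.isAlgebraic y)
    intro s hs
    have hle : Algebra.adjoin k {φ t₀} ≤ (IsScalarTower.toAlgHom k F K).range := by
      rw [Algebra.adjoin_le_iff]
      rintro _ rfl
      exact ⟨t₀, rfl⟩
    obtain ⟨a, ha⟩ := hle hs
    exact ⟨a, ha⟩
  exact Algebra.finite_of_essFiniteType_of_isAlgebraic (F := F) (E := K)

end Groth.Agent.Lib.Helper61.CurveField
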