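import Groth.Agent.Lib.Helper61.P1Curve
import Groth.Agent.Lib.Helper61.CurveField
import Groth.Agent.S4454
import Groth.Agent.S4448

/-!
# Existence of a normal proper curve with prescribed function field (helper61)
-/

set_option autoImplicit false
universe u

open CategoryTheory CategoryTheory.Limits AlgebraicGeometry

namespace Groth.Agent.Lib.Helper61.CurveExist

open Groth.Agent.Lib.Proj Groth.Agent.Lib.Helper61.P1Curve Groth.Agent.Lib.Helper61.CurveField

theorem fromSpecStalk_comp_eq_SpecMap {A : Type u} [CommRing A] {X : Scheme.{u}}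
    (f : X ⟶ Spec (CommRingCat.of A)) (x : X) :
    X.fromSpecStalk x ≫ f =
      Spec.map (CommRingCat.ofHom ((X.presheaf.germ ⊤ x trivial).hom.comp (Coh.toGlobal f))) := by
  apply ext_of_isAffine
  rw [Scheme.Hom.comp_appTop, Scheme.fromSpecStalk_appTop]
  rw [← cancel_mono (Scheme.ΓSpecIso _).hom, Scheme.ΓSpecIso_naturality]
  ext a
  simp [Coh.toGlobal]

variable (k : Type u) [Field k] (K : Type u) [Field K] [Algebra k K]

instance : Unique {j : Fin (1 + 1) // j ≠ 0} where
  default := ⟨1, by decide⟩
  uniq := by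
    rintro ⟨j, hj⟩
    apply Subtype.ext
    fin_cases j
    · exact absurd rfl hj
    · rfl

/-- the ring map `k[T] → K`, `T ↦ t`. -/
noncomputable def θ (t : K) : MvPolynomial {j : Fin (1 + 1) // j ≠ 0} k →+* K :=
  (MvPolynomial.aeval (fun _ => t)).toRingHom

theorem θ_C (t : K) (c : k) : θ k K t (MvPolynomial.C c) = algebraMap k K c := by
  simp [θ]

theorem θ_injective (t : K) (ht : Transcendental k t) : Function.Injective (θ k K t) := by
  have hind : AlgebraicIndependent k (fun _ : {j : Fin (1 + 1) // j ≠ 0} => t) :=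
    algebraicIndependent_unique_type_iff.mpr ht
  exact hind

/-- the morphism `Spec K → P^1_k`. -/
noncomputable def g (t : K) : Spec (CommRingCat.of K) ⟶ CohB1.ProjSpace 1 k :=
  Spec.map (CommRingCat.ofHom (θ k K t)) ≫ chart 1 k 0

theorem g_toSpec (t : K) :
    g k K t ≫ CohB1.ProjSpace.toSpec 1 k = Spec.map (CommRingCat.ofHom (algebraMap k K)) := by
  rw [g, Category.assoc, chart_toSpec, ← Spec.map_comp]
  congr 1
  ext c
  exact θ_C k K t c

theorem g_apply (t : K) (ht : Transcendental k t) (x : Spec (CommRingCat.of K)) :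
    g k K t x = genericPoint (CohB1.ProjSpace 1 k) := by
  rw [g, Scheme.Hom.comp_apply]
  rw [← genericPoint_eq_of_isOpenImmersion (chart 1 k 0)]
  congr 1
  rw [genericPoint_eq_bot_of_affine]
  apply PrimeSpectrum.ext
  change Ideal.comap (θ k K t) x.asIdeal = ⊥
  have hx : x.asIdeal = ⊥ := (Ideal.eq_bot_or_top x.asIdeal).resolve_right x.isPrime.ne_top
  rw [hx]
  exact (RingHom.injective_iff_ker_eq_bot _).mp (θ_injective k K t ht)


section phi

variable (t : K) (ht : Transcendental k t)

/-- the induced map on function fields. -/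
noncomputable def φ : (CohB1.ProjSpace 1 k).functionField →+* K :=
  ((CohB1.ProjSpace 1 k).presheaf.stalkSpecializes
      (specializes_of_eq (g_apply k K t ht (IsLocalRing.closedPoint K))) ≫
    Scheme.stalkClosedPointTo (g k K t)).hom

theorem g_eq : g k K t = Spec.map (CommRingCat.ofHom (φ k K t ht)) ≫
    (CohB1.ProjSpace 1 k).fromSpecStalk (genericPoint (CohB1.ProjSpace 1 k)) := by
  have h1 : CommRingCat.ofHom (φ k K t ht) = (CohB1.ProjSpace 1 k).presheaf.stalkSpecializes
      (specializes_of_eq (g_apply k K t ht (IsLocalRing.closedPoint K))) ≫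
    Scheme.stalkClosedPointTo (g k K t) := rfl
  rw [h1, Spec.map_comp, Category.assoc, Scheme.SpecMap_stalkSpecializes_fromSpecStalk,
    Scheme.Spec_stalkClosedPointTo_fromSpecStalk]

theorem φ_stalkMap (c : k) :
    φ k K t ht (Curv2.stalkMap k (CohB1.ProjSpace 1 k) (genericPoint (CohB1.ProjSpace 1 k)) c) =
      algebraMap k K c := by
  have h1 := g_toSpec k K t
  rw [g_eq k K t ht, Category.assoc] at h1
  have h2 := fromSpecStalk_comp_eq_SpecMap (CohB1.ProjSpace.toSpec 1 k)
    (genericPoint (CohB1.ProjSpace 1 k))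
  rw [h2, ← Spec.map_comp] at h1
  have h3 := Spec.map_injective h1
  exact congr($(h3).hom c)

theorem exists_φ_eq :
    ∃ t₀ : (CohB1.ProjSpace 1 k).functionField, φ k K t ht t₀ = t := by
  have hrange : Set.range ((CohB1.ProjSpace 1 k).fromSpecStalk
      (genericPoint (CohB1.ProjSpace 1 k))) ⊆ Set.range (chart 1 k 0) := by
    rw [Scheme.range_fromSpecStalk]
    intro y hy
    have hξ : genericPoint (CohB1.ProjSpace 1 k) ∈ (chart 1 k 0).opensRange := by
      rw [← g_apply k K t ht (IsLocalRing.closedPoint K), g, Scheme.Hom.comp_apply]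
      exact ⟨_, rfl⟩
    exact hy.mem_open (chart 1 k 0).opensRange.isOpen hξ
  let l := IsOpenImmersion.lift (chart 1 k 0) ((CohB1.ProjSpace 1 k).fromSpecStalk
      (genericPoint (CohB1.ProjSpace 1 k))) hrange
  have hl : l ≫ chart 1 k 0 = (CohB1.ProjSpace 1 k).fromSpecStalk
      (genericPoint (CohB1.ProjSpace 1 k)) := IsOpenImmersion.lift_fac _ _ _
  have h1 : Spec.map (CommRingCat.ofHom (φ k K t ht)) ≫ l =
      Spec.map (CommRingCat.ofHom (θ k K t)) := by
    rw [← cancel_mono (chart 1 k 0), Category.assoc, hl, ← g_eq]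
    rfl
  have h2 : Spec.map (Spec.preimage l ≫ CommRingCat.ofHom (φ k K t ht)) =
      Spec.map (CommRingCat.ofHom (θ k K t)) := by
    rw [Spec.map_comp, Spec.map_preimage]
    exact h1
  have h3 := Spec.map_injective h2
  refine ⟨(Spec.preimage l).hom (MvPolynomial.X default), ?_⟩
  have h4 := congr($(h3).hom (MvPolynomial.X default))
  refine h4.trans ?_
  simp [θ]

theorem φ_finite (hfg : (⊤ : IntermediateField k K).FG) (htr : Algebra.trdeg k K = 1) :
    (φ k K t ht).Finite := by
  obtain ⟨t₀, ht₀⟩ := exists_φ_eq k K t ht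
  exact finite_of_transcendental
    (Curv2.stalkMap k (CohB1.ProjSpace 1 k) (genericPoint (CohB1.ProjSpace 1 k)))
    (φ k K t ht) (φ_stalkMap k K t ht) hfg htr t₀ (by rw [ht₀]; exact ht)

end phi


attribute [local instance] Curv2.stalkAlgebra

theorem main (hfg : (⊤ : IntermediateField k K).FG) (htr : Algebra.trdeg k K = 1) :
    ∃ (X : Scheme.{u}) (_ : X.Over (Spec (CommRingCat.of k))) (_ : IsIntegral X),
      IsProper (X ↘ (Spec (CommRingCat.of k))) ∧ Pi1.IsNormalScheme X ∧
      (∀ x : X, IsClosed ({x} : Set X) → ringKrullDim (X.presheaf.stalk x) = 1) ∧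
      ∃ e : X.presheaf.stalk (genericPoint X) ≃+* K,
        ∀ c : k, e (algebraMap k (X.presheaf.stalk (genericPoint X)) c) = algebraMap k K c := by
  obtain ⟨t, ht⟩ := exists_transcendental htr
  let P := CohB1.ProjSpace 1 k
  haveI hprop : IsProper (P ↘ Spec (CommRingCat.of k)) := isProper_toSpec k
  haveI : QuasiCompact (g k K t ≫ CohB1.ProjSpace.toSpec 1 k) := by
    rw [g_toSpec]; infer_instance
  haveI : QuasiCompact (g k K t) := QuasiCompact.of_comp (g k K t) (CohB1.ProjSpace.toSpec 1 k)
  haveI : QuasiSeparated (g k K t) := inferInstance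
  have hφ := φ_finite k K t ht hfg htr
  have hg := g_eq k K t ht
  obtain ⟨hfin, hnorm, hdim⟩ := Groth.Agent.S4454.result k P
    (fun x hx => ringKrullDim_stalk_of_isClosed k x hx) K (φ k K t ht) hφ (g k K t) hg
  obtain ⟨hint, -, -, hpt, hinj, hrange⟩ := Groth.Agent.S4448.result P K (φ k K t ht) (g k K t) hg
  refine ⟨(g k K t).normalization, ⟨(g k K t).fromNormalization ≫ CohB1.ProjSpace.toSpec 1 k⟩,
    hint, ?_, hnorm, hdim, ?_⟩
  · change IsProper ((g k K t).fromNormalization ≫ CohB1.ProjSpace.toSpec 1 k)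
    haveI : IsProper (CohB1.ProjSpace.toSpec 1 k) := isProper_toSpec k
    infer_instance
  · letI : (g k K t).normalization.Over (Spec (CommRingCat.of k)) :=
      ⟨(g k K t).fromNormalization ≫ CohB1.ProjSpace.toSpec 1 k⟩
    have hsurj : Function.Surjective (Scheme.stalkClosedPointTo (g k K t).toNormalization).hom := by
      intro y
      have hy : y ∈ Set.range (Scheme.stalkClosedPointTo (g k K t).toNormalization).hom := by
        rw [hrange]
        exact hφ.to_isIntegral y
      exact hy
    have key : ∀ (x : (g k K t).normalization)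
        (_ : (g k K t).toNormalization (IsLocalRing.closedPoint K) = x),
        ∃ e : (g k K t).normalization.presheaf.stalk x ≃+* K,
          ∀ c : k, e (Curv2.stalkMap k (g k K t).normalization x c) = algebraMap k K c := by
      rintro x rfl
      refine ⟨RingEquiv.ofBijective (Scheme.stalkClosedPointTo (g k K t).toNormalization).hom
        ⟨hinj, hsurj⟩, fun c => ?_⟩
      have h1 := Scheme.Spec_stalkClosedPointTo_fromSpecStalk (g k K t).toNormalization
      have h2 := fromSpecStalk_comp_eq_SpecMap
        ((g k K t).fromNormalization ≫ CohB1.ProjSpace.toSpec 1 k)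
        ((g k K t).toNormalization (IsLocalRing.closedPoint K))
      have h3 : Spec.map (Scheme.stalkClosedPointTo (g k K t).toNormalization) ≫
          (g k K t).normalization.fromSpecStalk _ ≫
          ((g k K t).fromNormalization ≫ CohB1.ProjSpace.toSpec 1 k) =
          Spec.map (CommRingCat.ofHom (algebraMap k K)) := by
        rw [← Category.assoc, h1, ← Category.assoc, Scheme.Hom.toNormalization_fromNormalization,
          g_toSpec]
      rw [h2, ← Spec.map_comp] at h3
      have h4 := Spec.map_injective h3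
      exact congr($(h4).hom c)
    obtain ⟨e, he⟩ := key _ hpt
    exact ⟨e, he⟩

end Groth.Agent.Lib.Helper61.CurveExist
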