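import Mathlib
import Groth.Agent.S0112
import Groth.Agent.Lib.Helper78.SmoothDesc

/-!
# Étale descends along étale covers of the source (ring level)

If `R → A → B` with `A → B` étale and surjective on spectra, and `R → B` étale, then `R → A` is étale.
-/

set_option autoImplicit false

universe u

open TensorProduct

namespace Groth.Agent.Lib.Helper61.EtaleSourceDescent

theorem etale_of_etale_of_comap_surjective {R A B : Type u} [CommRing R] [CommRing A] [CommRing B]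
    [Algebra R A] [Algebra A B] [Algebra R B] [IsScalarTower R A B]
    [Algebra.Etale A B] [Algebra.Etale R B]
    (hsurj : Function.Surjective (PrimeSpectrum.comap (algebraMap A B))) : Algebra.Etale R A := by
  have hflatAB : Module.Flat A B := Algebra.Smooth.flat A B
  have hff : Module.FaithfullyFlat A B := Module.FaithfullyFlat.of_comap_surjective hsurj
  have hfp : Algebra.FinitePresentation R A := Groth.Agent.S0112.result (R := R) (A := A) (B := B)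
  have hsm : Algebra.Smooth R A :=
    Groth.Agent.Lib.Helper78.SmoothDesc.smooth_of_etale_of_comap_surjective (B := B) hsurj
  have hunr : Algebra.FormallyUnramified R A := by
    rw [Algebra.formallyUnramified_iff]
    let e' : B ⊗[A] Ω[A⁄R] ≃ₗ[B] Ω[B⁄R] :=
      KaehlerDifferential.tensorKaehlerEquivOfFormallyEtale R A B
    have h1 : Subsingleton (B ⊗[A] Ω[A⁄R]) := e'.toEquiv.subsingleton
    exact (Module.FaithfullyFlat.subsingleton_tensorProduct_iff_right A B).mp h1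
  have : Algebra.FormallyEtale R A :=
    Algebra.FormallyEtale.iff_formallyUnramified_and_formallySmooth.mpr ⟨hunr, hsm.1⟩
  exact ⟨inferInstance, hfp⟩

end Groth.Agent.Lib.Helper61.EtaleSourceDescent

namespace Groth.Agent.Lib.Helper61.EtaleSourceDescent

open AlgebraicGeometry CategoryTheory

/-- Every prime of the ring of sections of an affine open is the prime of a point. -/
theorem exists_primeIdealOf_eq {Y : Scheme.{u}} {V : Y.Opens} (hV : IsAffineOpen V)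
    (p : PrimeSpectrum Γ(Y, V)) : ∃ (v : Y) (hv : v ∈ V), hV.primeIdealOf ⟨v, hv⟩ = p := by
  have hmem : hV.fromSpec p ∈ V := by
    have : hV.fromSpec p ∈ Set.range hV.fromSpec := ⟨p, rfl⟩
    rw [hV.range_fromSpec] at this
    exact this
  refine ⟨hV.fromSpec p, hmem, ?_⟩
  apply hV.fromSpec.isOpenEmbedding.injective
  exact hV.fromSpec_primeIdealOf ⟨hV.fromSpec p, hmem⟩

/-- **Étale descends along étale covers of the source** (scheme level, local form): if `f` and `f ≫ g`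
are étale, then `g` is étale on an open neighbourhood of `f x`. -/
theorem exists_etale_nhd_of_comp {X Y Z : Scheme.{u}} (f : X ⟶ Y) (g : Y ⟶ Z) [Etale f]
    [Etale (f ≫ g)] (x : X) : ∃ V : Y.Opens, f x ∈ V ∧ Etale (V.ι ≫ g) := by
  -- affine charts
  obtain ⟨_, ⟨Z₀, hZ₀, rfl⟩, hzZ₀, -⟩ :=
    Z.isBasis_affineOpens.exists_subset_of_mem_open (Set.mem_univ (g (f x))) isOpen_univ
  replace hZ₀ : IsAffineOpen Z₀ := hZ₀
  obtain ⟨_, ⟨Y₀, hY₀, rfl⟩, hyY₀, hY₀Z₀'⟩ :=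
    Y.isBasis_affineOpens.exists_subset_of_mem_open hzZ₀ (Z₀.2.preimage g.continuous)
  replace hY₀ : IsAffineOpen Y₀ := hY₀
  have hY₀Z₀ : Y₀ ≤ g ⁻¹ᵁ Z₀ := hY₀Z₀'
  obtain ⟨_, ⟨X₁, hX₁, rfl⟩, hxX₁, hX₁Y₀'⟩ :=
    X.isBasis_affineOpens.exists_subset_of_mem_open hyY₀ (Y₀.2.preimage f.continuous)
  replace hX₁ : IsAffineOpen X₁ := hX₁
  have hX₁Y₀ : X₁ ≤ f ⁻¹ᵁ Y₀ := hX₁Y₀'
  -- the open image of `X₁`
  let W : Y.Opens := ⟨f '' (X₁ : Set X), f.isOpenMap _ X₁.2⟩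
  have hyW : f x ∈ W := ⟨x, hxX₁, rfl⟩
  obtain ⟨a, haW, hya⟩ := hY₀.exists_basicOpen_le (V := W) ⟨f x, hyW⟩ hyY₀
  have hV : IsAffineOpen (Y.basicOpen a) := hY₀.basicOpen a
  set V : Y.Opens := Y.basicOpen a with hVdef
  have hVY₀ : V ≤ Y₀ := Y.basicOpen_le a
  have hVZ₀ : V ≤ g ⁻¹ᵁ Z₀ := hVY₀.trans hY₀Z₀
  have hX₂ : IsAffineOpen (X.basicOpen (f.appLE Y₀ X₁ hX₁Y₀ a)) := hX₁.basicOpen _
  set X₂ : X.Opens := X.basicOpen (f.appLE Y₀ X₁ hX₁Y₀ a) with hX₂def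
  have hX₂eq : X₂ = X₁ ⊓ f ⁻¹ᵁ V := Scheme.basicOpen_appLE f X₁ Y₀ hX₁Y₀ a
  have hX₂V : X₂ ≤ f ⁻¹ᵁ V := by rw [hX₂eq]; exact inf_le_right
  have hX₂Z₀ : X₂ ≤ (f ≫ g) ⁻¹ᵁ Z₀ := fun z hz => hVZ₀ (hX₂V hz)
  refine ⟨V, hya, ?_⟩
  -- ring maps
  have hψ : RingHom.Etale (f.appLE V X₂ hX₂V).hom :=
    HasRingHomProperty.appLE (P := @Etale) f inferInstance ⟨V, hV⟩ ⟨X₂, hX₂⟩ hX₂V
  have hχ : RingHom.Etale ((f ≫ g).appLE Z₀ X₂ hX₂Z₀).hom :=
    HasRingHomProperty.appLE (P := @Etale) (f ≫ g) inferInstance ⟨Z₀, hZ₀⟩ ⟨X₂, hX₂⟩ hX₂Z₀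
  let _ : Algebra Γ(Z, Z₀) Γ(Y, V) := (g.appLE Z₀ V hVZ₀).hom.toAlgebra
  let _ : Algebra Γ(Y, V) Γ(X, X₂) := (f.appLE V X₂ hX₂V).hom.toAlgebra
  let _ : Algebra Γ(Z, Z₀) Γ(X, X₂) := ((f ≫ g).appLE Z₀ X₂ hX₂Z₀).hom.toAlgebra
  have : IsScalarTower Γ(Z, Z₀) Γ(Y, V) Γ(X, X₂) := .of_algebraMap_eq' (by
    simp only [RingHom.algebraMap_toAlgebra]
    rw [← CommRingCat.hom_comp]
    exact congrArg CommRingCat.Hom.hom
      (Scheme.Hom.appLE_comp_appLE f g Z₀ V X₂ hVZ₀ hX₂V).symm)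
  have : Algebra.Etale Γ(Y, V) Γ(X, X₂) := RingHom.etale_algebraMap.mp hψ
  have : Algebra.Etale Γ(Z, Z₀) Γ(X, X₂) := RingHom.etale_algebraMap.mp hχ
  have hsurj : Function.Surjective (PrimeSpectrum.comap (algebraMap Γ(Y, V) Γ(X, X₂))) := by
    intro p
    obtain ⟨v, hv, rfl⟩ := exists_primeIdealOf_eq hV p
    obtain ⟨x₁, hx₁, rfl⟩ : v ∈ W := haW hv
    have hx₁X₂ : x₁ ∈ X₂ := by rw [hX₂eq]; exact ⟨hx₁, hv⟩
    exact ⟨hX₂.primeIdealOf ⟨x₁, hx₁X₂⟩,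
      IsAffineOpen.comap_primeIdealOf_appLE V hV X₂ hX₂ hX₂V hx₁X₂⟩
  have hEt : Algebra.Etale Γ(Z, Z₀) Γ(Y, V) := etale_of_etale_of_comap_surjective hsurj
  have hφ : RingHom.Etale (g.appLE Z₀ V hVZ₀).hom := RingHom.etale_algebraMap.mpr hEt
  -- back to schemes
  have hres : Etale (g.resLE Z₀ V hVZ₀) := by
    have : IsAffine (Z₀ : Scheme.{u}) := hZ₀
    have : IsAffine (V : Scheme.{u}) := hV
    rw [HasRingHomProperty.iff_of_isAffine (P := @Etale)]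
    have : (RingHom.toMorphismProperty RingHom.Etale).RespectsIso :=
      RingHom.toMorphismProperty_respectsIso_iff.mp RingHom.Etale.respectsIso
    exact (MorphismProperty.arrow_mk_iso_iff (RingHom.toMorphismProperty RingHom.Etale)
      (arrowResLEAppIso g Z₀ V hVZ₀)).mpr hφ
  rw [← Scheme.Hom.resLE_comp_ι g hVZ₀]
  infer_instance

end Groth.Agent.Lib.Helper61.EtaleSourceDescent
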