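import Mathlib
import Groth.Agent.Lib.Helper67.ExtendVal
import Groth.Agent.Lib.Helper61.ExtendCurve

/-!
Local version of S9701 (the proof body is helper67's proof of S9701, with the global finiteness
hypothesis replaced by the existence of an integral open neighbourhood of `x`), its locally Noetherian
corollary, and a general glueing lemma for local extensions of a morphism from a dense open.
-/

set_option autoImplicit false
set_option backward.isDefEq.respectTransparency.types false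

namespace Groth.Agent.Lib.Helper61.ExtendLocal

open AlgebraicGeometry CategoryTheory Limits
open Groth.Agent.Lib.Helper67.ExtendVal

universe u

/-- Core of S9701 (helper67): extension at a valuation-ring point with an integral open neighbourhood. -/
theorem exists_extension_of_integral_nhd {X Y S : Scheme.{u}} (p : X ⟶ S) (q : Y ⟶ S)
    [IsProper q] (x : X) (U : X.Opens) (f : (U : Scheme.{u}) ⟶ Y) (hf : f ≫ q = U.ι ≫ p)
    (hx : x ∈ closure (U : Set ↥X))
    (X₁ : X.Opens) (hxX₁ : x ∈ X₁) (hX₁int : IsIntegral (X₁ : Scheme.{u}))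
    (hdom : IsDomain (X.presheaf.stalk x)) (hval : @ValuationRing (X.presheaf.stalk x) _ hdom) :
    ∃ (U' : X.Opens) (hUU' : U ≤ U'), x ∈ U' ∧
      ∃ f' : (U' : Scheme.{u}) ⟶ Y, f' ≫ q = U'.ι ≫ p ∧ X.homOfLE hUU' ≫ f' = f := by
  haveI := hdom
  haveI := hval
  haveI := hX₁int
  have hX₁gen : ∀ y ∈ X₁, genPt x ⤳ y := by
    intro y hy
    -- generic point of X₁
    let η₁ : (X₁ : Scheme.{u}) := genericPoint (X₁ : Scheme.{u})
    have h1 : ∀ z : (X₁ : Scheme.{u}), η₁ ⤳ z := fun z => genericPoint_specializes z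
    have h2 : η₁.1 ⤳ x := by
      have := h1 ⟨x, hxX₁⟩
      exact (this.map continuous_subtype_val)
    have h3 : genPt x ⤳ η₁.1 := genPt_specializes_of_specializes x h2
    have h4 : η₁.1 ⤳ y := by
      have := h1 ⟨y, hy⟩
      exact (this.map continuous_subtype_val)
    exact h3.trans h4
  have hηx : genPt x ⤳ x := genPt_specializes x
  have hηX₁ : genPt x ∈ X₁ := hηx.mem_open X₁.isOpen hxX₁
  have hηU : genPt x ∈ U := by
    obtain ⟨y, hyX₁, hyU⟩ := mem_closure_iff.mp hx X₁ X₁.isOpen hxX₁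
    exact (hX₁gen y hyX₁).mem_open U.isOpen hyU
  -- the valuative square
  let K := FractionRing (X.presheaf.stalk x)
  let ιK : Spec (.of K) ⟶ Spec (.of (X.presheaf.stalk x)) :=
    Spec.map (CommRingCat.ofHom (algebraMap (X.presheaf.stalk x) K))
  let φ : Spec (.of (X.presheaf.stalk x)) ⟶ X := X.fromSpecStalk x
  have hpt : ∀ z : Spec (.of K), φ (ιK z) = genPt x := by
    intro z
    have : ιK z = (⟨⊥, Ideal.isPrime_bot⟩ : PrimeSpectrum (X.presheaf.stalk x)) := by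
      apply PrimeSpectrum.ext
      change Ideal.comap (algebraMap (X.presheaf.stalk x) K) z.asIdeal = ⊥
      have hz : z.asIdeal = ⊥ :=
        (Ideal.eq_bot_or_top z.asIdeal).resolve_right z.isPrime.ne_top
      rw [hz]
      exact Ideal.comap_bot_of_injective _ (IsFractionRing.injective (X.presheaf.stalk x) K)
    rw [this]; rfl
  have hrange : Set.range (ιK ≫ φ) ⊆ Set.range U.ι := by
    rintro _ ⟨z, rfl⟩
    rw [Scheme.Opens.range_ι, Scheme.Hom.comp_apply, hpt]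
    exact hηU
  let i₁ : Spec (.of K) ⟶ U := IsOpenImmersion.lift U.ι (ιK ≫ φ) hrange
  have hi₁ : i₁ ≫ U.ι = ιK ≫ φ := IsOpenImmersion.lift_fac _ _ _
  have sq : CommSq (i₁ ≫ f) ιK q (φ ≫ p) :=
    ⟨by rw [Category.assoc, hf, ← Category.assoc, hi₁, Category.assoc]⟩
  have hex : ValuativeCriterion.Existence q := by
    have : UniversallyClosed q := inferInstance
    rw [UniversallyClosed.eq_valuativeCriterion] at this
    exact this.1
  let VS : ValuativeCommSq q :=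
    { R := X.presheaf.stalk x, K := K, i₁ := i₁ ≫ f, i₂ := φ ≫ p, commSq := sq }
  obtain ⟨⟨w, hw1, hw2⟩⟩ := hex VS
  have hw1' : ιK ≫ w = i₁ ≫ f := hw1
  have hw2' : w ≫ q = X.fromSpecStalk x ≫ p := hw2
  -- spread out
  haveI : X.IsGermInjectiveAt x := by
    haveI : (X₁ : Scheme.{u}).IsGermInjectiveAt ⟨x, hxX₁⟩ := inferInstance
    exact (inferInstance : X.IsGermInjectiveAt (X₁.ι ⟨x, hxX₁⟩))
  obtain ⟨W, hxW, g, hg1, hg2⟩ := spread_out_of_isGermInjective' p q
    (w : Spec (X.presheaf.stalk x) ⟶ Y) hw2'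
  -- compare on `U ⊓ W'`
  set W' : X.Opens := W ⊓ X₁ with hW'
  have hxW' : x ∈ W' := ⟨hxW, hxX₁⟩
  let g' : (W' : Scheme.{u}) ⟶ Y := X.homOfLE (inf_le_left : W' ≤ W) ≫ g
  have hg'q : g' ≫ q = W'.ι ≫ p := by
    rw [Category.assoc, hg2, ← Category.assoc, Scheme.homOfLE_ι]
  haveI : IsReduced ((U ⊓ W' : X.Opens) : Scheme.{u}) :=
    isReduced_of_isOpenImmersion
      (X.homOfLE ((inf_le_right.trans inf_le_right : U ⊓ W' ≤ X₁)))
  have hηUW : genPt x ∈ U ⊓ W' :=
    ⟨hηU, hηx.mem_open W.isOpen hxW, hηX₁⟩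
  have hrange2 : Set.range (ιK ≫ φ) ⊆ Set.range (U ⊓ W').ι := by
    rintro _ ⟨z, rfl⟩
    rw [Scheme.Opens.range_ι, Scheme.Hom.comp_apply, hpt]
    exact hηUW
  let j : Spec (.of K) ⟶ (U ⊓ W' : X.Opens) := IsOpenImmersion.lift (U ⊓ W').ι (ιK ≫ φ) hrange2
  have hj : j ≫ (U ⊓ W').ι = ιK ≫ φ := IsOpenImmersion.lift_fac _ _ _
  haveI : IsDominant j := by
    constructor
    intro y
    let z₀ : Spec (.of K) := (⟨⊥, Ideal.isPrime_bot⟩ : PrimeSpectrum K)
    have h1 : j z₀ ⤳ y := by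
      rw [← (U ⊓ W').ι.isOpenEmbedding.isInducing.specializes_iff, ← Scheme.Hom.comp_apply, hj,
        Scheme.Hom.comp_apply, hpt]
      exact hX₁gen _ y.2.2.2
    have h2 : ({j z₀} : Set ↥((U ⊓ W' : X.Opens) : Scheme.{u})) ⊆ Set.range j := by
      rintro _ rfl
      exact ⟨z₀, rfl⟩
    exact closure_mono h2 (specializes_iff_mem_closure.mp h1)
  have hjU : j ≫ X.homOfLE (inf_le_left : U ⊓ W' ≤ U) = i₁ := by
    rw [← cancel_mono U.ι, Category.assoc, Scheme.homOfLE_ι, hj, hi₁]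
  have hjW : j ≫ X.homOfLE ((inf_le_right.trans inf_le_left : U ⊓ W' ≤ W)) =
      ιK ≫ W.fromSpecStalkOfMem x hxW := by
    rw [← cancel_mono W.ι, Category.assoc, Scheme.homOfLE_ι, hj, Category.assoc,
      Scheme.Opens.fromSpecStalkOfMem_ι]
  have hagree : X.homOfLE (inf_le_left : U ⊓ W' ≤ U) ≫ f =
      X.homOfLE (inf_le_right : U ⊓ W' ≤ W') ≫ g' := by
    refine ext_of_isDominant_of_isSeparated q ?_ j ?_
    · rw [Category.assoc, Category.assoc, hf, hg'q, ← Category.assoc, ← Category.assoc,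
        Scheme.homOfLE_ι, Scheme.homOfLE_ι]
    · rw [← Category.assoc, hjU, ← hw1']
      change _ = j ≫ X.homOfLE _ ≫ X.homOfLE _ ≫ g
      rw [Scheme.homOfLE_homOfLE_assoc, ← Category.assoc, hjW, Category.assoc, ← hg1]
  obtain ⟨U', h₁, h₂, f', hf'1, hf'2, hext⟩ := exists_glue₂ U W' f g' hagree
  refine ⟨U', h₁, h₂ hxW', f', ?_, hf'1⟩
  apply hext
  · rw [← Category.assoc, hf'1, hf, ← Category.assoc, Scheme.homOfLE_ι]
  · rw [← Category.assoc, hf'2, hg'q, ← Category.assoc, Scheme.homOfLE_ι]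

/-- S9701 on a locally Noetherian scheme (no global finiteness needed). -/
theorem exists_extension_of_isLocallyNoetherian {X Y S : Scheme.{u}} (p : X ⟶ S) (q : Y ⟶ S)
    [IsProper q] [IsLocallyNoetherian X] (x : X) (U : X.Opens) (f : (U : Scheme.{u}) ⟶ Y)
    (hf : f ≫ q = U.ι ≫ p) (hx : x ∈ closure (U : Set ↥X))
    (hdom : IsDomain (X.presheaf.stalk x)) (hval : @ValuationRing (X.presheaf.stalk x) _ hdom) :
    ∃ (U' : X.Opens) (hUU' : U ≤ U'), x ∈ U' ∧
      ∃ f' : (U' : Scheme.{u}) ⟶ Y, f' ≫ q = U'.ι ≫ p ∧ X.homOfLE hUU' ≫ f' = f := by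
  haveI := hdom
  obtain ⟨W, hxW, hWaff, hinj⟩ := X.exists_germ_injective x
  haveI : IsAffine (W : Scheme.{u}) := hWaff
  haveI : Nonempty (W : Scheme.{u}) := ⟨⟨x, hxW⟩⟩
  haveI : IsDomain Γ(X, W) := hinj.isDomain (X.presheaf.germ W x hxW).hom
  haveI : IsDomain Γ((W : Scheme.{u}), ⊤) :=
    (ConcreteCategory.bijective_of_isIso W.topIso.hom).1.isDomain W.topIso.hom.hom
  have hint : IsIntegral (W : Scheme.{u}) := isIntegral_of_isAffine_of_isDomain _
  exact exists_extension_of_integral_nhd p q x U f hf hx W hxW hint hdom hval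

/-- helper67's `exists_glue`, for an index type in any universe. -/
lemma exists_glue' {X Y : Scheme.{u}} {J : Type*} (U : J → X.Opens)
    (f : ∀ j, ((U j : X.Opens) : Scheme.{u}) ⟶ Y)
    (h : ∀ i j, X.homOfLE (inf_le_left : U i ⊓ U j ≤ U i) ≫ f i =
      X.homOfLE (inf_le_right : U i ⊓ U j ≤ U j) ≫ f j) :
    ∃ f' : ((⨆ j, U j : X.Opens) : Scheme.{u}) ⟶ Y, ∀ j, X.homOfLE (le_iSup U j) ≫ f' = f j := by
  refine ⟨(Scheme.Opens.iSupOpenCover U).glueMorphisms f ?_, fun j =>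
    (Scheme.Opens.iSupOpenCover U).ι_glueMorphisms f _ j⟩
  intro i j
  have hpb := isPullback_opens_inf_le (le_iSup U i) (le_iSup U j)
  change pullback.fst (X.homOfLE (le_iSup U i)) (X.homOfLE (le_iSup U j)) ≫ f i =
    pullback.snd (X.homOfLE (le_iSup U i)) (X.homOfLE (le_iSup U j)) ≫ f j
  rw [← hpb.isoPullback_inv_fst, ← hpb.isoPullback_inv_snd, Category.assoc, Category.assoc, h i j]

open Groth.Agent.Lib.Helper61.ExtendCurve in
/-- Glue local extensions (of a morphism given on a dense open of a reduced scheme, into a separated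
`S`-scheme) at all points of a set `T`. -/
theorem exists_extension_of_forall_local {X Y S : Scheme.{u}} (p : X ⟶ S) (q : Y ⟶ S)
    [IsSeparated q] [IsReduced X] (U : X.Opens) (hU : Dense (U : Set X))
    (g : (U : Scheme.{u}) ⟶ Y) (hg : g ≫ q = U.ι ≫ p) (T : Set X)
    (hloc : ∀ x ∈ T, ∃ (U' : X.Opens) (hUU' : U ≤ U'), x ∈ U' ∧
      ∃ f' : (U' : Scheme.{u}) ⟶ Y, f' ≫ q = U'.ι ≫ p ∧ X.homOfLE hUU' ≫ f' = g) :
    ∃ (U'' : X.Opens) (hUU'' : U ≤ U'') (g' : (U'' : Scheme.{u}) ⟶ Y),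
      g' ≫ q = U''.ι ≫ p ∧ X.homOfLE hUU'' ≫ g' = g ∧ T ⊆ (U'' : Set X) := by
  classical
  have hloc' : ∀ x : X, ∃ (U' : X.Opens) (hUU' : U ≤ U'), (x ∈ T → x ∈ U') ∧
      ∃ f' : (U' : Scheme.{u}) ⟶ Y, f' ≫ q = U'.ι ≫ p ∧ X.homOfLE hUU' ≫ f' = g := by
    intro x
    by_cases hxT : x ∈ T
    · obtain ⟨U', h1, h2, f', h3, h4⟩ := hloc x hxT
      exact ⟨U', h1, fun _ => h2, f', h3, h4⟩
    · exact ⟨U, le_rfl, fun h => absurd h hxT, g, hg, by simp⟩
  choose U' hUU' hxU' f' hf'q hf'g using hloc'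
  have hagree : ∀ x y : X, X.homOfLE (inf_le_left : U' x ⊓ U' y ≤ U' x) ≫ f' x =
      X.homOfLE (inf_le_right : U' x ⊓ U' y ≤ U' y) ≫ f' y := by
    intro x y
    have hle : U ≤ U' x ⊓ U' y := le_inf (hUU' x) (hUU' y)
    haveI : IsDominant (X.homOfLE hle) := isDominant_homOfLE hle hU
    haveI : IsReduced ((U' x ⊓ U' y : X.Opens) : Scheme.{u}) :=
      isReduced_of_isOpenImmersion (U' x ⊓ U' y).ι
    refine ext_of_isDominant_of_isSeparated q ?_ (X.homOfLE hle) ?_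
    · rw [Category.assoc, Category.assoc, hf'q, hf'q]; simp
    · rw [← Category.assoc, ← Category.assoc, X.homOfLE_homOfLE, X.homOfLE_homOfLE, hf'g, hf'g]
  obtain ⟨G, hG⟩ := exists_glue' U' f' hagree
  have hUle : U ≤ ⨆ x, U' x := by
    intro z hz
    exact TopologicalSpace.Opens.mem_iSup.mpr ⟨z, hUU' z hz⟩
  refine ⟨⨆ x, U' x, hUle, G, ?_, ?_, ?_⟩
  · refine (Scheme.Opens.iSupOpenCover U').hom_ext _ _ fun x => ?_
    have h1 : X.homOfLE (le_iSup U' x) ≫ G ≫ q = X.homOfLE (le_iSup U' x) ≫ (⨆ x, U' x).ι ≫ p := by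
      rw [← Category.assoc, hG x, hf'q x, ← Category.assoc, X.homOfLE_ι]
    exact h1
  · rcases isEmpty_or_nonempty X with hE | ⟨⟨x⟩⟩
    · haveI : IsEmpty (U : Scheme.{u}) := ⟨fun z => hE.false z.1⟩
      exact (isInitialOfIsEmpty (X := (U : Scheme.{u}))).hom_ext _ _
    · rw [← X.homOfLE_homOfLE (hUU' x) (le_iSup U' x), Category.assoc, hG x, hf'g x]
  · intro x hx
    exact TopologicalSpace.Opens.mem_iSup.mpr ⟨x, hxU' x hx⟩

end Groth.Agent.Lib.Helper61.ExtendLocal
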