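import Groth.Prelude.Def_SymProd
import Groth.Agent.Lib.Helper79.QuotGlueF
import Groth.Agent.Lib.Helper79.QuotAffineExists
import Groth.Agent.Lib.Helper79.QuotTransport
import Groth.Agent.S13606
import Groth.Agent.S2925

/-!
# Affine opens of fibre powers and of quotients by finite groups (helper61)

* `isAffineOpen_fibPow` : for `U ≤ f⁻¹V` affine opens, the open `{y | b y ∈ V ∧ ∀ i, π_i y ∈ U}`
  of `SymProd.fibPow f d` is affine (it is the wide pullback of `U → V`).
* `isAffineOpen_of_isQuot` : for a quotient `p : X ⟶ Y` by a finite group, an open `W'` of `Y`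
  with affine preimage is affine.
-/

set_option autoImplicit false
universe u
open CategoryTheory CategoryTheory.Limits AlgebraicGeometry
open SymProd

namespace Groth.Agent.Lib.Helper61.FibPowAffine

theorem isAffineOpen_fibPow {X S : Scheme.{u}} (f : X ⟶ S) (d : ℕ)
    (V : S.Opens) (hV : IsAffineOpen V) (U' : X.Opens) (hU' : IsAffineOpen U')
    (hgW : U' ≤ f ⁻¹ᵁ V) (O : (fibPow f d).Opens)
    (hO : ∀ y, y ∈ O ↔ ((WidePullback.base (fun _ : Fin d => f)).base y ∈ V ∧
      ∀ i, (WidePullback.π (fun _ : Fin d => f) i).base y ∈ U')) :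
    IsAffineOpen O := by
  let b : fibPow f d ⟶ S := WidePullback.base _
  let π : ∀ i : Fin d, fibPow f d ⟶ X := fun i => WidePullback.π _ i
  have hπb : ∀ i, π i ≫ f = b := fun i => WidePullback.π_arrow _ i
  let f' : U'.toScheme ⟶ V.toScheme := f.resLE V U' hgW
  have hf' : f' ≫ V.ι = U'.ι ≫ f := f.resLE_comp_ι hgW
  let Q : Scheme.{u} := widePullback V.toScheme (fun _ : Fin d => U'.toScheme) (fun _ => f')
  have hQ : IsAffine Q := by
    have : ∀ j, IsAffine ((WidePullbackShape.wideCospan V.toScheme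
        (fun _ : Fin d => U'.toScheme) (fun _ => f')).obj j) := by
      rintro (_ | i)
      · exact hV
      · exact hU'
    exact Scheme.isAffine_of_isLimit _ (limit.isLimit _)
  let b' : Q ⟶ V.toScheme := WidePullback.base _
  let π' : ∀ i : Fin d, Q ⟶ U'.toScheme := fun i => WidePullback.π _ i
  have hπb' : ∀ i, π' i ≫ f' = b' := fun i => WidePullback.π_arrow _ i
  let j : Q ⟶ fibPow f d := WidePullback.lift (b' ≫ V.ι) (fun i => π' i ≫ U'.ι) (by
    intro i
    rw [Category.assoc, ← hf', ← Category.assoc, hπb'])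
  have hjπ : ∀ i, j ≫ π i = π' i ≫ U'.ι := fun i => WidePullback.lift_π _ _ _ _ i
  have hjb : j ≫ b = b' ≫ V.ι := WidePullback.lift_base _ _ _ _
  have hjO : Set.range j.base ⊆ Set.range O.ι.base := by
    rintro _ ⟨q, rfl⟩
    rw [Scheme.Opens.range_ι]
    change j.base q ∈ O
    rw [hO]
    constructor
    · change b.base (j.base q) ∈ V
      rw [← Scheme.Hom.comp_apply, hjb, Scheme.Hom.comp_apply]
      exact (b'.base q).2
    · intro i
      change (π i).base (j.base q) ∈ U'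
      rw [← Scheme.Hom.comp_apply, hjπ, Scheme.Hom.comp_apply]
      exact ((π' i).base q).2
  let j' : Q ⟶ O.toScheme := IsOpenImmersion.lift O.ι j hjO
  have hj' : j' ≫ O.ι = j := IsOpenImmersion.lift_fac _ _ _
  have hkV : Set.range (O.ι ≫ b).base ⊆ Set.range V.ι.base := by
    rintro _ ⟨y, rfl⟩
    rw [Scheme.Opens.range_ι]
    exact ((hO _).1 y.2).1
  have hkU : ∀ i, Set.range (O.ι ≫ π i).base ⊆ Set.range U'.ι.base := by
    intro i
    rintro _ ⟨y, rfl⟩
    rw [Scheme.Opens.range_ι]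
    exact ((hO _).1 y.2).2 i
  let kV : O.toScheme ⟶ V.toScheme := IsOpenImmersion.lift V.ι (O.ι ≫ b) hkV
  let kU : ∀ i, O.toScheme ⟶ U'.toScheme := fun i =>
    IsOpenImmersion.lift U'.ι (O.ι ≫ π i) (hkU i)
  have hkVf : kV ≫ V.ι = O.ι ≫ b := IsOpenImmersion.lift_fac _ _ _
  have hkUf : ∀ i, kU i ≫ U'.ι = O.ι ≫ π i := fun i => IsOpenImmersion.lift_fac _ _ _
  let k : O.toScheme ⟶ Q := WidePullback.lift kV kU (by
    intro i
    rw [← cancel_mono V.ι, Category.assoc, hf', ← Category.assoc, hkUf, Category.assoc, hπb i,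
      hkVf])
  have hkπ : ∀ i, k ≫ π' i = kU i := fun i => WidePullback.lift_π _ _ _ _ i
  have hkb : k ≫ b' = kV := WidePullback.lift_base _ _ _ _
  have h1 : k ≫ j' = 𝟙 _ := by
    rw [← cancel_mono O.ι, Category.assoc, hj', Category.id_comp]
    apply WidePullback.hom_ext
    · intro i
      change (k ≫ j) ≫ π i = O.ι ≫ π i
      rw [Category.assoc, hjπ, ← Category.assoc, hkπ, hkUf]
    · change (k ≫ j) ≫ b = O.ι ≫ b
      rw [Category.assoc, hjb, ← Category.assoc, hkb, hkVf]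
  have h2 : j' ≫ k = 𝟙 _ := by
    apply WidePullback.hom_ext
    · intro i
      change (j' ≫ k) ≫ π' i = 𝟙 _ ≫ π' i
      rw [Category.assoc, hkπ, Category.id_comp, ← cancel_mono U'.ι, Category.assoc, hkUf,
        ← Category.assoc, hj', hjπ]
    · change (j' ≫ k) ≫ b' = 𝟙 _ ≫ b'
      rw [Category.assoc, hkb, Category.id_comp, ← cancel_mono V.ι, Category.assoc, hkVf,
        ← Category.assoc, hj', hjb]
  have : IsIso k := ⟨j', h1, h2⟩
  exact IsAffine.of_isIso k

open Groth.Agent.Lib.Helper79.RestrictAut in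
/-- For a quotient `p : X ⟶ Y` by a finite group, an open of `Y` with affine preimage is
affine. -/
theorem isAffineOpen_of_isQuot {X Y : Scheme.{u}} {G : Type u} [Group G] [Finite G]
    (ρ : G →* Aut X) (p : X ⟶ Y) (hp : SGA1.IsQuot ρ p) (W' : Y.Opens)
    (hW : IsAffineOpen (p ⁻¹ᵁ W')) : IsAffineOpen W' := by
  have hstab : ∀ (g : G) (x : X), x ∈ p ⁻¹ᵁ W' → (ρ g).hom.base x ∈ p ⁻¹ᵁ W' := by
    intro g x hx
    show p.base ((ρ g).hom.base x) ∈ W'
    rw [← Scheme.Hom.comp_apply, hp.inv g]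
    exact hx
  have hQ : SGA1.IsQuot (restrictAut ρ (p ⁻¹ᵁ W') hstab) (p ∣_ W') :=
    Groth.Agent.S13606.result ρ p hp W' _ (restrictAut_ι ρ (p ⁻¹ᵁ W') hstab)
  haveI : IsAffine (p ⁻¹ᵁ W').toScheme := hW
  obtain ⟨Q, q₀, hQaff, hq₀⟩ :=
    Groth.Agent.Lib.Helper79.QuotAffineExists.exists_isQuot_of_isAffine (p ⁻¹ᵁ W').toScheme
      (restrictAut ρ (p ⁻¹ᵁ W') hstab)
  obtain ⟨h, hh, -⟩ := Groth.Agent.S2925.result _ q₀ hq₀ _ (p ∣_ W') hQ.inv
  have : IsIso h :=
    Groth.Agent.Lib.Helper79.QuotTransport.isIso_of_isQuot _ q₀ hq₀ _ hQ h hh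
  exact IsAffine.of_isIso (inv h)

end Groth.Agent.Lib.Helper61.FibPowAffine
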