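import Mathlib

/-!
# helper61: a function non-vanishing on a fibre of an integral map

`exists_mem_span_forall_notMem_of_integral`: let `ρ : A → C` be a ring map, `C` integral over `B`,
`𝔭` a prime of `B`, `S ⊆ A` such that the `ρ a`, `a ∈ S`, have no common zero on `Spec C` and such that
`C_{ρ a}` is a localisation of `A` for `a ∈ S` (`∀ c, ∃ N a', ρ a' = c * ρ a ^ N`). Then some element
of the ideal spanned by `S` vanishes at no prime of `C` lying over `𝔭`.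
-/

namespace Groth.Agent.Lib.Helper61.FibreAvoid

theorem exists_mem_span_forall_notMem_of_integral {A B C : Type*} [CommRing A] [CommRing B]
    [CommRing C] [Algebra B C] [Algebra.IsIntegral B C] (ρ : A →+* C) (𝔭 : Ideal B) [h𝔭 : 𝔭.IsPrime]
    (S : Set A) (h1 : ∀ 𝔮 : Ideal C, 𝔮.IsPrime → ∃ a ∈ S, ρ a ∉ 𝔮)
    (h2 : ∀ a ∈ S, ∀ c : C, ∃ (N : ℕ) (a' : A), ρ a' = c * ρ a ^ N) :
    ∃ a ∈ Ideal.span S, ∀ 𝔮 : Ideal C, 𝔮.IsPrime → 𝔮.comap (algebraMap B C) = 𝔭 → ρ a ∉ 𝔮 := by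
  classical
  have htop : Ideal.span (ρ '' S) = ⊤ := by
    by_contra hne
    obtain ⟨𝔪, hm, hle⟩ := Ideal.exists_le_maximal _ hne
    obtain ⟨a, haS, ha⟩ := h1 𝔪 hm.isPrime
    exact ha (hle (Ideal.subset_span ⟨a, haS, rfl⟩))
  have h1mem : (1 : C) ∈ Ideal.span (ρ '' S) := by
    rw [htop]
    trivial
  obtain ⟨T, hTS, hT1⟩ := Submodule.mem_span_finite_of_mem_span h1mem
  let C₀ : Subalgebra B C := Algebra.adjoin B (T : Set C)
  have : Module.Finite B C₀ := Algebra.finite_adjoin_of_finite_of_isIntegral T.finite_toSet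
    (fun x _ => Algebra.IsIntegral.isIntegral x)
  have : Algebra.IsIntegral C₀ C := Algebra.IsIntegral.tower_top (R := B)
  have key : ∀ t : Ideal C₀, t.IsPrime → ∃ a ∈ S, ∃ c : C₀, (c : C) = ρ a ∧ c ∉ t := by
    intro t ht
    obtain ⟨𝔮, -, h𝔮, h𝔮t⟩ := Ideal.exists_ideal_over_prime_of_isIntegral t (⊥ : Ideal C) (by
      rw [← RingHom.ker_eq_comap_bot,
        (RingHom.injective_iff_ker_eq_bot (algebraMap C₀ C)).1 Subtype.val_injective]
      exact bot_le)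
    have hns : ¬ ((T : Set C) ⊆ 𝔮) := fun hsub =>
      h𝔮.ne_top ((Ideal.eq_top_iff_one _).2 (Ideal.span_le.2 hsub hT1))
    obtain ⟨c, hcT, hc𝔮⟩ := Set.not_subset.1 hns
    obtain ⟨a, haS, rfl⟩ := hTS hcT
    refine ⟨a, haS, ⟨ρ a, Algebra.subset_adjoin hcT⟩, rfl, ?_⟩
    intro hmem
    apply hc𝔮
    have h3 : (⟨ρ a, Algebra.subset_adjoin hcT⟩ : C₀) ∈ 𝔮.comap (algebraMap C₀ C) := by
      rw [h𝔮t]
      exact hmem
    exact h3
  have hfin := Algebra.QuasiFinite.finite_comap_preimage_singleton (R := B) (S := C₀) ⟨𝔭, h𝔭⟩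
  set T₀ := hfin.toFinset with hT₀
  have hmemT₀ : ∀ t : PrimeSpectrum C₀, t ∈ T₀ ↔ t.asIdeal.comap (algebraMap B C₀) = 𝔭 := by
    intro t
    rw [hT₀, Set.Finite.mem_toFinset]
    constructor
    · intro h
      exact congrArg PrimeSpectrum.asIdeal h
    · intro h
      exact PrimeSpectrum.ext h
  have data : ∀ t : PrimeSpectrum C₀, t ∈ T₀ → ∃ a' a : A, a ∈ S ∧ ∃ u : C₀,
      (u : C) = ρ (a' * a) ∧ u ∉ t.asIdeal ∧ ∀ t' ∈ T₀, t' ≠ t → u ∈ t'.asIdeal := by
    intro t ht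
    obtain ⟨a, haS, c, hc, hct⟩ := key t.asIdeal t.isPrime
    have hI : ¬ ((T₀.erase t).inf PrimeSpectrum.asIdeal ≤ t.asIdeal) := by
      intro hle
      obtain ⟨t', ht', hle'⟩ := (Ideal.IsPrime.inf_le' t.isPrime).1 hle
      have hne : t' ≠ t := Finset.ne_of_mem_erase ht'
      have ht'T : t' ∈ T₀ := Finset.mem_of_mem_erase ht'
      have hlt : t'.asIdeal < t.asIdeal := lt_of_le_of_ne hle' (fun h => hne (PrimeSpectrum.ext h))
      have := Ideal.IsIntegral.comap_lt_comap (R := B) hlt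
      rw [(hmemT₀ t').1 ht'T, (hmemT₀ t).1 ht] at this
      exact lt_irrefl _ this
    obtain ⟨e, heI, het⟩ := Set.not_subset.1 hI
    obtain ⟨N, a', ha'⟩ := h2 a haS (e : C)
    refine ⟨a', a, haS, e * c ^ (N + 1), ?_, ?_, ?_⟩
    · rw [map_mul, ha']
      push_cast
      rw [hc]
      ring
    · intro hmem
      rcases t.isPrime.mem_or_mem hmem with h | h
      · exact het h
      · exact hct (t.isPrime.mem_of_pow_mem _ h)
    · intro t' ht' hne
      apply Ideal.mul_mem_right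
      have : (T₀.erase t).inf PrimeSpectrum.asIdeal ≤ t'.asIdeal :=
        Finset.inf_le (Finset.mem_erase.2 ⟨hne, ht'⟩)
      exact this heI
  choose! a' a haS u hu hut hut' using data
  refine ⟨∑ t ∈ T₀, a' t * a t, ?_, ?_⟩
  · refine Ideal.sum_mem _ fun t ht => ?_
    exact Ideal.mul_mem_left _ _ (Ideal.subset_span (haS t ht))
  · intro 𝔮 h𝔮 h𝔮𝔭 hmem
    let t : PrimeSpectrum C₀ := ⟨𝔮.comap (algebraMap C₀ C), Ideal.IsPrime.comap _⟩
    have ht : t ∈ T₀ := by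
      rw [hmemT₀]
      change (𝔮.comap (algebraMap C₀ C)).comap (algebraMap B C₀) = 𝔭
      rw [Ideal.comap_comap, ← IsScalarTower.algebraMap_eq, h𝔮𝔭]
    have hsum : ((∑ t' ∈ T₀, u t' : C₀) : C) = ρ (∑ t' ∈ T₀, a' t' * a t') := by
      rw [map_sum]
      push_cast
      exact Finset.sum_congr rfl fun t' ht' => hu t' ht'
    have hU : (∑ t' ∈ T₀, u t' : C₀) ∈ t.asIdeal := by
      change ((∑ t' ∈ T₀, u t' : C₀) : C) ∈ 𝔮
      rw [hsum]
      exact hmem
    rw [← Finset.add_sum_erase T₀ u ht] at hU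
    have hrest : ∑ t' ∈ T₀.erase t, u t' ∈ t.asIdeal := by
      refine Ideal.sum_mem _ fun t' ht' => ?_
      have h3 := hut' t' (Finset.mem_of_mem_erase ht') t ht (Finset.ne_of_mem_erase ht').symm
      exact h3
    exact hut t ht ((Ideal.add_mem_iff_left _ hrest).1 hU)

end Groth.Agent.Lib.Helper61.FibreAvoid
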