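import Mathlib.RingTheory.Unramified.Basic
import Mathlib.RingTheory.Smooth.Basic
import Mathlib.RingTheory.Etale.Basic
import Mathlib.RingTheory.Flat.EquationalCriterion
import Mathlib.RingTheory.Ideal.IdempotentFG
import Mathlib.RingTheory.Idempotents
import Mathlib.RingTheory.Flat.Stability

/-!
# Flat unramified algebras of finite type are formally étale (helper61)
-/

set_option autoImplicit false
universe u

namespace Groth.Agent.Lib.Helper61.FlatUnram

open TensorProduct

section LemmaR

variable {C : Type u} [CommRing C] {D : Type u} [CommRing D] [Algebra C D]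

/-- Step 2: `ker φ ≤ (ker φ)² ⊔ J D` for a formally unramified algebra with a retraction mod `J`. -/
theorem ker_le_sq_sup [Algebra.FormallyUnramified C D] (J : Ideal C)
    (φ : D →ₐ[C] C ⧸ J) :
    RingHom.ker φ ≤ (RingHom.ker φ) ^ 2 ⊔ J.map (algebraMap C D) := by
  classical
  set K := RingHom.ker φ with hK
  set L : Ideal D := K ^ 2 ⊔ J.map (algebraMap C D) with hL
  have hJK : J.map (algebraMap C D) ≤ K := by
    rw [Ideal.map_le_iff_le_comap]
    intro j hj
    simp only [Ideal.mem_comap, hK, RingHom.mem_ker]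
    rw [AlgHom.commutes, Ideal.Quotient.algebraMap_eq, Ideal.Quotient.eq_zero_iff_mem]
    exact hj
  have hLK : L ≤ K := sup_le (Ideal.pow_le_self two_ne_zero) hJK
  -- the two maps
  let Q := D ⧸ L
  let q : D →ₐ[C] Q := Ideal.Quotient.mkₐ C L
  let s : C ⧸ J →ₐ[C] Q := Ideal.Quotient.liftₐ J (Algebra.ofId C Q) (by
    intro j hj
    show algebraMap C Q j = 0
    rw [IsScalarTower.algebraMap_apply C D Q, Ideal.Quotient.algebraMap_eq,
      Ideal.Quotient.eq_zero_iff_mem]
    exact (le_sup_right : J.map (algebraMap C D) ≤ L) (Ideal.mem_map_of_mem _ hj))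
  let I : Ideal Q := K.map (Ideal.Quotient.mk L)
  have hI : I ^ 2 = ⊥ := by
    rw [← Ideal.map_pow, Ideal.map_eq_bot_iff_le_ker, Ideal.mk_ker]
    exact le_sup_left
  have hagree : (Ideal.Quotient.mkₐ C I).comp q = (Ideal.Quotient.mkₐ C I).comp (s.comp φ) := by
    ext d
    obtain ⟨c, hc⟩ := Ideal.Quotient.mk_surjective (φ d)
    simp only [AlgHom.comp_apply, Ideal.Quotient.mkₐ_eq_mk]
    rw [Ideal.Quotient.eq]
    have h1 : s (φ d) = q (algebraMap C D c) := by
      rw [← hc, ← Ideal.Quotient.algebraMap_eq, s.commutes, q.commutes]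
    rw [h1, ← map_sub]
    apply Ideal.mem_map_of_mem
    simp only [hK, RingHom.mem_ker, map_sub, AlgHom.commutes, Ideal.Quotient.algebraMap_eq, hc,
      sub_self]
  have heq := Algebra.FormallyUnramified.comp_injective I hI hagree
  intro k hk
  have h2 : q k = s (φ k) := by rw [heq]; rfl
  rw [show φ k = 0 from hk, map_zero] at h2
  exact Ideal.Quotient.eq_zero_iff_mem.mp h2

theorem map_le_ker (J : Ideal C) (φ : D →ₐ[C] C ⧸ J) :
    J.map (algebraMap C D) ≤ RingHom.ker φ := by
  rw [Ideal.map_le_iff_le_comap]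
  intro j hj
  simp only [Ideal.mem_comap, RingHom.mem_ker]
  rw [AlgHom.commutes, Ideal.Quotient.algebraMap_eq, Ideal.Quotient.eq_zero_iff_mem]
  exact hj

/-- Step 3: modulo `J D` the kernel of the retraction is finitely generated. -/
theorem exists_finset_ker_eq [Algebra.FiniteType C D] (J : Ideal C) (φ : D →ₐ[C] C ⧸ J) :
    ∃ F : Finset D, RingHom.ker φ = Ideal.span (F : Set D) ⊔ J.map (algebraMap C D) := by
  classical
  obtain ⟨t, ht⟩ := (Algebra.FiniteType.out : (⊤ : Subalgebra C D).FG)
  let c : D → C := fun d => Function.surjInv Ideal.Quotient.mk_surjective (φ d)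
  have hc : ∀ d, Ideal.Quotient.mk J (c d) = φ d := fun d =>
    Function.surjInv_eq Ideal.Quotient.mk_surjective (φ d)
  let g : D → D := fun d => d - algebraMap C D (c d)
  have hg : ∀ d, g d ∈ RingHom.ker φ := by
    intro d
    simp only [g, RingHom.mem_ker, map_sub, AlgHom.commutes, Ideal.Quotient.algebraMap_eq, hc,
      sub_self]
  refine ⟨t.image g, ?_⟩
  set K' : Ideal D := Ideal.span ((t.image g : Finset D) : Set D) ⊔ J.map (algebraMap C D) with hK'
  have hK'K : K' ≤ RingHom.ker φ := by
    refine sup_le ?_ (map_le_ker J φ)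
    rw [Ideal.span_le]
    intro x hx
    simp only [Finset.coe_image, Set.mem_image] at hx
    obtain ⟨d, -, rfl⟩ := hx
    exact hg d
  refine le_antisymm ?_ hK'K
  -- the subalgebra of elements congruent to a scalar mod K'
  let S : Subalgebra C D :=
    { carrier := {x | ∃ a : C, x - algebraMap C D a ∈ K'}
      mul_mem' := by
        rintro x y ⟨a, ha⟩ ⟨b, hb⟩
        refine ⟨a * b, ?_⟩
        have : x * y - algebraMap C D (a * b) =
            x * (y - algebraMap C D b) + algebraMap C D b * (x - algebraMap C D a) := by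
          rw [map_mul]; ring
        rw [this]
        exact K'.add_mem (K'.mul_mem_left _ hb) (K'.mul_mem_left _ ha)
      add_mem' := by
        rintro x y ⟨a, ha⟩ ⟨b, hb⟩
        refine ⟨a + b, ?_⟩
        have : x + y - algebraMap C D (a + b) =
            (x - algebraMap C D a) + (y - algebraMap C D b) := by
          rw [map_add]; ring
        rw [this]
        exact K'.add_mem ha hb
      algebraMap_mem' := fun a => ⟨a, by simp⟩ }
  have hS : (⊤ : Subalgebra C D) ≤ S := by
    rw [← ht]
    refine Algebra.adjoin_le ?_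
    intro d hd
    refine ⟨c d, ?_⟩
    refine (le_sup_left : Ideal.span _ ≤ K') (Ideal.subset_span ?_)
    simp only [Finset.coe_image, Set.mem_image]
    exact ⟨d, hd, rfl⟩
  intro x hx
  obtain ⟨a, ha⟩ := hS (Algebra.mem_top : x ∈ (⊤ : Subalgebra C D))
  have h1 : algebraMap C D a ∈ RingHom.ker φ := by
    have := (RingHom.ker φ).sub_mem hx (hK'K ha)
    simpa using this
  have h2 : a ∈ J := by
    rw [RingHom.mem_ker, AlgHom.commutes, Ideal.Quotient.algebraMap_eq,
      Ideal.Quotient.eq_zero_iff_mem] at h1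
    exact h1
  have h3 : algebraMap C D a ∈ K' :=
    (le_sup_right : J.map (algebraMap C D) ≤ K') (Ideal.mem_map_of_mem _ h2)
  have := K'.add_mem ha h3
  simpa using this

/-- Steps 4-6: an idempotent cutting out the retraction. -/
theorem exists_idempotent [Algebra.FiniteType C D] [Algebra.FormallyUnramified C D]
    (J : Ideal C) (hJ : J ^ 2 = ⊥) (φ : D →ₐ[C] C ⧸ J) :
    ∃ e : D, IsIdempotentElem e ∧ e ∈ RingHom.ker φ ∧
      RingHom.ker φ ≤ Ideal.span {e} ⊔ J.map (algebraMap C D) := by
  classical
  set K := RingHom.ker φ with hK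
  set JD := J.map (algebraMap C D) with hJD
  have hJDK : JD ≤ K := map_le_ker J φ
  let π : D →+* D ⧸ JD := Ideal.Quotient.mk JD
  have hπ : Function.Surjective π := Ideal.Quotient.mk_surjective
  obtain ⟨F, hF⟩ := exists_finset_ker_eq J φ
  have hself : JD.map π = ⊥ := Ideal.map_quotient_self JD
  have hfg : (K.map π).FG := by
    rw [hK, hF, Ideal.map_sup, hself, sup_bot_eq, Ideal.map_span]
    exact ⟨F.image π, by simp⟩
  have hidem : IsIdempotentElem (K.map π) := by
    show K.map π * K.map π = K.map π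
    refine le_antisymm Ideal.mul_le_right ?_
    have h1 : K.map π ≤ (K ^ 2 ⊔ JD).map π := Ideal.map_mono (ker_le_sq_sup J φ)
    rw [Ideal.map_sup, hself, sup_bot_eq, Ideal.map_pow, pow_two] at h1
    exact h1
  obtain ⟨f₀, hf₀, hKf⟩ := (Ideal.isIdempotentElem_iff_of_fg _ hfg).mp hidem
  have hnil : ∀ x ∈ RingHom.ker π, IsNilpotent x := by
    intro x hx
    rw [Ideal.mk_ker] at hx
    refine ⟨2, ?_⟩
    have : x ^ 2 ∈ JD ^ 2 := Ideal.pow_mem_pow hx 2
    rw [hJD, ← Ideal.map_pow, hJ, Ideal.map_bot] at this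
    exact this
  obtain ⟨e, he, hef⟩ := exists_isIdempotentElem_eq_of_ker_isNilpotent π hnil f₀
    (hπ f₀ |>.imp fun _ h => h) hf₀
  have heK : e ∈ K := by
    have h1 : π e ∈ K.map π := by
      rw [hef, hKf]; exact Ideal.mem_span_singleton_self f₀
    obtain ⟨k, hk, hke⟩ := (Ideal.mem_map_iff_of_surjective π hπ).mp h1
    have h2 : k - e ∈ JD := by
      rw [← Ideal.Quotient.eq]; exact hke
    have := K.sub_mem hk (hJDK h2)
    simpa using this
  refine ⟨e, he, heK, ?_⟩
  intro k hk
  have h1 : π k ∈ Ideal.span {f₀} := by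
    have := Ideal.mem_map_of_mem π hk
    rw [hKf] at this; exact this
  obtain ⟨a₀, ha₀⟩ := Ideal.mem_span_singleton'.mp h1
  obtain ⟨a, rfl⟩ := hπ a₀
  have h2 : k - a * e ∈ JD := by
    rw [← Ideal.Quotient.eq, map_mul, hef]; exact ha₀.symm
  have h3 : a * e ∈ Ideal.span {e} := Ideal.mem_span_singleton'.mpr ⟨a, rfl⟩
  have : k = a * e + (k - a * e) := by ring
  rw [this]
  exact Ideal.add_mem _ (Ideal.mem_sup_left h3) (Ideal.mem_sup_right h2)

/-- Lemma R: a flat unramified algebra of finite type lifts retractions along square-zero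
ideals of the base. -/
theorem exists_lift_of_flat [Module.Flat C D] [Algebra.FiniteType C D]
    [Algebra.FormallyUnramified C D] (J : Ideal C) (hJ : J ^ 2 = ⊥) (φ : D →ₐ[C] C ⧸ J) :
    ∃ ψ : D →ₐ[C] C, (Ideal.Quotient.mkₐ C J).comp ψ = φ := by
  classical
  obtain ⟨e, he, heK, hKe⟩ := exists_idempotent J hJ φ
  set E : Ideal D := Ideal.span {e} with hE
  have hEK : E ≤ RingHom.ker φ := by
    rw [hE, Ideal.span_le]; intro x hx; rw [Set.mem_singleton_iff] at hx; subst hx; exact heK
  let N := D ⧸ E
  let r : D →ₐ[C] N := Ideal.Quotient.mkₐ C E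
  have hr : Function.Surjective r := Ideal.Quotient.mkₐ_surjective C E
  let θ : N →ₐ[C] C ⧸ J := Ideal.Quotient.liftₐ E φ (fun x hx => hEK hx)
  have hθ : ∀ d, θ (r d) = φ d := fun d => rfl
  -- flatness of N
  let iD : N →ₗ[D] D := Submodule.liftQ E (LinearMap.mulLeft D (1 - e)) (by
    rw [hE, Ideal.span, Submodule.span_le]
    intro x hx
    rw [Set.mem_singleton_iff] at hx
    subst hx
    simp only [SetLike.mem_coe, LinearMap.mem_ker, LinearMap.mulLeft_apply]
    rw [sub_mul, one_mul, he.eq, sub_self])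
  have hflat : Module.Flat C N := by
    refine Module.Flat.of_retract (M := D) (iD.restrictScalars C) r.toLinearMap ?_
    refine LinearMap.ext fun n => ?_
    obtain ⟨d, rfl⟩ := hr n
    have h1 : iD (r d) = (1 - e) * d := rfl
    show r (iD (r d)) = r d
    rw [h1]
    have h2 : (1 - e) * d - d ∈ E := by
      have : (1 - e) * d - d = (-d) * e := by ring
      rw [this]; exact Ideal.mem_span_singleton'.mpr ⟨-d, rfl⟩
    exact Ideal.Quotient.eq.mpr h2
  -- c ∈ J whenever its image in N vanishes
  have hcJ : ∀ c : C, algebraMap C N c = 0 → c ∈ J := by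
    intro c hc
    have : θ (algebraMap C N c) = 0 := by rw [hc, map_zero]
    rw [AlgHom.commutes, Ideal.Quotient.algebraMap_eq, Ideal.Quotient.eq_zero_iff_mem] at this
    exact this
  have hinj : Function.Injective (algebraMap C N) := by
    rw [injective_iff_map_eq_zero]
    intro c hc
    have hrel : ∑ _i : Unit, (fun _ => c) _i • (fun _ => (1 : N)) _i = 0 := by
      simp only [Finset.univ_unique, Finset.sum_singleton]
      rw [Algebra.smul_def, mul_one]; exact hc
    obtain ⟨k, a, y, hay, hfa⟩ := Module.Flat.isTrivialRelation_of_sum_smul_eq_zero hrel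
    have h1 := hay ()
    simp only at h1
    have hfa' : ∀ j, c * a () j = 0 := by
      intro j; have := hfa j; simpa using this
    choose b hb using fun j => Ideal.Quotient.mk_surjective (θ (y j))
    have h2 : (1 : C ⧸ J) = Ideal.Quotient.mk J (∑ j, a () j * b j) := by
      have := congrArg θ h1
      rw [map_one, map_sum] at this
      rw [this, map_sum]
      refine Finset.sum_congr rfl fun j _ => ?_
      rw [map_smul, map_mul, hb j, Algebra.smul_def, Ideal.Quotient.algebraMap_eq]
    have h3 : 1 - ∑ j, a () j * b j ∈ J := by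
      rw [← Ideal.Quotient.eq, ← h2, map_one]
    have h4 : c * (1 - ∑ j, a () j * b j) ∈ J ^ 2 := by
      rw [pow_two]; exact Ideal.mul_mem_mul (hcJ c hc) h3
    rw [hJ, Ideal.mem_bot, mul_sub, mul_one, Finset.mul_sum] at h4
    have h5 : ∑ j, c * (a () j * b j) = 0 := by
      refine Finset.sum_eq_zero fun j _ => ?_
      rw [← mul_assoc, hfa' j, zero_mul]
    rw [h5, sub_zero] at h4
    exact h4
  have hsurj : Function.Surjective (algebraMap C N) := by
    set R : Submodule C N := LinearMap.range (Algebra.linearMap C N) with hR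
    have hsup : (⊤ : Submodule C N) ≤ R ⊔ J • (⊤ : Submodule C N) := by
      intro n _
      obtain ⟨d, rfl⟩ := hr n
      obtain ⟨c, hc⟩ := Ideal.Quotient.mk_surjective (φ d)
      have hdK : d - algebraMap C D c ∈ RingHom.ker φ := by
        simp only [RingHom.mem_ker, map_sub, AlgHom.commutes, Ideal.Quotient.algebraMap_eq, hc,
          sub_self]
      obtain ⟨x, hx, z, hz, hxz⟩ := Submodule.mem_sup.mp (hKe hdK)
      have hz' : z ∈ (J • ⊤ : Submodule C D) := by
        rw [Ideal.smul_top_eq_map]; exact hz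
      have hrz : r z ∈ (J • ⊤ : Submodule C N) := by
        have := Submodule.mem_map_of_mem (f := r.toLinearMap) hz'
        rw [Submodule.map_smul''] at this
        exact Submodule.smul_mono le_rfl le_top this
      have hrx : r x = 0 := Ideal.Quotient.eq_zero_iff_mem.mpr hx
      have hd : r d = algebraMap C N c + r z := by
        have h1 : d = algebraMap C D c + (x + z) := by rw [hxz]; ring
        conv_lhs => rw [h1]
        rw [map_add, map_add, hrx, zero_add, AlgHom.commutes]
      rw [hd]
      exact Submodule.add_mem _ (Submodule.mem_sup_left ⟨c, rfl⟩) (Submodule.mem_sup_right hrz)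
    have h1 : J • (⊤ : Submodule C N) ≤ R := by
      calc J • (⊤ : Submodule C N) ≤ J • (R ⊔ J • (⊤ : Submodule C N)) :=
            Submodule.smul_mono le_rfl hsup
        _ = J • R ⊔ J • J • (⊤ : Submodule C N) := Submodule.smul_sup _ _ _
        _ = J • R ⊔ (J ^ 2) • (⊤ : Submodule C N) := by
            rw [pow_two, ← smul_eq_mul, Submodule.smul_assoc]
        _ = J • R := by rw [hJ, Submodule.bot_smul, sup_bot_eq]
        _ ≤ R := Submodule.smul_le_right
    have h2 : (⊤ : Submodule C N) ≤ R := hsup.trans (sup_le le_rfl h1)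
    intro n
    obtain ⟨c, hc⟩ := h2 (Submodule.mem_top : n ∈ ⊤)
    exact ⟨c, hc⟩
  let ε : C ≃ₐ[C] N := AlgEquiv.ofBijective (Algebra.ofId C N) ⟨hinj, hsurj⟩
  refine ⟨(ε.symm : N →ₐ[C] C).comp r, ?_⟩
  ext d
  simp only [AlgHom.comp_apply, Ideal.Quotient.mkₐ_eq_mk]
  have h1 : algebraMap C N (ε.symm (r d)) = r d := ε.apply_symm_apply (r d)
  have h2 := congrArg θ h1
  rw [AlgHom.commutes, Ideal.Quotient.algebraMap_eq, hθ] at h2
  exact h2

end LemmaR

/-- A flat, formally unramified algebra of finite type is formally smooth. -/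
theorem formallySmooth_of_flat_of_unramified {A B : Type u} [CommRing A] [CommRing B]
    [Algebra A B] [Module.Flat A B] [Algebra.FiniteType A B] [Algebra.FormallyUnramified A B] :
    Algebra.FormallySmooth A B := by
  rw [Algebra.FormallySmooth.iff_comp_surjective]
  intro C _ _ J hJ φ
  let φ' : C ⊗[A] B →ₐ[C] C ⧸ J :=
    Algebra.TensorProduct.lift (Algebra.ofId C (C ⧸ J)) φ (fun _ _ => Commute.all _ _)
  obtain ⟨ψ', hψ'⟩ := exists_lift_of_flat J hJ φ'
  refine ⟨(ψ'.restrictScalars A).comp Algebra.TensorProduct.includeRight, ?_⟩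
  ext b
  have := congrArg (fun g => g ((1 : C) ⊗ₜ[A] b)) hψ'
  simp only [AlgHom.comp_apply, Ideal.Quotient.mkₐ_eq_mk] at this
  simp only [AlgHom.comp_apply, Ideal.Quotient.mkₐ_eq_mk, Algebra.TensorProduct.includeRight_apply,
    AlgHom.restrictScalars_apply]
  rw [this]
  simp [φ']

/-- A flat, formally unramified algebra of finite type is formally étale. -/
theorem formallyEtale_of_flat_of_unramified {A B : Type u} [CommRing A] [CommRing B]
    [Algebra A B] [Module.Flat A B] [Algebra.FiniteType A B] [Algebra.FormallyUnramified A B] :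
    Algebra.FormallyEtale A B :=
  haveI := formallySmooth_of_flat_of_unramified (A := A) (B := B)
  Algebra.FormallyEtale.of_formallyUnramified_and_formallySmooth

end Groth.Agent.Lib.Helper61.FlatUnram
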