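import Mathlib
import Groth.Agent.S0414

/-!
# Generically unramified = generically étale = separable function field extension (helper61)
-/

set_option autoImplicit false
universe u

open AlgebraicGeometry CategoryTheory Limits

namespace Groth.Agent.Lib.Helper61.GenUnram

variable {X Y : Scheme.{u}}

/-- Unramified analogue of Mathlib's `formallySmooth_stalkMap_iff`. -/
lemma formallyUnramified_stalkMap_iff {f : X ⟶ Y} {x : X} (U : Y.Opens)
    (hU : IsAffineOpen U) (V : X.Opens) (hV : IsAffineOpen V) (hVU : V ≤ f ⁻¹ᵁ U)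
    (hx : x ∈ V) :
    letI := (f.appLE U V hVU).hom.toAlgebra
    (f.stalkMap x).hom.FormallyUnramified ↔
      Algebra.IsUnramifiedAt Γ(Y, U) (hV.primeIdealOf ⟨x, hx⟩).asIdeal := by
  let := (f.appLE U V hVU).hom.toAlgebra
  let p := (hU.primeIdealOf ⟨f x, hVU hx⟩).asIdeal
  let q := (hV.primeIdealOf ⟨x, hx⟩).asIdeal
  have : q.LiesOver p :=
    ⟨congr($(IsAffineOpen.comap_primeIdealOf_appLE U hU V hV hVU hx).1).symm⟩
  let := Localization.AtPrime.algebraOfLiesOver p q
  trans Algebra.FormallyUnramified (Localization.AtPrime p) (Localization.AtPrime q)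
  · rw [← RingHom.formallyUnramified_algebraMap]
    exact RingHom.FormallyUnramified.respectsIso.arrow_mk_iso_iff
      (IsAffineOpen.arrowStalkMapIso f U hU V hV hVU hx)
  · constructor
    · intro h
      exact Algebra.FormallyUnramified.comp Γ(Y, U) (Localization.AtPrime p) (Localization.AtPrime q)
    · intro h
      haveI : Algebra.FormallyUnramified Γ(Y, U) (Localization.AtPrime q) := h
      exact Algebra.FormallyUnramified.of_restrictScalars Γ(Y, U) _ _

/-- A ring-hom property of `appLE` on affine opens gives the morphism property for `resLE`. -/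
theorem resLE_of_appLE {P : MorphismProperty Scheme.{u}}
    {Q : ∀ {R S : Type u} [CommRing R] [CommRing S], (R →+* S) → Prop}
    [HasRingHomProperty P Q] (f : X ⟶ Y) {V : Y.Opens} (hV : IsAffineOpen V)
    {U : X.Opens} (hU : IsAffineOpen U) (e : U ≤ f ⁻¹ᵁ V)
    (h : Q (f.appLE V U e).hom) : P (f.resLE V U e) := by
  haveI : IsAffine V.toScheme := hV
  haveI : IsAffine U.toScheme := hU
  rw [HasRingHomProperty.iff_of_isAffine (P := P)]
  have hQ : RingHom.RespectsIso Q := (HasRingHomProperty.isLocal_ringHomProperty P).respectsIso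
  have h1 : Q (V.topIso.hom ≫ f.appLE V U e ≫ U.topIso.inv).hom := by
    rw [CommRingCat.hom_comp, hQ.cancel_left_isIso, CommRingCat.hom_comp, hQ.cancel_right_isIso]
    exact h
  change Q ((f.resLE V U e).app ⊤).hom
  rw [Scheme.Hom.resLE_app_top]
  exact h1

set_option backward.defeqAttrib.useBackward true in
set_option backward.isDefEq.respectTransparency false in
/-- If the stalk map at `x` is formally unramified, `f` is formally unramified on an open
neighbourhood of `x`. -/
lemma exists_opens_formallyUnramified (f : X ⟶ Y) [LocallyOfFiniteType f]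
    (x : X) (H : (f.stalkMap x).hom.FormallyUnramified) :
    ∃ W : X.Opens, x ∈ W ∧ FormallyUnramified (W.ι ≫ f) := by
  obtain ⟨_, ⟨U, hU, rfl⟩, hxU, -⟩ :=
    Y.isBasis_affineOpens.exists_subset_of_mem_open (Set.mem_univ (f x)) isOpen_univ
  obtain ⟨_, ⟨V, hV, rfl⟩, hxV, hVU⟩ :=
    X.isBasis_affineOpens.exists_subset_of_mem_open hxU (U.2.preimage f.continuous)
  have := f.finiteType_appLE hU hV hVU
  algebraize [(f.appLE U V hVU).hom]
  have : Algebra.IsUnramifiedAt Γ(Y, U) (hV.primeIdealOf ⟨x, hxV⟩).asIdeal :=
    (formallyUnramified_stalkMap_iff U hU V hV hVU hxV).mp H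
  obtain ⟨r, hrx, hr⟩ := Algebra.exists_formallyUnramified_of_isUnramifiedAt (R := Γ(Y, U))
    (hV.primeIdealOf ⟨x, hxV⟩).asIdeal
  have hle : X.basicOpen r ≤ f ⁻¹ᵁ U := (X.basicOpen_le r).trans hVU
  have hxr : x ∈ X.basicOpen r := by
    rwa [← PrimeSpectrum.mem_basicOpen, IsAffineOpen.primeIdealOf,
      ← hV.fromSpec_preimage_basicOpen, Scheme.Hom.mem_preimage, ← Scheme.Hom.comp_apply,
      IsAffineOpen.isoSpec_hom, IsAffineOpen.toSpecΓ_fromSpec] at hrx
  have happ : (f.appLE U (X.basicOpen r) hle).hom.FormallyUnramified := by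
    have := hV.isLocalization_basicOpen r
    rw [← RingHom.formallyUnramified_algebraMap] at hr
    convert!
      RingHom.FormallyUnramified.respectsIso.1 _
        (IsLocalization.algEquiv (.powers r) _ Γ(X, X.basicOpen r)).toRingEquiv hr
    ext
    dsimp
    simp only [IsScalarTower.algebraMap_apply Γ(Y, U) Γ(X, V) (Localization _),
      IsLocalization.map_eq]
    simp only [RingHom.algebraMap_toAlgebra, RingHomCompTriple.comp_apply,
      ← ConcreteCategory.comp_apply, Scheme.Hom.appLE_map]
  refine ⟨X.basicOpen r, hxr, ?_⟩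
  have h1 : FormallyUnramified (f.resLE U (X.basicOpen r) hle) :=
    resLE_of_appLE (P := @FormallyUnramified) f hU (hV.basicOpen r) hle happ
  rw [← Scheme.Hom.resLE_comp_ι f hle]
  have h2 : FormallyUnramified (Scheme.Opens.ι (U : Y.Opens)) := inferInstance
  exact MorphismProperty.comp_mem @FormallyUnramified _ _ h1 h2

section Generic

variable [IsIntegral X] [IsIntegral Y] [IsLocallyNoetherian Y] (f : X ⟶ Y)
  [LocallyOfFiniteType f] [QuasiCompact f]

/-- Generically unramified implies generically étale (by generic flatness). -/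
theorem exists_etale_of_exists_formallyUnramified
    (e : f (genericPoint X) = genericPoint Y)
    (h : ∃ U : X.Opens, (U : Set X).Nonempty ∧ FormallyUnramified (U.ι ≫ f)) :
    ∃ U : X.Opens, (U : Set X).Nonempty ∧ Etale (U.ι ≫ f) := by
  obtain ⟨U, hUne, hU⟩ := h
  obtain ⟨V, hVdense, hVflat, -⟩ := Groth.Agent.S0414.result f
  have hηU : genericPoint X ∈ U :=
    ((genericPoint_spec X).mem_open_set_iff U.isOpen).mpr (by simpa using hUne)
  have hηV : genericPoint Y ∈ V :=
    ((genericPoint_spec Y).mem_open_set_iff V.isOpen).mpr (by simpa using hVdense.nonempty)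
  have hηfV : genericPoint X ∈ f ⁻¹ᵁ V := by
    show f (genericPoint X) ∈ V
    rw [e]; exact hηV
  refine ⟨U ⊓ f ⁻¹ᵁ V, ⟨genericPoint X, hηU, hηfV⟩, ?_⟩
  have hle1 : U ⊓ f ⁻¹ᵁ V ≤ U := inf_le_left
  have hle2 : U ⊓ f ⁻¹ᵁ V ≤ f ⁻¹ᵁ V := inf_le_right
  have hFU : FormallyUnramified ((U ⊓ f ⁻¹ᵁ V).ι ≫ f) := by
    rw [← X.homOfLE_ι hle1, Category.assoc]
    have h2 : FormallyUnramified (X.homOfLE hle1) := inferInstance
    exact MorphismProperty.comp_mem @FormallyUnramified _ _ h2 hU
  have hFlat : Flat ((U ⊓ f ⁻¹ᵁ V).ι ≫ f) := by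
    rw [← X.homOfLE_ι hle2, Category.assoc, ← morphismRestrict_ι]
    infer_instance
  have hFP : LocallyOfFinitePresentation ((U ⊓ f ⁻¹ᵁ V).ι ≫ f) := inferInstance
  exact Etale.of_formallyUnramified_of_flat _

theorem isIso_stalkSpecializes_of_eq {Z : Scheme.{u}} {a b : Z} (h : a ⤳ b) (hab : a = b) :
    IsIso (Z.presheaf.stalkSpecializes h) := by
  subst hab
  have : Z.presheaf.stalkSpecializes h = 𝟙 _ := by simp
  rw [this]
  infer_instance

omit [IsLocallyNoetherian Y] [QuasiCompact f] in
/-- The function field extension is essentially of finite type. -/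
theorem essFiniteType_functionField (e : f (genericPoint X) = genericPoint Y) :
    letI := ((Y.presheaf.stalkSpecializes (specializes_of_eq e) ≫
      f.stalkMap (genericPoint X)).hom).toAlgebra
    Algebra.EssFiniteType Y.functionField X.functionField := by
  letI := ((Y.presheaf.stalkSpecializes (specializes_of_eq e) ≫
    f.stalkMap (genericPoint X)).hom).toAlgebra
  haveI := isIso_stalkSpecializes_of_eq (specializes_of_eq e) e
  rw [← RingHom.essFiniteType_algebraMap, RingHom.algebraMap_toAlgebra, CommRingCat.hom_comp,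
    RingHom.EssFiniteType.respectsIso.cancel_left_isIso]
  exact LocallyOfFiniteType.stalkMap f (genericPoint X)

omit [IsLocallyNoetherian Y] [LocallyOfFiniteType f] [QuasiCompact f] in
/-- Formal unramifiedness of the function field extension vs. of the generic stalk map. -/
theorem formallyUnramified_functionField_iff (e : f (genericPoint X) = genericPoint Y) :
    letI := ((Y.presheaf.stalkSpecializes (specializes_of_eq e) ≫
      f.stalkMap (genericPoint X)).hom).toAlgebra
    Algebra.FormallyUnramified Y.functionField X.functionField ↔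
      (f.stalkMap (genericPoint X)).hom.FormallyUnramified := by
  letI := ((Y.presheaf.stalkSpecializes (specializes_of_eq e) ≫
    f.stalkMap (genericPoint X)).hom).toAlgebra
  haveI := isIso_stalkSpecializes_of_eq (specializes_of_eq e) e
  rw [← RingHom.formallyUnramified_algebraMap, RingHom.algebraMap_toAlgebra, CommRingCat.hom_comp,
    RingHom.FormallyUnramified.respectsIso.cancel_left_isIso]

/-- **Main theorem**: generically unramified ⇔ generically étale ⇔ finite separable function
field extension. -/
theorem generic_unramified_etale_separable (e : f (genericPoint X) = genericPoint Y) :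
    letI := ((Y.presheaf.stalkSpecializes (specializes_of_eq e) ≫
      f.stalkMap (genericPoint X)).hom).toAlgebra
    ((∃ U : X.Opens, (U : Set X).Nonempty ∧ FormallyUnramified (U.ι ≫ f)) ↔
      (∃ U : X.Opens, (U : Set X).Nonempty ∧ Etale (U.ι ≫ f))) ∧
    ((∃ U : X.Opens, (U : Set X).Nonempty ∧ Etale (U.ι ≫ f)) →
      (FiniteDimensional Y.functionField X.functionField ∧
        Algebra.IsSeparable Y.functionField X.functionField)) ∧
    (Algebra.IsSeparable Y.functionField X.functionField →
      (∃ U : X.Opens, (U : Set X).Nonempty ∧ Etale (U.ι ≫ f))) := by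
  letI := ((Y.presheaf.stalkSpecializes (specializes_of_eq e) ≫
    f.stalkMap (genericPoint X)).hom).toAlgebra
  haveI := essFiniteType_functionField f e
  refine ⟨⟨exists_etale_of_exists_formallyUnramified f e, ?_⟩, ?_, ?_⟩
  · rintro ⟨U, hUne, hU⟩
    exact ⟨U, hUne, inferInstance⟩
  · rintro ⟨U, hUne, hU⟩
    have hηU : genericPoint X ∈ U :=
      ((genericPoint_spec X).mem_open_set_iff U.isOpen).mpr (by simpa using hUne)
    let u : (U : Scheme.{u}) := ⟨genericPoint X, hηU⟩
    have h1 : ((U.ι ≫ f).stalkMap u).hom.FormallyUnramified :=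
      FormallyUnramified.stalkMap (U.ι ≫ f) u
    rw [Scheme.Hom.stalkMap_comp] at h1
    have h2 : (f.stalkMap (U.ι u)).hom.FormallyUnramified :=
      (RingHom.FormallyUnramified.respectsIso.cancel_right_isIso (f.stalkMap (U.ι u))
        (U.ι.stalkMap u)).mp h1
    haveI : Algebra.FormallyUnramified Y.functionField X.functionField :=
      (formallyUnramified_functionField_iff f e).mpr h2
    exact ⟨Algebra.FormallyUnramified.finite_of_free Y.functionField X.functionField,
      Algebra.FormallyUnramified.isSeparable Y.functionField X.functionField⟩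
  · intro hsep
    haveI : Algebra.FormallyUnramified Y.functionField X.functionField :=
      Algebra.FormallyUnramified.of_isSeparable Y.functionField X.functionField
    have h1 := (formallyUnramified_functionField_iff f e).mp inferInstance
    obtain ⟨W, hηW, hW⟩ := exists_opens_formallyUnramified f (genericPoint X) h1
    exact exists_etale_of_exists_formallyUnramified f e ⟨W, ⟨genericPoint X, hηW⟩, hW⟩

end Generic

end Groth.Agent.Lib.Helper61.GenUnram
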