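import Groth.Agent.Lib.Helper37.HenselSplit
import Mathlib.RingTheory.Localization.Away.Lemmas

/-!
# Isolated points of the closed fibre over a Henselian local ring (helper61)

Ring-level input for EGA II 6.2.5 / 6.2.6, built on helper37's `exists_idempotent_of_quasiFiniteAt`.
-/

set_option autoImplicit false
set_option linter.style.haveILetI false
universe u
open IsLocalRing Polynomial

namespace Groth.Agent.Lib.Helper61.HenselIsolated

/-- copied from helper4's `WLocalSquare` -/
theorem henselianLocalRing_of_ringEquiv {R R' : Type*} [CommRing R] [CommRing R']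
    [IsLocalRing R] [IsLocalRing R'] (e : R ≃+* R') [hR : HenselianLocalRing R] :
    HenselianLocalRing R' := by
  have hmax : ∀ x : R', x ∈ maximalIdeal R' ↔ e.symm x ∈ maximalIdeal R := by
    intro x
    rw [mem_maximalIdeal, mem_maximalIdeal, mem_nonunits_iff, mem_nonunits_iff]
    exact not_congr (isUnit_map_iff e.symm x).symm
  refine { is_henselian := ?_ }
  intro f hf a₀ h₁ h₂
  have hev : ∀ (g : R'[X]) (y : R'), (g.map e.symm.toRingHom).eval (e.symm y) = e.symm (g.eval y) := by
    intro g y
    rw [eval_map]
    exact (hom_eval₂ g (RingHom.id R') e.symm.toRingHom y).symm.trans (by simp [eval₂_id])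
  obtain ⟨a, ha, haa⟩ := hR.is_henselian (f.map e.symm.toRingHom) (hf.map _) (e.symm a₀)
    (by rw [hev]; exact (hmax _).1 h₁)
    (by rw [derivative_map, hev]; exact h₂.map e.symm)
  refine ⟨e a, ?_, ?_⟩
  · have h3 := hev f (e a)
    rw [e.symm_apply_apply] at h3
    have h4 : e.symm (f.eval (e a)) = 0 := by rw [← h3]; exact ha
    exact (map_eq_zero_iff e.symm e.symm.injective).1 h4
  · rw [hmax, map_sub, e.symm_apply_apply]
    exact haa

theorem henselianLocalRing_of_isAdicComplete (A : Type*) [CommRing A] [IsLocalRing A]
    [IsAdicComplete (maximalIdeal A) A] : HenselianLocalRing A where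
  is_henselian f hf a₀ h1 h2 :=
    HenselianRing.is_henselian (I := maximalIdeal A) f hf a₀ h1 (h2.map _)

/-- Structure of the local ring at a quasi-finite prime over the closed point of a Henselian local
ring: it is a finite module, and a localization away from an idempotent. -/
theorem finite_and_exists_idempotent_away (R : Type u) [CommRing R] [HenselianLocalRing R]
    (S : Type u) [CommRing S] [Algebra R S] [Algebra.FiniteType R S]
    (q : Ideal S) [q.IsPrime] [q.LiesOver (IsLocalRing.maximalIdeal R)]
    [Algebra.QuasiFiniteAt R q]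
    (St : Type u) [CommRing St] [Algebra S St] [Algebra R St] [IsScalarTower R S St]
    [IsLocalization.AtPrime St q] :
    Module.Finite R St ∧ ∃ e : S, IsIdempotentElem e ∧ IsLocalization.Away e St := by
  set m := IsLocalRing.maximalIdeal R with hm
  obtain ⟨e, he, heq, hfin, huniq⟩ :=
    Groth.Agent.Lib.Helper37.exists_idempotent_of_quasiFiniteAt R S q
  set J := Ideal.span ({1 - e} : Set S) with hJ
  set A := S ⧸ J
  have hint : Algebra.IsIntegral R A := Algebra.IsIntegral.of_finite R A
  have hmk1 : Ideal.Quotient.mk J (1 - e) = 0 :=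
    Ideal.Quotient.eq_zero_iff_mem.mpr (Ideal.subset_span rfl)
  have hmax : ∀ M : Ideal A, M.IsMaximal → M.comap (Ideal.Quotient.mk J) = q := by
    intro M hM
    have hMp : M.IsPrime := hM.isPrime
    apply huniq _ (Ideal.comap_isPrime _ _)
    · constructor
      have h1 : (M.comap (algebraMap R A)).IsMaximal :=
        Ideal.isMaximal_comap_of_isIntegral_of_isMaximal (R := R) M
      have h2 : M.comap (algebraMap R A) = m := IsLocalRing.eq_maximalIdeal h1
      rw [← hm, ← h2]
      rfl
    · intro hmem
      rw [Ideal.mem_comap] at hmem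
      apply hM.ne_top
      rw [Ideal.eq_top_iff_one]
      have : (1 : A) = Ideal.Quotient.mk J e + Ideal.Quotient.mk J (1 - e) := by
        rw [← map_add]; simp
      rw [this, hmk1, add_zero]
      exact hmem
  have h1eq : 1 - e ∈ q := by
    have h0 : e * (1 - e) = 0 := by
      have := he.eq
      linear_combination -this
    have hmem : e * (1 - e) ∈ q := h0 ▸ q.zero_mem
    exact ((inferInstance : q.IsPrime).mem_or_mem hmem).resolve_left heq
  have hJq : J ≤ q := by
    rw [hJ, Ideal.span_le, Set.singleton_subset_iff]
    exact h1eq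
  have hnontriv : Nontrivial A :=
    Ideal.Quotient.nontrivial_iff.mpr
      (fun h => (inferInstance : q.IsPrime).ne_top (top_le_iff.mp (h ▸ hJq)))
  obtain ⟨M, hM⟩ := Ideal.exists_maximal A
  have hMq : ∀ M' : Ideal A, M'.IsMaximal → M' = q.map (Ideal.Quotient.mk J) := by
    intro M' hM'
    rw [← hmax M' hM', Ideal.map_comap_of_surjective _ Ideal.Quotient.mk_surjective]
  have hloc : IsLocalRing A :=
    IsLocalRing.of_unique_max_ideal ⟨M, hM, fun M' hM' => by rw [hMq M hM, hMq M' hM']⟩
  have hmaxA : IsLocalRing.maximalIdeal A = M := (IsLocalRing.eq_maximalIdeal hM).symm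
  have hloc2 : IsLocalization.AtPrime A q :=
    { map_units := by
        rintro ⟨s, hs⟩
        change IsUnit (Ideal.Quotient.mk J s)
        rw [← IsLocalRing.notMem_maximalIdeal, hmaxA]
        intro hmem
        apply hs
        rw [← hmax M hM]
        exact hmem
      surj := by
        intro z
        obtain ⟨s, rfl⟩ := Ideal.Quotient.mk_surjective z
        exact ⟨(s, 1), by rw [Submonoid.coe_one, map_one, mul_one]; rfl⟩
      exists_of_eq := by
        intro x y hxy
        refine ⟨⟨e, heq⟩, ?_⟩
        change Ideal.Quotient.mk J x = Ideal.Quotient.mk J y at hxy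
        rw [Ideal.Quotient.eq, hJ, Ideal.mem_span_singleton'] at hxy
        obtain ⟨c, hc⟩ := hxy
        change e * x = e * y
        have := he.eq
        linear_combination (-e) * hc + (-c) * this }
  have haway : IsLocalization.Away e A := IsLocalization.Away.quotient_of_isIdempotentElem he
  let φ : A ≃ₐ[S] St := IsLocalization.algEquiv q.primeCompl _ _
  refine ⟨Module.Finite.equiv (φ.restrictScalars R).toLinearEquiv, e, he, ?_⟩
  exact IsLocalization.isLocalization_of_algEquiv (Submonoid.powers e) φ

end Groth.Agent.Lib.Helper61.HenselIsolated
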