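import Groth.Agent.Lib.Helper61.HenselIsolated
import Groth.Agent.Lib.Helper61.BiratQFScheme
import Mathlib.AlgebraicGeometry.Morphisms.QuasiFinite
import Mathlib.AlgebraicGeometry.Morphisms.Finite
import Mathlib.AlgebraicGeometry.Morphisms.Proper
import Mathlib.AlgebraicGeometry.ZariskisMainTheorem

/-!
# EGA II 6.2.5 over a Henselian local base (helper61)
-/

set_option autoImplicit false
set_option linter.style.haveILetI false
universe u
open AlgebraicGeometry CategoryTheory Limits IsLocalRing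

namespace Groth.Agent.Lib.Helper61.HenselIsolated

variable {X : Scheme.{u}}

theorem isMaximal_primeIdealOf_of_isClosed {Y : Scheme.{u}} {U : Y.Opens} (hU : IsAffineOpen U)
    (y : U) (hy : IsClosed ({y.1} : Set Y)) : (hU.primeIdealOf y).asIdeal.IsMaximal := by
  rw [← PrimeSpectrum.isClosed_singleton_iff_isMaximal]
  have h1 : ({hU.primeIdealOf y} : Set _) = hU.fromSpec ⁻¹' {y.1} := by
    ext P
    simp only [Set.mem_singleton_iff, Set.mem_preimage]
    constructor
    · rintro rfl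
      exact hU.fromSpec_primeIdealOf y
    · intro h
      apply hU.fromSpec.isOpenEmbedding.injective
      rw [h, hU.fromSpec_primeIdealOf y]
  rw [h1]
  exact hy.preimage hU.fromSpec.continuous

/-- **EGA II 6.2.5** over a Henselian local base: at a point of the closed fibre where `f` is
quasi-finite, the local ring is finite over the base and `Spec O_{X,x} ⟶ X` is an open and closed
immersion. -/
theorem fromSpecStalk_of_quasiFiniteAt (A : Type u) [CommRing A] [HenselianLocalRing A]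
    (f : X ⟶ Spec (CommRingCat.of A)) [LocallyOfFiniteType f] [IsSeparated f] (x : X)
    (hx : f x = closedPoint A) (hq : f.QuasiFiniteAt x) :
    ((Scheme.ΓSpecIso (CommRingCat.of A)).inv ≫ f.appTop ≫
        X.presheaf.germ ⊤ x trivial).hom.Finite ∧
      IsOpenImmersion (X.fromSpecStalk x) ∧ IsClosedImmersion (X.fromSpecStalk x) := by
  classical
  have hU : IsAffineOpen (⊤ : (Spec (CommRingCat.of A)).Opens) := isAffineOpen_top _
  obtain ⟨_, ⟨V, hV, rfl⟩, hxV, -⟩ := X.isBasis_affineOpens.exists_subset_of_mem_open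
    (Set.mem_univ x) isOpen_univ
  have hUV : V ≤ f ⁻¹ᵁ ⊤ := le_top
  have hxU : f x ∈ (⊤ : (Spec (CommRingCat.of A)).Opens) := trivial
  let eR : A ≃+* Γ(Spec (CommRingCat.of A), ⊤) :=
    (Scheme.ΓSpecIso (CommRingCat.of A)).symm.commRingCatIsoToRingEquiv
  haveI : IsLocalRing Γ(Spec (CommRingCat.of A), ⊤) := eR.isLocalRing
  haveI : HenselianLocalRing Γ(Spec (CommRingCat.of A), ⊤) := henselianLocalRing_of_ringEquiv eR
  have hft : (f.appLE ⊤ V hUV).hom.FiniteType := f.finiteType_appLE hU hV hUV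
  have hqf := hq.quasiFiniteAt hV hU hUV hxV
  have hcomap := IsAffineOpen.comap_primeIdealOf_appLE ⊤ hU V hV hUV hxV
  letI alg : Algebra Γ(Spec (CommRingCat.of A), ⊤) Γ(X, V) := (f.appLE ⊤ V hUV).hom.toAlgebra
  haveI : Algebra.FiniteType Γ(Spec (CommRingCat.of A), ⊤) Γ(X, V) := hft
  have hmax : (hU.primeIdealOf ⟨f x, hxU⟩).asIdeal =
      maximalIdeal Γ(Spec (CommRingCat.of A), ⊤) :=
    IsLocalRing.eq_maximalIdeal (isMaximal_primeIdealOf_of_isClosed hU ⟨f x, hxU⟩
      (by rw [hx]; exact isClosed_singleton_closedPoint A))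
  haveI hqp : (hV.primeIdealOf ⟨x, hxV⟩).asIdeal.LiesOver
      (maximalIdeal Γ(Spec (CommRingCat.of A), ⊤)) := ⟨by rw [← hmax, ← hcomap]; rfl⟩
  haveI : Algebra.QuasiFiniteAt Γ(Spec (CommRingCat.of A), ⊤)
      (hV.primeIdealOf ⟨x, hxV⟩).asIdeal := hqf
  letI := X.presheaf.algebra_section_stalk ⟨x, hxV⟩
  haveI := hV.isLocalization_stalk ⟨x, hxV⟩
  letI algR : Algebra Γ(Spec (CommRingCat.of A), ⊤) (X.presheaf.stalk x) :=
    ((f.appLE ⊤ V hUV) ≫ X.presheaf.germ V x hxV).hom.toAlgebra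
  haveI : IsScalarTower Γ(Spec (CommRingCat.of A), ⊤) Γ(X, V) (X.presheaf.stalk x) :=
    .of_algebraMap_eq' rfl
  obtain ⟨hfin, e, he, haway⟩ := finite_and_exists_idempotent_away
    Γ(Spec (CommRingCat.of A), ⊤) Γ(X, V) (hV.primeIdealOf ⟨x, hxV⟩).asIdeal (X.presheaf.stalk x)
  have key : f.appTop ≫ X.presheaf.germ ⊤ x trivial =
      f.appLE ⊤ V hUV ≫ X.presheaf.germ V x hxV := by
    rw [Scheme.Hom.appLE, Category.assoc, X.presheaf.germ_res]
    rfl
  have hfin' : (f.appLE ⊤ V hUV ≫ X.presheaf.germ V x hxV).hom.Finite := hfin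
  have hfin'' : (f.appTop ≫ X.presheaf.germ ⊤ x trivial).hom.Finite := by rw [key]; exact hfin'
  have hoi : IsOpenImmersion (X.fromSpecStalk x) := by
    rw [← hV.fromSpecStalk_eq_fromSpecStalk hxV, IsAffineOpen.fromSpecStalk]
    haveI : IsOpenImmersion (Spec.map (X.presheaf.germ V x hxV)) :=
      IsOpenImmersion.of_isLocalization (R := Γ(X, V)) (S := X.presheaf.stalk x) e
    infer_instance
  refine ⟨?_, hoi, ?_⟩
  · rw [CommRingCat.hom_comp]
    exact hfin''.comp (RingHom.Finite.of_surjective _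
      (ConcreteCategory.bijective_of_isIso (Scheme.ΓSpecIso (CommRingCat.of A)).inv).2)
  · haveI : IsFinite (X.fromSpecStalk x ≫ f) := by
      rw [HasAffineProperty.iff_of_isAffine (P := @IsFinite)]
      refine ⟨inferInstance, ?_⟩
      rw [Scheme.Hom.comp_appTop, Scheme.fromSpecStalk_appTop, ← Category.assoc,
        CommRingCat.hom_comp]
      refine RingHom.Finite.comp (RingHom.Finite.of_surjective _ ?_) hfin''
      have h1 : IsIso ((Spec (X.presheaf.stalk x)).presheaf.map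
          (homOfLE (le_top : (X.fromSpecStalk x) ⁻¹ᵁ ⊤ ≤ ⊤)).op) := by
        have hid1 : homOfLE (le_top : (X.fromSpecStalk x) ⁻¹ᵁ ⊤ ≤ ⊤) = 𝟙 _ := Subsingleton.elim _ _
        have hid2 : (Spec (X.presheaf.stalk x)).presheaf.map
            (homOfLE (le_top : (X.fromSpecStalk x) ⁻¹ᵁ ⊤ ≤ ⊤)).op = 𝟙 _ := by
          rw [hid1]
          exact (Spec (X.presheaf.stalk x)).presheaf.map_id _
        rw [hid2]
        exact IsIso.id _
      have h2 : IsIso ((Scheme.ΓSpecIso (X.presheaf.stalk x)).inv ≫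
          (Spec (X.presheaf.stalk x)).presheaf.map
            (homOfLE (le_top : (X.fromSpecStalk x) ⁻¹ᵁ ⊤ ≤ ⊤)).op) :=
        @IsIso.comp_isIso _ _ _ _ _ _ _ (Iso.isIso_inv _) h1
      exact ((ConcreteCategory.isIso_iff_bijective _).mp h2).2
    haveI : IsProper (X.fromSpecStalk x) := IsProper.of_comp (X.fromSpecStalk x) f
    exact IsClosedImmersion.of_isPreimmersion _ (X.fromSpecStalk x).isClosedMap.isClosed_range

theorem isFinite_fromSpecStalk_comp {Y : Scheme.{u}} [IsAffine Y] (f : X ⟶ Y) (x : X)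
    (h : (f.appTop ≫ X.presheaf.germ ⊤ x trivial).hom.Finite) :
    IsFinite (X.fromSpecStalk x ≫ f) := by
  rw [HasAffineProperty.iff_of_isAffine (P := @IsFinite)]
  refine ⟨inferInstance, ?_⟩
  rw [Scheme.Hom.comp_appTop, Scheme.fromSpecStalk_appTop, ← Category.assoc,
    CommRingCat.hom_comp]
  refine RingHom.Finite.comp (RingHom.Finite.of_surjective _ ?_) h
  have h1 : IsIso ((Spec (X.presheaf.stalk x)).presheaf.map
      (homOfLE (le_top : (X.fromSpecStalk x) ⁻¹ᵁ ⊤ ≤ ⊤)).op) := by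
    have hid1 : homOfLE (le_top : (X.fromSpecStalk x) ⁻¹ᵁ ⊤ ≤ ⊤) = 𝟙 _ := Subsingleton.elim _ _
    have hid2 : (Spec (X.presheaf.stalk x)).presheaf.map
        (homOfLE (le_top : (X.fromSpecStalk x) ⁻¹ᵁ ⊤ ≤ ⊤)).op = 𝟙 _ := by
      rw [hid1]
      exact (Spec (X.presheaf.stalk x)).presheaf.map_id _
    rw [hid2]
    exact IsIso.id _
  have h2 : IsIso ((Scheme.ΓSpecIso (X.presheaf.stalk x)).inv ≫
      (Spec (X.presheaf.stalk x)).presheaf.map
        (homOfLE (le_top : (X.fromSpecStalk x) ⁻¹ᵁ ⊤ ≤ ⊤)).op) :=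
    @IsIso.comp_isIso _ _ _ _ _ _ _ (Iso.isIso_inv _) h1
  exact ((ConcreteCategory.isIso_iff_bijective _).mp h2).2

/-- Universal closedness descends along a finite jointly surjective family (copied from helper4's
`ProperOver`). -/
theorem universallyClosed_of_jointly_surjective {T S : Scheme.{u}} {ι : Type*} [Finite ι]
    {Ti : ι → Scheme.{u}}
    (a : ∀ i, Ti i ⟶ T) (t : T ⟶ S) (hsurj : ∀ x : T, ∃ i, x ∈ Set.range (a i))
    (h : ∀ i, UniversallyClosed (a i ≫ t)) : UniversallyClosed t := by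
  constructor
  intro T' S' i₁ i₂ t' H
  have hcl : ∀ i, IsClosedMap (pullback.fst i₁ (a i) ≫ t') := fun i =>
    UniversallyClosed.universally_isClosedMap _ _ _
      ((IsPullback.of_hasPullback i₁ (a i)).paste_horiz H)
  intro C hC
  have : t' '' C = ⋃ i, (pullback.fst i₁ (a i) ≫ t') '' ((pullback.fst i₁ (a i)) ⁻¹' C) := by
    ext s
    simp only [Set.mem_image, Set.mem_iUnion, Set.mem_preimage]
    constructor
    · rintro ⟨x, hx, rfl⟩
      obtain ⟨i, y, hy⟩ := hsurj (i₁ x)
      obtain ⟨z, hz1, hz2⟩ :=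
        Scheme.Pullback.exists_preimage_pullback (f := i₁) (g := a i) x y hy.symm
      exact ⟨i, z, by rw [hz1]; exact hx, by simp [hz1]⟩
    · rintro ⟨i, z, hz, rfl⟩
      exact ⟨_, hz, by simp⟩
  rw [this]
  exact isClosed_iUnion_of_finite fun i =>
    hcl i _ (hC.preimage (pullback.fst i₁ (a i)).continuous)

/-- **EGA II 6.2.6** over a Henselian local base. -/
theorem exists_clopen_finite (A : Type u) [CommRing A] [HenselianLocalRing A]
    (f : X ⟶ Spec (CommRingCat.of A)) [LocallyOfFiniteType f] [QuasiCompact f] [IsSeparated f]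
    [LocallyQuasiFinite f] :
    ∃ U : X.Opens, IsClosed (U : Set X) ∧ IsFinite (U.ι ≫ f) ∧
      ∀ x : X, f x = closedPoint A → x ∈ U := by
  classical
  have hF : (f ⁻¹' {closedPoint A}).Finite := f.finite_preimage_singleton _
  haveI : Finite ↥(f ⁻¹' {closedPoint A}) := hF.to_subtype
  have hmain : ∀ i : ↥(f ⁻¹' {closedPoint A}), _ :=
    fun i => fromSpecStalk_of_quasiFiniteAt A f i.1 i.2 (f.quasiFiniteAt i.1)
  have hoi : ∀ i : ↥(f ⁻¹' {closedPoint A}), IsOpenImmersion (X.fromSpecStalk i.1) :=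
    fun i => (hmain i).2.1
  have hci : ∀ i : ↥(f ⁻¹' {closedPoint A}), IsClosedImmersion (X.fromSpecStalk i.1) :=
    fun i => (hmain i).2.2
  have hfi : ∀ i : ↥(f ⁻¹' {closedPoint A}), IsFinite (X.fromSpecStalk i.1 ≫ f) := by
    intro i
    apply isFinite_fromSpecStalk_comp
    have h1 := (hmain i).1
    have h2 : (f.appTop ≫ X.presheaf.germ ⊤ i.1 trivial) =
        (Scheme.ΓSpecIso (CommRingCat.of A)).hom ≫ (Scheme.ΓSpecIso (CommRingCat.of A)).inv ≫
          f.appTop ≫ X.presheaf.germ ⊤ i.1 trivial := by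
      rw [Iso.hom_inv_id_assoc]
    rw [h2, CommRingCat.hom_comp]
    exact h1.comp (RingHom.Finite.of_surjective _
      (ConcreteCategory.bijective_of_isIso (Scheme.ΓSpecIso (CommRingCat.of A)).hom).2)
  let Ux : ↥(f ⁻¹' {closedPoint A}) → X.Opens := fun i =>
    haveI := hoi i; (X.fromSpecStalk i.1).opensRange
  have hUx : ∀ i : ↥(f ⁻¹' {closedPoint A}),
      (Ux i : Set X) = Set.range (X.fromSpecStalk i.1) := fun i => rfl
  let U : X.Opens := ⨆ i, Ux i
  have hUcoe : (U : Set X) = ⋃ i : ↥(f ⁻¹' {closedPoint A}), Set.range (X.fromSpecStalk i.1) := by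
    simp only [U, TopologicalSpace.Opens.coe_iSup, hUx]
  refine ⟨U, ?_, ?_, ?_⟩
  · rw [hUcoe]
    exact isClosed_iUnion_of_finite fun i : ↥(f ⁻¹' {closedPoint A}) =>
      haveI := hci i; (X.fromSpecStalk i.1).isClosedEmbedding.isClosed_range
  · have hrange : ∀ i : ↥(f ⁻¹' {closedPoint A}),
        Set.range (X.fromSpecStalk i.1) ⊆ Set.range U.ι := by
      intro i
      rw [Scheme.Opens.range_ι, hUcoe]
      exact Set.subset_iUnion (fun i : ↥(f ⁻¹' {closedPoint A}) =>
        Set.range (X.fromSpecStalk i.1)) i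
    let a : ∀ i : ↥(f ⁻¹' {closedPoint A}), Spec (X.presheaf.stalk i.1) ⟶ U.toScheme :=
      fun i => IsOpenImmersion.lift U.ι (X.fromSpecStalk i.1) (hrange i)
    have ha : ∀ i, a i ≫ U.ι = X.fromSpecStalk i.1 := fun i => IsOpenImmersion.lift_fac _ _ _
    haveI : UniversallyClosed (U.ι ≫ f) := by
      refine universallyClosed_of_jointly_surjective a (U.ι ≫ f) ?_ ?_
      · intro u
        have hu : u.1 ∈ (U : Set X) := u.2
        rw [hUcoe] at hu
        obtain ⟨i, s, hs⟩ := Set.mem_iUnion.mp hu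
        refine ⟨i, s, ?_⟩
        apply U.ι.isOpenEmbedding.injective
        rw [← Scheme.Hom.comp_apply, ha]
        exact hs
      · intro i
        rw [← Category.assoc, ha]
        haveI := hfi i
        infer_instance
    haveI : IsProper (U.ι ≫ f) := {}
    exact IsFinite.of_isProper_of_locallyQuasiFinite _
  · intro x hx
    have hxU : x ∈ (U : Set X) := by
      rw [hUcoe]
      exact Set.mem_iUnion.mpr ⟨⟨x, hx⟩, closedPoint _, X.fromSpecStalk_closedPoint⟩
    exact hxU

end Groth.Agent.Lib.Helper61.HenselIsolated
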