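import Mathlib
import Groth.Agent.Lib.Helper31.ZarProj
import Groth.Agent.Lib.QCoh.Helper18_PullbackAffine
import Groth.Agent.Lib.QCoh.Helper50_Pullback

/-!
# Locally projective quasi-coherent modules (helper61)

* `projective_of_isLocalization_away` : Zariski descent of projectivity, abstract localizations.
* `projective_sections_of_le` : `F` qcoh, `W' ≤ W` affine opens, `F(W)` projective ⇒ `F(W')` projective.
* `projective_sections_of_cover` : `F(U)` is projective if `U` affine is covered by affine opens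
  `W ≤ U` with `F(W)` projective.
-/

set_option autoImplicit false
universe u
open CategoryTheory CategoryTheory.Limits AlgebraicGeometry Opposite TopologicalSpace TensorProduct

namespace Groth.Agent.Lib.Helper61.LocProj

open Groth.Agent.Lib.Helper31 Groth.Agent.Lib.QCoh

theorem projective_of_isLocalization_away {R : Type u} [CommRing R] (M : Type u) [AddCommGroup M]
    [Module R M] {ι : Type u} [Fintype ι] (f : ι → R) (hspan : Ideal.span (Set.range f) = ⊤)
    (B : ι → Type u) [∀ i, CommRing (B i)] [∀ i, Algebra R (B i)]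
    [∀ i, IsLocalization.Away (f i) (B i)]
    (h : ∀ i, Module.Projective (B i) (B i ⊗[R] M)) : Module.Projective R M := by
  classical
  haveI : ∀ i, Module.Flat R (B i) := fun i => IsLocalization.flat (B i) (Submonoid.powers (f i))
  haveI : Module.Flat R (∀ i, B i) := ZarProj.flat_pi B
  haveI : Module.FaithfullyFlat R (∀ i, B i) := by
    apply Module.FaithfullyFlat.of_comap_surjective
    intro p
    obtain ⟨i, hi⟩ : ∃ i, f i ∉ p.asIdeal := by
      by_contra hcon
      rw [not_exists] at hcon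
      simp only [not_not] at hcon
      have : Ideal.span (Set.range f) ≤ p.asIdeal := by
        rw [Ideal.span_le]
        rintro _ ⟨i, rfl⟩
        exact hcon i
      rw [hspan] at this
      exact p.2.ne_top (top_le_iff.mp this)
    have hdisj : Disjoint (Submonoid.powers (f i) : Set R) (p.asIdeal : Set R) :=
      (Ideal.disjoint_powers_iff_notMem _ p.2.isRadical).mpr hi
    have hP : (Ideal.map (algebraMap R (B i)) p.asIdeal).IsPrime :=
      IsLocalization.isPrime_of_isPrime_disjoint (Submonoid.powers (f i)) _ p.asIdeal p.2 hdisj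
    have hcomap : (Ideal.map (algebraMap R (B i)) p.asIdeal).comap
        (algebraMap R (B i)) = p.asIdeal :=
      IsLocalization.under_map_of_isPrime_disjoint (Submonoid.powers (f i)) _ p.2 hdisj
    refine ⟨⟨(Ideal.map (algebraMap R (B i)) p.asIdeal).comap
      (Pi.evalRingHom B i), Ideal.comap_isPrime _ _⟩, ?_⟩
    ext1
    show Ideal.comap _ (Ideal.comap _ _) = _
    rw [Ideal.comap_comap]
    exact hcomap
  haveI := ZarProj.projective_pi B M h
  exact Groth.Agent.Lib.Helper54.RG.projective_of_faithfullyFlat_baseChange R (∀ i, B i) M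

variable {X : Scheme.{u}}

/-- sections of isomorphic modules are linearly equivalent -/
noncomputable def sectionsLinearEquiv {F G : X.Modules} (φ : F ≅ G) (W : X.Opens) :
    Γ(F, W) ≃ₗ[Γ(X, W)] Γ(G, W) :=
  { toFun := fun x => φ.hom.app W x
    map_add' := fun x y => map_add _ x y
    map_smul' := fun r x => Scheme.Modules.Hom.app_smul φ.hom r x
    invFun := fun y => φ.inv.app W y
    left_inv := fun x => by
      have : (φ.hom ≫ φ.inv).app W x = x := by rw [Iso.hom_inv_id]; rfl
      rwa [Scheme.Modules.Hom.comp_app, ConcreteCategory.comp_apply] at this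
    right_inv := fun y => by
      have : (φ.inv ≫ φ.hom).app W y = y := by rw [Iso.inv_hom_id]; rfl
      rwa [Scheme.Modules.Hom.comp_app, ConcreteCategory.comp_apply] at this }

/-- base change of sections along an inclusion of affine opens -/
theorem nonempty_sections_linearEquiv_tensor (F : X.Modules) [F.IsQuasicoherent] {W W' : X.Opens}
    (hW : IsAffineOpen W) (hW' : IsAffineOpen W') (e : W' ≤ (𝟙 X) ⁻¹ᵁ W) :
    letI : Algebra Γ(X, W) Γ(X, W') := ((𝟙 X : X ⟶ X).appLE W W' e).hom.toAlgebra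
    Nonempty (Γ(F, W') ≃ₗ[Γ(X, W')] Γ(X, W') ⊗[Γ(X, W)] Γ(F, W)) := by
  letI : Algebra Γ(X, W) Γ(X, W') := ((𝟙 X : X ⟶ X).appLE W W' e).hom.toAlgebra
  exact ⟨(sectionsLinearEquiv ((Scheme.Modules.pullbackId X).app F) W').symm ≪≫ₗ
    pullbackΓLinearEquiv (𝟙 X) F hW hW' e⟩

theorem projective_sections_of_le (F : X.Modules) [F.IsQuasicoherent] {W W' : X.Opens}
    (hW : IsAffineOpen W) (hW' : IsAffineOpen W') (e : W' ≤ W)
    (h : Module.Projective Γ(X, W) Γ(F, W)) : Module.Projective Γ(X, W') Γ(F, W') := by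
  have e' : W' ≤ (𝟙 X) ⁻¹ᵁ W := e
  letI : Algebra Γ(X, W) Γ(X, W') := ((𝟙 X : X ⟶ X).appLE W W' e').hom.toAlgebra
  obtain ⟨E⟩ := nonempty_sections_linearEquiv_tensor F hW hW' e'
  exact Module.Projective.of_equiv E.symm

theorem appLE_id_eq {U V : X.Opens} (e : V ≤ U) :
    ((𝟙 X : X ⟶ X).appLE U V e) = X.presheaf.map (homOfLE e).op := by
  rw [Scheme.Hom.appLE]
  simp only [Scheme.Hom.id_app]
  exact Category.id_comp _

/-- `F(U)` is projective if the affine open `U` is covered by affine opens `W ≤ U` with `F(W)`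
projective. -/
theorem projective_sections_of_cover (F : X.Modules) [F.IsQuasicoherent] {U : X.Opens}
    (hU : IsAffineOpen U)
    (h : ∀ x ∈ U, ∃ W : X.Opens, IsAffineOpen W ∧ x ∈ W ∧ W ≤ U ∧
      Module.Projective Γ(X, W) Γ(F, W)) :
    Module.Projective Γ(X, U) Γ(F, U) := by
  classical
  have key : ∀ x : U, ∃ g : Γ(X, U), (x : X) ∈ X.basicOpen g ∧
      Module.Projective Γ(X, X.basicOpen g) Γ(F, X.basicOpen g) := by
    intro x
    obtain ⟨W, hW, hxW, hWU, hproj⟩ := h x.1 x.2
    obtain ⟨g, hgW, hxg⟩ := hU.exists_basicOpen_le (V := W) ⟨x.1, hxW⟩ x.2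
    exact ⟨g, hxg, projective_sections_of_le F hW (hU.basicOpen g) hgW hproj⟩
  choose g hxg hproj using key
  have hspan : Ideal.span (Set.range g) = ⊤ := by
    rw [← hU.self_le_iSup_basicOpen_iff]
    intro x hx
    exact Opens.mem_iSup.2 ⟨⟨g ⟨x, hx⟩, ⟨x, hx⟩, rfl⟩, hxg ⟨x, hx⟩⟩
  obtain ⟨s, hs, hs'⟩ := (Ideal.span_eq_top_iff_finite _).1 hspan
  let f : {r // r ∈ s} → Γ(X, U) := Subtype.val
  have hspanf : Ideal.span (Set.range f) = ⊤ := by
    have : Set.range f = (s : Set Γ(X, U)) := by
      ext r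
      simp [f]
    rw [this]
    exact hs'
  have hr : ∀ r : {r // r ∈ s},
      Module.Projective Γ(X, X.basicOpen r.1) Γ(F, X.basicOpen r.1) := by
    rintro ⟨r, hrs⟩
    obtain ⟨x, rfl⟩ := hs hrs
    exact hproj x
  let B : {r // r ∈ s} → Type u := fun r => Γ(X, X.basicOpen r.1)
  letI : ∀ r, Algebra Γ(X, U) (B r) := fun r =>
    ((𝟙 X : X ⟶ X).appLE U (X.basicOpen r.1) (X.basicOpen_le r.1)).hom.toAlgebra
  haveI : ∀ r, IsLocalization.Away (f r) (B r) := fun r => by
    have halg : (((𝟙 X : X ⟶ X).appLE U (X.basicOpen r.1) (X.basicOpen_le r.1)).hom.toAlgebra :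
        Algebra Γ(X, U) Γ(X, X.basicOpen r.1)) = Scheme.algebra_section_section_basicOpen r.1 := by
      apply Algebra.algebra_ext
      intro a
      change ((𝟙 X : X ⟶ X).appLE U (X.basicOpen r.1) (X.basicOpen_le r.1)).hom a =
        (X.presheaf.map (homOfLE (X.basicOpen_le r.1)).op).hom a
      rw [appLE_id_eq]
    change @IsLocalization.Away _ _ r.1 Γ(X, X.basicOpen r.1) _
      (((𝟙 X : X ⟶ X).appLE U (X.basicOpen r.1) (X.basicOpen_le r.1)).hom.toAlgebra)
    rw [halg]
    exact hU.isLocalization_basicOpen r.1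
  refine projective_of_isLocalization_away Γ(F, U) f hspanf B (fun r => ?_)
  obtain ⟨E⟩ := nonempty_sections_linearEquiv_tensor F hU (hU.basicOpen r.1) (X.basicOpen_le r.1)
  haveI := hr r
  exact Module.Projective.of_equiv E

/-- pullback of a locally projective quasi-coherent module is locally projective -/
theorem projective_sections_pullback {Y : Scheme.{u}} (f : X ⟶ Y) (G : Y.Modules)
    [G.IsQuasicoherent]
    (hG : ∀ V : Y.Opens, IsAffineOpen V → Module.Projective Γ(Y, V) Γ(G, V))
    (U : X.Opens) (hU : IsAffineOpen U) :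
    Module.Projective Γ(X, U) Γ((Scheme.Modules.pullback f).obj G, U) := by
  haveI : ((Scheme.Modules.pullback f).obj G).IsQuasicoherent := isQuasicoherent_pullback f G
  apply projective_sections_of_cover _ hU
  intro x hx
  obtain ⟨V, hV, hfxV, -⟩ := Opens.isBasis_iff_nbhd.1 Y.isBasis_affineOpens
    (show f x ∈ (⊤ : Y.Opens) from trivial)
  obtain ⟨W, hW, hxW, hWle⟩ := Opens.isBasis_iff_nbhd.1 X.isBasis_affineOpens
    (show x ∈ U ⊓ f ⁻¹ᵁ V from ⟨hx, hfxV⟩)
  refine ⟨W, hW, hxW, hWle.trans inf_le_left, ?_⟩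
  have e : W ≤ f ⁻¹ᵁ V := hWle.trans inf_le_right
  letI : Algebra Γ(Y, V) Γ(X, W) := (f.appLE V W e).hom.toAlgebra
  haveI := hG V hV
  exact Module.Projective.of_equiv (pullbackΓLinearEquiv f G hV hW e).symm

/-- local projectivity can be checked on an affine open cover -/
theorem projective_sections_of_affine_cover (F : X.Modules) [F.IsQuasicoherent]
    {I : Type*} (V : I → X.Opens) (hV : (⨆ i, V i) = ⊤)
    (h : ∀ i, IsAffineOpen (V i) ∧ Module.Projective Γ(X, V i) Γ(F, V i))
    (U : X.Opens) (hU : IsAffineOpen U) : Module.Projective Γ(X, U) Γ(F, U) := by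
  apply projective_sections_of_cover _ hU
  intro x hx
  have hx' : x ∈ ⨆ i, V i := by rw [hV]; trivial
  obtain ⟨i, hi⟩ := Opens.mem_iSup.1 hx'
  obtain ⟨W, hW, hxW, hWle⟩ := Opens.isBasis_iff_nbhd.1 X.isBasis_affineOpens
    (show x ∈ U ⊓ V i from ⟨hx, hi⟩)
  exact ⟨W, hW, hxW, hWle.trans inf_le_left,
    projective_sections_of_le F (h i).1 hW (hWle.trans inf_le_right) (h i).2⟩

end Groth.Agent.Lib.Helper61.LocProj
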