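import Mathlib

/-!
# A finite ring map cannot map a nowhere dense closed set onto an open set (helper61)

Ring-theoretic core of Stacks 29.48.7 / 03I1, valid without Noetherian hypotheses.
-/

namespace Groth.Agent.Lib.Helper61.NowhereDense

variable {A B : Type*} [CommRing A] [CommRing B] [Algebra A B]

/-- In a minimal prime every element is nilpotent after multiplying by an element outside. -/
lemma exists_mul_pow_eq_zero_of_mem_minimalPrimes {q : Ideal B} (hq : q ∈ minimalPrimes B)
    {x : B} (hx : x ∈ q) : ∃ t : B, t ∉ q ∧ ∃ n : ℕ, t * x ^ n = 0 := by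
  haveI : q.IsPrime := hq.1.1
  by_contra hcon
  push Not at hcon
  let S : Submonoid B := q.primeCompl ⊔ Submonoid.powers x
  have hdisj : Disjoint ((⊥ : Ideal B) : Set B) S := by
    rw [Set.disjoint_left]
    intro y hy hyS
    have hy0 : y = 0 := hy
    obtain ⟨t, ht, z, ⟨n, rfl⟩, htz⟩ := Submonoid.mem_sup.mp hyS
    exact hcon t ht n (htz.trans hy0)
  obtain ⟨q', hq', -, hq'S⟩ := Ideal.exists_le_prime_disjoint ⊥ S hdisj
  have hle : q' ≤ q := by
    intro y hy
    by_contra hyq
    exact Set.disjoint_left.mp hq'S hy (Submonoid.mem_sup_left hyq)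
  have hqq' : q ≤ q' := hq.2 ⟨hq', bot_le⟩ hle
  exact Set.disjoint_left.mp hq'S (hqq' hx) (Submonoid.mem_sup_right (Submonoid.mem_powers x))

/-- **Key lemma.** Let `A → B` be finite, `J` an ideal of `B` and `a ∈ A` non-nilpotent such that
every prime of `D(a)` is the contraction of a prime containing `J`. Then `V(J)` contains a
non-empty basic open subset of `Spec B`. -/
theorem exists_basicOpen_subset_zeroLocus [Module.Finite A B] (J : Ideal B) (a : A)
    (ha : ¬ IsNilpotent a)
    (hsurj : ∀ p : Ideal A, p.IsPrime → a ∉ p →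
      ∃ q : Ideal B, q.IsPrime ∧ J ≤ q ∧ q.comap (algebraMap A B) = p) :
    ∃ t : B, (∃ q : Ideal B, q.IsPrime ∧ t ∉ q) ∧
      ∀ q : Ideal B, q.IsPrime → t ∉ q → J ≤ q := by
  classical
  let JA : Submodule A B := J.restrictScalars A
  let P : ℕ → Prop := fun r => ∃ s : A, ¬ IsNilpotent s ∧ a ∣ s ∧ ∃ F : Finset B, F.card = r ∧
    ∀ b : B, ∃ k : ℕ, s ^ k • b ∈ Submodule.span A (F : Set B) ⊔ JA
  obtain ⟨G, hG⟩ := (Module.Finite.fg_top : (⊤ : Submodule A B).FG)
  have hex : ∃ r, P r := by
    refine ⟨G.card, a, ha, dvd_rfl, G, rfl, fun b => ⟨0, ?_⟩⟩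
    rw [pow_zero, one_smul, hG]
    exact Submodule.mem_sup_left Submodule.mem_top
  obtain ⟨s, hs, has, F, hFr, hF⟩ := Nat.find_spec hex
  have hmin : ∀ r', r' < Nat.find hex → ¬ P r' := fun r' h => Nat.find_min hex h
  -- Claim 1: coefficients of relations are nilpotent after multiplying by `s`
  have claim1 : ∀ α : B → A, (∑ c ∈ F, α c • c) ∈ J → ∀ c ∈ F, IsNilpotent (s * α c) := by
    intro α hα c₀ hc₀
    by_contra hnil
    have hlt : (F.erase c₀).card < Nat.find hex := by
      rw [Finset.card_erase_of_mem hc₀, hFr]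
      have : 0 < F.card := Finset.card_pos.mpr ⟨c₀, hc₀⟩
      omega
    apply hmin _ hlt
    refine ⟨s * α c₀, hnil, has.mul_right _, F.erase c₀, rfl, ?_⟩
    set M : Submodule A B := Submodule.span A ((F.erase c₀ : Finset B) : Set B) ⊔ JA with hM
    have hc₀M : α c₀ • c₀ ∈ M := by
      have hsum : ∑ c ∈ F, α c • c = α c₀ • c₀ + ∑ c ∈ F.erase c₀, α c • c :=
        (Finset.add_sum_erase F _ hc₀).symm
      have h1 : α c₀ • c₀ = (∑ c ∈ F, α c • c) - ∑ c ∈ F.erase c₀, α c • c := by
        rw [hsum]; abel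
      rw [h1]
      refine M.sub_mem (Submodule.mem_sup_right hα) (Submodule.mem_sup_left ?_)
      exact Submodule.sum_mem _ fun c hc => Submodule.smul_mem _ _ (Submodule.subset_span hc)
    have hkey : ∀ x ∈ Submodule.span A (F : Set B) ⊔ JA, α c₀ • x ∈ M := by
      intro x hx
      obtain ⟨u, hu, j, hj, rfl⟩ := Submodule.mem_sup.mp hx
      rw [smul_add]
      refine M.add_mem ?_ (Submodule.mem_sup_right (JA.smul_mem _ hj))
      refine Submodule.span_induction (p := fun u _ => α c₀ • u ∈ M) ?_ ?_ ?_ ?_ hu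
      · intro c hc
        by_cases h : c = c₀
        · rw [h]; exact hc₀M
        · exact M.smul_mem _ (Submodule.mem_sup_left
            (Submodule.subset_span (Finset.mem_erase.mpr ⟨h, hc⟩)))
      · rw [smul_zero]; exact M.zero_mem
      · intro x y _ _ hx hy
        rw [smul_add]; exact M.add_mem hx hy
      · intro r x _ hx
        rw [smul_comm]; exact M.smul_mem _ hx
    intro b
    obtain ⟨k, hk⟩ := hF b
    refine ⟨k + 1, ?_⟩
    have h2 : (s * α c₀) ^ (k + 1) • b = (s * α c₀ ^ k) • (α c₀ • (s ^ k • b)) := by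
      simp only [smul_smul]
      congr 1
      ring
    rw [h2]
    exact M.smul_mem _ (hkey _ hk)
  have claim1' : ∀ u ∈ Submodule.span A (F : Set B), u ∈ J → s • u ∈ nilradical B := by
    intro u hu huJ
    obtain ⟨α, -, hα⟩ := Submodule.mem_span_finset.mp hu
    rw [← hα, Finset.smul_sum]
    refine (nilradical B).sum_mem fun c hc => ?_
    rw [smul_smul, Algebra.smul_def]
    refine (nilradical B).mul_mem_right _ ?_
    rw [mem_nilradical]
    exact (claim1 α (hα ▸ huJ) c hc).map (algebraMap A B)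
  -- Step 2: a uniform exponent and finitely many elements of `J`
  choose kf hkf using hF
  let K := G.sup kf
  have hK : ∀ g ∈ G, s ^ K • g ∈ Submodule.span A (F : Set B) ⊔ JA := by
    intro g hg
    have hle : kf g ≤ K := Finset.le_sup hg
    have h1 : s ^ K • g = s ^ (K - kf g) • (s ^ kf g • g) := by
      rw [smul_smul, ← pow_add, Nat.sub_add_cancel hle]
    rw [h1]
    exact Submodule.smul_mem _ _ (hkf g)
  have hdec : ∀ g ∈ G, ∃ u ∈ Submodule.span A (F : Set B), ∃ j ∈ J, s ^ K • g = u + j := by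
    intro g hg
    obtain ⟨u, hu, j, hj, h⟩ := Submodule.mem_sup.mp (hK g hg)
    exact ⟨u, hu, j, hj, h.symm⟩
  choose! uf huf jf hjf hdecf using hdec
  let T₀ : Finset B := G.image jf
  have hT₀J : ∀ j ∈ T₀, j ∈ J := by
    intro j hj
    obtain ⟨g, hg, rfl⟩ := Finset.mem_image.mp hj
    exact hjf g hg
  have hall : ∀ x : B, s ^ K • x ∈
      Submodule.span A (F : Set B) ⊔ Submodule.span A (T₀ : Set B) := by
    intro x
    have hx : x ∈ Submodule.span A (G : Set B) := hG ▸ Submodule.mem_top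
    refine Submodule.span_induction (p := fun x _ => s ^ K • x ∈
      Submodule.span A (F : Set B) ⊔ Submodule.span A (T₀ : Set B)) ?_ ?_ ?_ ?_ hx
    · intro g hg
      rw [hdecf g hg]
      exact add_mem (Submodule.mem_sup_left (huf g hg))
        (Submodule.mem_sup_right (Submodule.subset_span (Finset.mem_image_of_mem _ hg)))
    · rw [smul_zero]; exact Submodule.zero_mem _
    · intro x y _ _ hx hy
      rw [smul_add]; exact add_mem hx hy
    · intro r x _ hx
      rw [smul_comm]; exact Submodule.smul_mem _ _ hx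
  -- Step 3: a minimal prime of `A` avoiding `s` and a minimal prime of `B` over it
  obtain ⟨p₁, hp₁, hsp₁⟩ : ∃ p : Ideal A, p.IsPrime ∧ s ∉ p := by
    by_contra h
    push Not at h
    apply hs
    rw [← mem_nilradical, nilradical_eq_sInf, Ideal.mem_sInf]
    exact fun p hp => h p hp
  obtain ⟨p₀, hp₀, hp₀le⟩ := Ideal.exists_minimalPrimes_le (I := (⊥ : Ideal A)) (J := p₁) bot_le
  haveI hp₀prime : p₀.IsPrime := hp₀.1.1
  have hsp₀ : s ∉ p₀ := fun h => hsp₁ (hp₀le h)
  have hap₀ : a ∉ p₀ := by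
    intro h
    obtain ⟨c, hc⟩ := has
    exact hsp₀ (hc ▸ p₀.mul_mem_right _ h)
  obtain ⟨q, hq, hJq, hqp⟩ := hsurj p₀ hp₀prime hap₀
  have hqmin : q ∈ minimalPrimes B := by
    refine ⟨⟨hq, bot_le⟩, ?_⟩
    rintro q' ⟨hq', -⟩ hle
    by_contra hnle
    have hlt : q' < q := lt_of_le_of_ne hle (fun h => hnle (h ▸ le_rfl))
    have h1 := Ideal.IsIntegral.comap_lt_comap (R := A) hlt
    rw [hqp] at h1
    have h2 : p₀ ≤ q'.comap (algebraMap A B) :=
      hp₀.2 ⟨Ideal.comap_isPrime _ _, bot_le⟩ h1.le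
    exact absurd h1 (not_lt_of_ge h2)
  -- Step 4: the basic open
  have ht : ∀ j ∈ T₀, ∃ t : B, t ∉ q ∧ ∃ n : ℕ, t * j ^ n = 0 := fun j hj =>
    exists_mul_pow_eq_zero_of_mem_minimalPrimes hqmin (hJq (hT₀J j hj))
  choose! tf htf nf hnf using ht
  refine ⟨algebraMap A B s * ∏ j ∈ T₀, tf j, ⟨q, hq, ?_⟩, ?_⟩
  · intro hmem
    rcases hq.mem_or_mem hmem with h | h
    · apply hsp₀
      rw [← hqp]
      exact Ideal.mem_comap.mpr h
    · obtain ⟨j, hj, hjq⟩ := (Ideal.IsPrime.prod_mem_iff).mp h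
      exact htf j hj hjq
  · intro q' hq' htq' x hxJ
    have hsq' : algebraMap A B s ∉ q' := fun h => htq' (q'.mul_mem_right _ h)
    have hT₀q' : ∀ j ∈ T₀, j ∈ q' := by
      intro j hj
      have htj : tf j ∉ q' := by
        intro h
        apply htq'
        refine q'.mul_mem_left _ ?_
        obtain ⟨c, hc⟩ := Finset.dvd_prod_of_mem tf hj
        rw [hc]
        exact q'.mul_mem_right _ h
      have h0 : tf j * j ^ nf j ∈ q' := by
        rw [hnf j hj]; exact q'.zero_mem
      exact hq'.mem_of_pow_mem _ ((hq'.mem_or_mem h0).resolve_left htj)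
    obtain ⟨u, hu, j, hj, hsum⟩ := Submodule.mem_sup.mp (hall x)
    have hjJ : j ∈ J := by
      have hle : Submodule.span A (T₀ : Set B) ≤ JA := Submodule.span_le.mpr hT₀J
      exact hle hj
    have hjq' : j ∈ q' := by
      have hle : Submodule.span A (T₀ : Set B) ≤ q'.restrictScalars A :=
        Submodule.span_le.mpr hT₀q'
      exact hle hj
    have hxJ' : s ^ K • x ∈ J := JA.smul_mem _ hxJ
    have huJ : u ∈ J := by
      have h1 : u = s ^ K • x - j := by rw [← hsum]; abel
      rw [h1]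
      exact J.sub_mem hxJ' hjJ
    have hsu : s • u ∈ q' := by
      have h1 := claim1' u hu huJ
      rw [mem_nilradical] at h1
      obtain ⟨n, hn⟩ := h1
      exact hq'.mem_of_pow_mem n (hn ▸ q'.zero_mem)
    have h1 : s ^ (K + 1) • x ∈ q' := by
      have h2 : s ^ (K + 1) • x = s • u + s • j := by
        rw [← smul_add, hsum, smul_smul, ← pow_succ']
      rw [h2]
      exact q'.add_mem hsu ((q'.restrictScalars A).smul_mem _ hjq')
    rw [Algebra.smul_def, map_pow] at h1
    exact (hq'.mem_or_mem h1).resolve_left (fun h => hsq' (hq'.mem_of_pow_mem _ h))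

end Groth.Agent.Lib.Helper61.NowhereDense
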