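import Mathlib
import Groth.Agent.Lib.Helper61.NowhereDenseRing
import Groth.Agent.Lib.Helper61.GenFinDense

/-!
# Finite morphisms map closed nowhere dense sets to nowhere dense sets (helper61)

Stacks 29.48.7, without Noetherian hypotheses.
-/

universe u

open CategoryTheory CategoryTheory.Limits TopologicalSpace Topology AlgebraicGeometry

namespace Groth.Agent.Lib.Helper61.NowhereDense

open Groth.Agent.Lib.Helper61.BiratQF Groth.Agent.Lib.Helper61.BiratSpreadScheme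

variable {X Y : Scheme.{u}}

/-- Affine-local form: if `U ⟶ V` is finite on sections and the closed set `Z` contains no
non-empty open subset of `U`, then `f (Z ∩ U)` contains no non-empty open subset of `V`. -/
theorem eq_bot_of_subset_image_of_finite_appLE (f : X ⟶ Y) {V : Y.Opens} (hV : IsAffineOpen V)
    {U : X.Opens} (hU : IsAffineOpen U) (e : U ≤ f ⁻¹ᵁ V) (hfin : (f.appLE V U e).hom.Finite)
    (Z : Set X) (hZ : IsClosed Z)
    (hZ' : ∀ W : X.Opens, W ≤ U → (W : Set X) ⊆ Z → W = ⊥)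
    (N : Y.Opens) (hNV : N ≤ V) (hN : (N : Set Y) ⊆ f '' (Z ∩ U)) : N = ⊥ := by
  by_contra hne
  obtain ⟨y, hy⟩ : ∃ y : Y, y ∈ N := by
    by_contra hcon
    push Not at hcon
    apply hne
    ext y
    simp only [SetLike.mem_coe, Opens.coe_bot, Set.mem_empty_iff_false, iff_false]
    exact hcon y
  have hyV : y ∈ V := hNV hy
  obtain ⟨a, haN, hya⟩ := hV.exists_basicOpen_le (V := N) ⟨y, hy⟩ hyV
  simp only at hya
  set φ := (f.appLE V U e).hom with hφ
  letI : Algebra Γ(Y, V) Γ(X, U) := φ.toAlgebra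
  haveI : Module.Finite Γ(Y, V) Γ(X, U) := hfin
  let tset : Set (PrimeSpectrum Γ(X, U)) := (fun q : PrimeSpectrum Γ(X, U) => hU.fromSpec q) ⁻¹' Z
  have htset : IsClosed tset := hZ.preimage hU.fromSpec.continuous
  let J : Ideal Γ(X, U) := PrimeSpectrum.vanishingIdeal tset
  have hmemJ : ∀ x : U, x.1 ∈ Z → J ≤ (hU.primeIdealOf x).asIdeal := by
    intro x hx b hb
    have h1 : hU.primeIdealOf x ∈ tset := by
      change hU.fromSpec (hU.primeIdealOf x) ∈ Z
      rw [hU.fromSpec_primeIdealOf]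
      exact hx
    exact (PrimeSpectrum.mem_vanishingIdeal tset b).mp hb _ h1
  have ha : ¬ IsNilpotent a := by
    rintro ⟨n, hn⟩
    have h1 : a ∈ (hV.primeIdealOf ⟨y, hyV⟩).asIdeal :=
      (hV.primeIdealOf ⟨y, hyV⟩).2.mem_of_pow_mem n (hn ▸ Ideal.zero_mem _)
    exact (mem_primeIdealOf_iff hV ⟨y, hyV⟩ a).mp h1 hya
  have hsurj : ∀ p : Ideal Γ(Y, V), p.IsPrime → a ∉ p →
      ∃ q : Ideal Γ(X, U), q.IsPrime ∧ J ≤ q ∧ q.comap (algebraMap Γ(Y, V) Γ(X, U)) = p := by
    intro p hp hap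
    obtain ⟨y', hy'⟩ := primeIdealOf_surjective hV ⟨p, hp⟩
    have hy'a : y'.1 ∈ Y.basicOpen a := by
      by_contra hcon
      have := (mem_primeIdealOf_iff hV y' a).mpr hcon
      rw [hy'] at this
      exact hap this
    obtain ⟨x, ⟨hxZ, hxU⟩, hfx⟩ := hN (haN hy'a)
    refine ⟨(hU.primeIdealOf ⟨x, hxU⟩).asIdeal, (hU.primeIdealOf ⟨x, hxU⟩).2,
      hmemJ ⟨x, hxU⟩ hxZ, ?_⟩
    have hcomap := IsAffineOpen.comap_primeIdealOf_appLE V hV U hU e hxU
    have h3 : hV.primeIdealOf ⟨f x, e hxU⟩ = ⟨p, hp⟩ := by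
      rw [← hy']
      congr 1
      exact Subtype.ext hfx
    have h4 := congrArg PrimeSpectrum.asIdeal (hcomap.trans h3)
    exact h4
  obtain ⟨t, ⟨q₀, hq₀, htq₀⟩, H⟩ := exists_basicOpen_subset_zeroLocus J a ha hsurj
  have hWZ : ((X.basicOpen t : X.Opens) : Set X) ⊆ Z := by
    intro x hx
    have hxU : x ∈ U := X.basicOpen_le t hx
    have htx : t ∉ (hU.primeIdealOf ⟨x, hxU⟩).asIdeal := by
      intro hmem
      exact (mem_primeIdealOf_iff hU ⟨x, hxU⟩ t).mp hmem hx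
    have hJ := H _ (hU.primeIdealOf ⟨x, hxU⟩).2 htx
    have h1 : hU.primeIdealOf ⟨x, hxU⟩ ∈ PrimeSpectrum.zeroLocus (J : Set Γ(X, U)) := hJ
    rw [PrimeSpectrum.zeroLocus_vanishingIdeal_eq_closure, htset.closure_eq] at h1
    have h2 : hU.fromSpec (hU.primeIdealOf ⟨x, hxU⟩) ∈ Z := h1
    rw [hU.fromSpec_primeIdealOf] at h2
    exact h2
  have hbot := hZ' (X.basicOpen t) (X.basicOpen_le t) hWZ
  obtain ⟨x₀, hx₀⟩ := primeIdealOf_surjective hU ⟨q₀, hq₀⟩
  have hx₀t : x₀.1 ∈ X.basicOpen t := by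
    by_contra hcon
    have := (mem_primeIdealOf_iff hU x₀ t).mpr hcon
    rw [hx₀] at this
    exact htq₀ this
  rw [hbot] at hx₀t
  exact hx₀t

/-- A finite morphism maps closed nowhere dense sets to (closed) nowhere dense sets. -/
theorem isNowhereDense_image_of_isFinite (r : X ⟶ Y) [IsFinite r] (Z : Set X) (hZ : IsClosed Z)
    (hZ' : IsNowhereDense Z) : IsNowhereDense (r '' Z) := by
  have hcl : IsClosed (r '' Z) := r.isClosedMap _ hZ
  rw [hcl.isNowhereDense_iff]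
  rw [hZ.isNowhereDense_iff] at hZ'
  by_contra hne
  obtain ⟨y, hy⟩ := Set.nonempty_iff_ne_empty.mpr hne
  obtain ⟨_, ⟨V, hV, rfl⟩, hyV, hVsub⟩ :=
    Y.isBasis_affineOpens.exists_subset_of_mem_open hy isOpen_interior
  have hU : IsAffineOpen (r ⁻¹ᵁ V) := hV.preimage r
  have hfin : (r.appLE V (r ⁻¹ᵁ V) le_rfl).hom.Finite := by
    rw [Scheme.Hom.appLE_eq_app]
    exact r.finite_app V hV
  have hbot := eq_bot_of_subset_image_of_finite_appLE r hV hU le_rfl hfin Z hZ
    (fun W _ hWZ => by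
      have h1 : (W : Set X) ⊆ interior Z := interior_maximal hWZ W.2
      rw [hZ'] at h1
      ext x
      simp only [SetLike.mem_coe, Opens.coe_bot, Set.mem_empty_iff_false, iff_false]
      exact fun hx => h1 hx)
    V le_rfl
    (fun y' hy' => by
      obtain ⟨x, hxZ, hx⟩ := interior_subset (hVsub hy')
      refine ⟨x, ⟨hxZ, ?_⟩, hx⟩
      change r x ∈ V
      rw [hx]
      exact hy')
  rw [hbot] at hyV
  exact hyV

end Groth.Agent.Lib.Helper61.NowhereDense
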