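import Groth.Agent.Lib.BlowUp.PidCartier

/-!
# `P^1_k` as an integral proper curve over `k` (helper61)
-/

set_option autoImplicit false
universe u

open CategoryTheory CategoryTheory.Limits AlgebraicGeometry MvPolynomial

namespace Groth.Agent.Lib.Helper61.P1Curve

open Groth.Agent.Lib.Proj Groth.Agent.Lib.BlowUp.PidCartier

variable (k : Type u) [Field k]

instance isReduced_P1 : IsReduced (CohB1.ProjSpace 1 k) := by
  haveI : ∀ i, IsReduced ((openCover 1 k).X i) := by
    intro i
    change IsReduced (Spec (CommRingCat.of (MvPolynomial {j : Fin 2 // j ≠ i} k)))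
    infer_instance
  exact IsReduced.of_openCover _ (openCover 1 k)

instance isIntegral_P1 : IsIntegral (CohB1.ProjSpace 1 k) :=
  isIntegral_of_irreducibleSpace_of_isReduced _

instance finiteType_zero :
    Algebra.FiniteType (CohB1.polyGrading 1 k 0) (MvPolynomial (Fin (1 + 1)) k) := by
  classical
  refine ⟨⟨Finset.univ.image (X : Fin 2 → MvPolynomial (Fin 2) k), ?_⟩⟩
  rw [Finset.coe_image, Finset.coe_univ, Set.image_univ]
  exact adjoin_zero_range_X 1 k

instance isProper_toSpec : IsProper (CohB1.ProjSpace.toSpec 1 k) := by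
  unfold CohB1.ProjSpace.toSpec
  have h1 : IsProper (Proj.toSpecZero (CohB1.polyGrading 1 k)) := inferInstance
  have hbij : Function.Bijective (algebraMap k (CohB1.polyGrading 1 k 0)) := by
    constructor
    · intro a b hab
      have := congrArg Subtype.val hab
      exact MvPolynomial.C_injective _ _ this
    · rintro ⟨p, hp⟩
      have hp' : p.IsHomogeneous 0 := hp
      refine ⟨p.coeff 0, Subtype.ext ?_⟩
      exact (MvPolynomial.totalDegree_eq_zero_iff_eq_C.mp (by
        have := hp'.totalDegree_le; omega)).symm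
  have : IsIso (CommRingCat.ofHom (algebraMap k (CohB1.polyGrading 1 k 0))) :=
    (ConcreteCategory.isIso_iff_bijective _).mpr hbij
  have h2 : IsProper (Spec.map (CommRingCat.ofHom (algebraMap k (CohB1.polyGrading 1 k 0)))) :=
    inferInstance
  exact MorphismProperty.comp_mem (W := @IsProper) _ _ h1 h2

theorem not_isField_sections (i : Fin 2) :
    ¬ IsField Γ(CohB1.ProjSpace 1 k, stdOpen 1 k i) := by
  intro h
  exact Polynomial.not_isField k ((chartEquiv k i).symm.toMulEquiv.isField h)

theorem ringKrullDim_stalk_of_isClosed (x : CohB1.ProjSpace 1 k) (hx : IsClosed ({x} : Set _)) :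
    ringKrullDim ((CohB1.ProjSpace 1 k).presheaf.stalk x) = 1 := by
  have hx' : x ∈ (⨆ i : Fin 2, stdOpen 1 k i) := by
    rw [iSup_stdOpen]; trivial
  obtain ⟨i, hxi⟩ := TopologicalSpace.Opens.mem_iSup.1 hx'
  have hU : IsAffineOpen (stdOpen 1 k i) := isAffineOpen_stdOpen 1 k i
  haveI : IsDomain Γ(CohB1.ProjSpace 1 k, stdOpen 1 k i) :=
    (chartEquiv k i).toMulEquiv.isDomain (Polynomial k)
  haveI : IsPrincipalIdealRing Γ(CohB1.ProjSpace 1 k, stdOpen 1 k i) :=
    IsPrincipalIdealRing.of_surjective (chartEquiv k i).symm.toRingHom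
      (chartEquiv k i).symm.surjective
  haveI hmax : (hU.primeIdealOf ⟨x, hxi⟩).asIdeal.IsMaximal :=
    hU.primeIdealOf_isMaximal_of_isClosed ⟨x, hxi⟩ hx
  let _ := TopCat.Presheaf.algebra_section_stalk (CohB1.ProjSpace 1 k).presheaf
    (⟨x, hxi⟩ : stdOpen 1 k i)
  have hloc := hU.isLocalization_stalk ⟨x, hxi⟩
  rw [IsLocalization.AtPrime.ringKrullDim_eq_height (hU.primeIdealOf ⟨x, hxi⟩).asIdeal,
    IsPrincipalIdealRing.height_eq_one_of_isMaximal _ (not_isField_sections k i)]
  rfl

end Groth.Agent.Lib.Helper61.P1Curve
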