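import Mathlib
import Groth.Agent.Lib.QCoh.Helper50_PrinPartQC
import Groth.Agent.Lib.QCoh.Helper50_Pullback
import Groth.Agent.Lib.Helper20.PushStalk
import Groth.Agent.Lib.Helper99.SPush1
import Groth.Agent.Lib.Helper25.GenPSpSheaf4
import Groth.Agent.Lib.QCoh.Helper18_ZClosStalk
import Groth.Agent.S5969

/-!
# Flatness of `P^n_{X/S}` and exactness of `F ↦ P^n_{X/S}(F)` (helper61)
-/

set_option autoImplicit false
universe u
open CategoryTheory CategoryTheory.Limits AlgebraicGeometry Opposite TopologicalSpace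

namespace Groth.Agent.Lib.Helper61.PrinPartFlat

open Groth.Agent.Lib.QCoh Groth.Agent.Lib.Helper20.PushStalk

variable {N X : Scheme.{u}}

/-- For an inducing morphism `p : N ⟶ X` and an `O_N`-module `M ≅ O_N`, the stalk of `p_* M` at
`p z` is `O_{N,z}`, linearly over `O_{X,p z}`. -/
theorem nonempty_stalk_push_linearEquiv (p : N ⟶ X) (hp : Topology.IsInducing p.base)
    (M : N.Modules) (e : M ≅ Coh.structureModule N) (z : N) :
    letI : Algebra (X.presheaf.stalk (p z)) (N.presheaf.stalk z) := (p.stalkMap z).hom.toAlgebra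
    Nonempty (((Scheme.Modules.pushforward p).obj M).presheaf.stalk (p z)
      ≃ₗ[X.presheaf.stalk (p z)] N.presheaf.stalk z) := by
  letI : Algebra (X.presheaf.stalk (p z)) (N.presheaf.stalk z) := (p.stalkMap z).hom.toAlgebra
  have hb1 := pushStalk_bijective p hp M z
  have hb2 : Function.Bijective (stalkMap e.hom z) := ZClosLib.stalkMap_bijective_of_isIso e.hom z
  let T : ((Scheme.Modules.pushforward p).obj M).presheaf.stalk (p z)
      →ₗ[X.presheaf.stalk (p z)] N.presheaf.stalk z :=
    { toFun := fun m => RefHull74.oxEquiv z (stalkMap e.hom z (pushStalk p M z m))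
      map_add' := fun a b => by rw [map_add, map_add, map_add]
      map_smul' := fun r m => by
        have h1 := pushStalk_smul p M z r m
        have h2 := stalkMap_smul e.hom z (p.stalkMap z r) (pushStalk p M z m)
        simp only [RingHom.id_apply]
        refine (congrArg (RefHull74.oxEquiv z) (congrArg (stalkMap e.hom z) h1)).trans ?_
        refine (congrArg (RefHull74.oxEquiv z) h2).trans ?_
        refine (map_smul (RefHull74.oxEquiv z) _ _).trans ?_
        rfl }
  refine ⟨LinearEquiv.ofBijective T ?_⟩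
  exact (RefHull74.oxEquiv z).bijective.comp (hb2.comp hb1)

/-- If `p : N ⟶ X` is inducing and `p_* M` is a flat `O_X`-module for some `M ≅ O_N`, then `p` is
flat. -/
theorem flat_of_isFlat_push (p : N ⟶ X) (hp : Topology.IsInducing p.base)
    (M : N.Modules) (e : M ≅ Coh.structureModule N)
    (h : FlatMod.IsFlat ((Scheme.Modules.pushforward p).obj M)) : Flat p := by
  apply Flat.of_stalkMap
  intro z
  letI : Algebra (X.presheaf.stalk (p z)) (N.presheaf.stalk z) := (p.stalkMap z).hom.toAlgebra
  obtain ⟨E⟩ := nonempty_stalk_push_linearEquiv p hp M e z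
  haveI : Module.Flat (X.presheaf.stalk (p z))
      (((Scheme.Modules.pushforward p).obj M).presheaf.stalk (p z)) := h (p z)
  exact Module.Flat.of_linearEquiv E.symm

variable {S : Scheme.{u}} (f : X ⟶ S) (n : ℕ)

theorem flat_pr1 (hP : FlatMod.IsFlat (PrinPart.P f n)) : Flat (PrinPart.pr1 f n) :=
  flat_of_isFlat_push (PrinPart.pr1 f n) (PrinPartQC.pr1Homeo f n).isInducing
    ((Scheme.Modules.pullback (PrinPart.pr2 f n)).obj (Coh.structureModule X))
    (pullbackUnitIso (PrinPart.pr2 f n)) hP

theorem flat_pr2 (hP : FlatMod.IsFlat (PrinPart.P f n)) : Flat (PrinPart.pr2 f n) := by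
  obtain ⟨σ, -, hσσ, hσ1, -, -⟩ := Groth.Agent.S5969.result f n
  haveI : IsIso σ := ⟨σ, hσσ, hσσ⟩
  haveI := flat_pr1 f n hP
  rw [← hσ1]
  infer_instance

theorem preservesFiniteLimits_PMod (hP : FlatMod.IsFlat (PrinPart.P f n)) :
    PreservesFiniteLimits
      ((Scheme.Modules.pullback (PrinPart.pr2 f n)) ⋙
        (Scheme.Modules.pushforward (PrinPart.pr1 f n))) := by
  haveI := flat_pr2 f n hP
  haveI : PreservesFiniteLimits (Scheme.Modules.pullback (PrinPart.pr2 f n)) :=
    Groth.Agent.Lib.Helper25.GenPSpSheaf4.preservesFiniteLimits_pullback_of_flat _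
  haveI : PreservesFiniteLimits (Scheme.Modules.pushforward (PrinPart.pr1 f n)) := inferInstance
  exact comp_preservesFiniteLimits _ _

end Groth.Agent.Lib.Helper61.PrinPartFlat
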