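import Mathlib
import Groth.Prelude.Def_OmegaPn

/-!
# Maps between "principal parts"-type modules `p₁_* p₂^* F` (helper61)

ns `Groth.Agent.Lib.Helper61.PrinPartMap`.
* `pullSect_comp`: the pullback of sections along a composite is the composite of pullbacks, through `pullbackComp`.
* `PM p₁ p₂ F`, `dPM`: the generic shape of `PrinPart.PMod` / `PrinPart.dP`.
* `exists_map_of_comp`: for `t : N' ⟶ N`, a linear map `PM p₁ p₂ F ⟶ PM (t ≫ p₁) (t ≫ p₂) F` carrying `dPM` to `dPM`.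
-/

set_option autoImplicit false
universe u
open CategoryTheory CategoryTheory.Limits AlgebraicGeometry TopologicalSpace Opposite

namespace Groth.Agent.Lib.Helper61.PrinPartMap

variable {X N N' : Scheme.{u}}

theorem pullSect_comp (t : N' ⟶ N) (p : N ⟶ X) (F : X.Modules) (U : X.Opens) (s : Γ(F, U)) :
    ((Scheme.Modules.pullbackComp t p).hom.app F).app ((t ≫ p) ⁻¹ᵁ U)
      (OmegaSh.pullSect t ((Scheme.Modules.pullback p).obj F) (p ⁻¹ᵁ U) (OmegaSh.pullSect p F U s)) =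
    OmegaSh.pullSect (t ≫ p) F U s := by
  have h := unit_conjugateEquiv
    ((Scheme.Modules.pullbackPushforwardAdjunction p).comp
      (Scheme.Modules.pullbackPushforwardAdjunction t))
    (Scheme.Modules.pullbackPushforwardAdjunction (t ≫ p)) (Scheme.Modules.pullbackComp t p).inv F
  rw [Scheme.Modules.conjugateEquiv_pullbackComp_inv] at h
  have h2 := congr(($h).app U s)
  simp only [Adjunction.comp_unit_app, Scheme.Modules.Hom.comp_app, Functor.comp_obj,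
    Scheme.Modules.pushforward_map_app, Scheme.Modules.pushforwardComp_hom_app_app] at h2
  have h3 : (OmegaSh.pullSect t ((Scheme.Modules.pullback p).obj F) (p ⁻¹ᵁ U))
      ((OmegaSh.pullSect p F U) s) =
      (Scheme.Modules.Hom.app ((Scheme.Modules.pullbackComp t p).inv.app F) ((t ≫ p) ⁻¹ᵁ U))
        ((OmegaSh.pullSect (t ≫ p) F U) s) := h2
  rw [h3, ← ConcreteCategory.comp_apply, ← Scheme.Modules.Hom.comp_app, Iso.inv_hom_id_app]
  rfl

/-- naturality of a morphism of modules with respect to restriction, on elements -/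
theorem app_res {M M' : X.Modules} (φ : M ⟶ M') {U V : X.Opens} (i : V ⟶ U) (x : Γ(M, U)) :
    φ.app V (M.presheaf.map i.op x) = M'.presheaf.map i.op (φ.app U x) :=
  congr($(φ.mapPresheaf.naturality i.op) x)

variable (p₁ p₂ : N ⟶ X)

/-- the generic shape `p₁_* p₂^* F` of `PrinPart.PMod` -/
noncomputable abbrev PM (F : X.Modules) : X.Modules :=
  (Scheme.Modules.pushforward p₁).obj ((Scheme.Modules.pullback p₂).obj F)

/-- the generic shape of `PrinPart.dP` -/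
noncomputable def dPM (hp : ∀ U : X.Opens, p₁ ⁻¹ᵁ U = p₂ ⁻¹ᵁ U) (F : X.Modules) (U : X.Opens) :
    Γ(F, U) →+ Γ(PM p₁ p₂ F, U) :=
  (((Scheme.Modules.pullback p₂).obj F).presheaf.map (homOfLE (hp U).le).op).hom.comp
    (OmegaSh.pullSect p₂ F U).hom

theorem dPM_apply (hp : ∀ U : X.Opens, p₁ ⁻¹ᵁ U = p₂ ⁻¹ᵁ U) (F : X.Modules) (U : X.Opens)
    (s : Γ(F, U)) :
    dPM p₁ p₂ hp F U s = ((Scheme.Modules.pullback p₂).obj F).presheaf.map
      (homOfLE (hp U).le).op (OmegaSh.pullSect p₂ F U s) := rfl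

/-- the comparison map `p₁_* p₂^* F ⟶ (t ≫ p₁)_* (t ≫ p₂)^* F` -/
noncomputable def compMap (t : N' ⟶ N) (F : X.Modules) :
    PM p₁ p₂ F ⟶ PM (t ≫ p₁) (t ≫ p₂) F :=
  (Scheme.Modules.pushforward p₁).map
      ((Scheme.Modules.pullbackPushforwardAdjunction t).unit.app ((Scheme.Modules.pullback p₂).obj F)) ≫
    (Scheme.Modules.pushforwardComp t p₁).hom.app _ ≫
    (Scheme.Modules.pushforward (t ≫ p₁)).map ((Scheme.Modules.pullbackComp t p₂).hom.app F)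

theorem compMap_dPM (t : N' ⟶ N) (hp : ∀ U : X.Opens, p₁ ⁻¹ᵁ U = p₂ ⁻¹ᵁ U)
    (hq : ∀ U : X.Opens, (t ≫ p₁) ⁻¹ᵁ U = (t ≫ p₂) ⁻¹ᵁ U) (F : X.Modules) (U : X.Opens)
    (s : Γ(F, U)) :
    (compMap p₁ p₂ t F).app U (dPM p₁ p₂ hp F U s) = dPM (t ≫ p₁) (t ≫ p₂) hq F U s := by
  rw [dPM_apply, dPM_apply, ← pullSect_comp t p₂ F U s]
  simp only [compMap, Scheme.Modules.Hom.comp_app, Scheme.Modules.pushforward_map_app,
    Scheme.Modules.pushforwardComp_hom_app_app]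
  have h1 := OmegaSh.pullSect_map t ((Scheme.Modules.pullback p₂).obj F) (hp U).le
    (OmegaSh.pullSect p₂ F U s)
  change (Scheme.Modules.Hom.app ((Scheme.Modules.pullbackComp t p₂).hom.app F) ((t ≫ p₁) ⁻¹ᵁ U))
    ((OmegaSh.pullSect t ((Scheme.Modules.pullback p₂).obj F) (p₁ ⁻¹ᵁ U))
      (((Scheme.Modules.pullback p₂).obj F).presheaf.map (homOfLE (hp U).le).op
        (OmegaSh.pullSect p₂ F U s))) = _
  rw [h1]
  exact app_res ((Scheme.Modules.pullbackComp t p₂).hom.app F) _ _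

/-- **comparison map**: for `t : N' ⟶ N` with `t ≫ p₁ = q₁`, `t ≫ p₂ = q₂`, a linear map
`p₁_* p₂^* F ⟶ q₁_* q₂^* F` carrying `dPM` to `dPM`. -/
theorem exists_map_of_comp (t : N' ⟶ N) (q₁ q₂ : N' ⟶ X) (h1 : t ≫ p₁ = q₁) (h2 : t ≫ p₂ = q₂)
    (hp : ∀ U : X.Opens, p₁ ⁻¹ᵁ U = p₂ ⁻¹ᵁ U) (hq : ∀ U : X.Opens, q₁ ⁻¹ᵁ U = q₂ ⁻¹ᵁ U)
    (F : X.Modules) :
    ∃ r : PM p₁ p₂ F ⟶ PM q₁ q₂ F, ∀ (U : X.Opens) (s : Γ(F, U)),
      r.app U (dPM p₁ p₂ hp F U s) = dPM q₁ q₂ hq F U s := by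
  subst h1 h2
  exact ⟨compMap p₁ p₂ t F, compMap_dPM p₁ p₂ t hp hq F⟩

section PrinPart

variable {S : Scheme.{u}} (f : X ⟶ S)

theorem infNbhdMap_pr1 {n m : ℕ} (h : n ≤ m) :
    PrinPart.infNbhdMap (PrinPart.diagCl f) h ≫ PrinPart.pr1 f m = PrinPart.pr1 f n := by
  simp [PrinPart.pr1, PrinPart.nbhdι]

theorem infNbhdMap_pr2 {n m : ℕ} (h : n ≤ m) :
    PrinPart.infNbhdMap (PrinPart.diagCl f) h ≫ PrinPart.pr2 f m = PrinPart.pr2 f n := by
  simp [PrinPart.pr2, PrinPart.nbhdι]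

/-- the transition map `P^m(F) ⟶ P^n(F)` for `n ≤ m`, compatible with `d^m`, `d^n` -/
theorem exists_transition {n m : ℕ} (h : n ≤ m) (F : X.Modules) :
    ∃ r : PrinPart.PMod f m F ⟶ PrinPart.PMod f n F, ∀ (U : X.Opens) (s : Γ(F, U)),
      r.app U (PrinPart.dP f m F U s) = PrinPart.dP f n F U s :=
  exists_map_of_comp (PrinPart.pr1 f m) (PrinPart.pr2 f m)
    (PrinPart.infNbhdMap (PrinPart.diagCl f) h) (PrinPart.pr1 f n) (PrinPart.pr2 f n)
    (infNbhdMap_pr1 f h) (infNbhdMap_pr2 f h) (PrinPart.preimage_pr1 f m)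
    (PrinPart.preimage_pr1 f n) F

end PrinPart

end Groth.Agent.Lib.Helper61.PrinPartMap
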