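import Groth.Agent.Lib.Helper61.PrinPartMap

/-!
# First order principal parts (helper61)

ns `Groth.Agent.Lib.Helper61.PrinPartOne`.
* `mul_eq_zero_of_app_eq_zero`: on the first infinitesimal neighbourhood `V(K²)` of `Y = V(K)`, two functions
  vanishing on `Y` have product zero.
-/

set_option autoImplicit false
universe u
open CategoryTheory CategoryTheory.Limits AlgebraicGeometry TopologicalSpace Opposite

namespace Groth.Agent.Lib.Helper61.PrinPartOne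

theorem mul_eq_zero_of_app_eq_zero {Z Y : Scheme.{u}} (K : Z.IdealSheafData)
    (τ : Y ⟶ (K ^ 2).subscheme) [QuasiCompact (τ ≫ (K ^ 2).subschemeι)]
    (hK : (τ ≫ (K ^ 2).subschemeι).ker = K) (W : (K ^ 2).subscheme.Opens)
    (x y : Γ((K ^ 2).subscheme, W)) (hx : τ.app W x = 0) (hy : τ.app W y = 0) : x * y = 0 := by
  set ι := (K ^ 2).subschemeι with hι
  refine (K ^ 2).subscheme.IsSheaf.section_ext (U := op W) fun w hw => ?_
  obtain ⟨V', hV'o, hV'⟩ := (Scheme.Hom.isEmbedding ι).isInducing.isOpen_iff.mp W.2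
  have hιw : ι w ∈ V' := by
    have : w ∈ ι.base ⁻¹' V' := by rw [hV']; exact hw
    exact this
  obtain ⟨_, ⟨V, hV : IsAffineOpen V, rfl⟩, hwV, hVV'⟩ :=
    Z.isBasis_affineOpens.exists_subset_of_mem_open hιw hV'o
  have hAW : ι ⁻¹ᵁ V ≤ W := by
    intro z hz
    have : z ∈ ι.base ⁻¹' V' := hVV' hz
    rw [hV'] at this
    exact this
  refine ⟨ι ⁻¹ᵁ V, hAW, hwV, ?_⟩
  let V₀ : Z.affineOpens := ⟨V, hV⟩
  obtain ⟨xt, hxt⟩ := (K ^ 2).subschemeι_app_surjective V₀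
    ((K ^ 2).subscheme.presheaf.map (homOfLE hAW).op x)
  obtain ⟨yt, hyt⟩ := (K ^ 2).subschemeι_app_surjective V₀
    ((K ^ 2).subscheme.presheaf.map (homOfLE hAW).op y)
  have key : ∀ (z : Γ((K ^ 2).subscheme, W)) (zt : Γ(Z, V)), τ.app W z = 0 →
      ι.app V zt = (K ^ 2).subscheme.presheaf.map (homOfLE hAW).op z → zt ∈ K.ideal V₀ := by
    intro z zt hz hzt
    have h1 : K.ideal V₀ = RingHom.ker ((τ ≫ ι).app V₀).hom := by
      rw [← Scheme.Hom.ker_apply, hK]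
    rw [h1, RingHom.mem_ker]
    have h2 : (τ ≫ ι).app V zt = τ.app (ι ⁻¹ᵁ V) (ι.app V zt) := rfl
    have h3 := congr($(τ.naturality (homOfLE hAW).op) z)
    change (τ ≫ ι).app V zt = 0
    rw [h2, hzt]
    change τ.app (ι ⁻¹ᵁ V) ((K ^ 2).subscheme.presheaf.map (homOfLE hAW).op z) = _ at h3
    rw [h3]
    change Y.presheaf.map _ (τ.app W z) = 0
    rw [hz, map_zero]
  have hxk := key x xt hx hxt
  have hyk := key y yt hy hyt
  have hxy : xt * yt ∈ (K ^ 2).ideal V₀ := by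
    rw [Scheme.IdealSheafData.ideal_pow, Pi.pow_apply, pow_two]
    exact Ideal.mul_mem_mul hxk hyk
  rw [← (K ^ 2).ker_subschemeι_app V₀, RingHom.mem_ker] at hxy
  rw [map_mul, map_zero, ← hxt, ← hyt, ← map_mul]
  exact hxy

/-- two morphisms with the same composite with `τ` have the same pullback of functions after `τ` -/
theorem app_app_eq_of_comp_eq {Y N X : Scheme.{u}} (τ : Y ⟶ N) (p₁ p₂ : N ⟶ X)
    (h : τ ≫ p₂ = τ ≫ p₁) (U : X.Opens) (e : p₁ ⁻¹ᵁ U ≤ p₂ ⁻¹ᵁ U) (a : Γ(X, U)) :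
    τ.app (p₁ ⁻¹ᵁ U) (N.presheaf.map (homOfLE e).op (p₂.app U a)) =
      τ.app (p₁ ⁻¹ᵁ U) (p₁.app U a) := by
  have h1 := congr($(τ.naturality (homOfLE e).op) (p₂.app U a))
  have h2 := congr($(Scheme.Hom.congr_app h U) a)
  change τ.app (p₁ ⁻¹ᵁ U) (N.presheaf.map (homOfLE e).op (p₂.app U a)) =
    Y.presheaf.map _ (τ.app (p₂ ⁻¹ᵁ U) (p₂.app U a)) at h1
  change τ.app (p₂ ⁻¹ᵁ U) (p₂.app U a) = Y.presheaf.map _ (τ.app (p₁ ⁻¹ᵁ U) (p₁.app U a)) at h2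
  have key : ∀ (g : op (τ ⁻¹ᵁ p₁ ⁻¹ᵁ U) ⟶ op (τ ⁻¹ᵁ p₁ ⁻¹ᵁ U)) (z : Γ(Y, τ ⁻¹ᵁ p₁ ⁻¹ᵁ U)),
      Y.presheaf.map g z = z := by
    intro g z
    rw [Subsingleton.elim g (𝟙 _), Y.presheaf.map_id]
    rfl
  rw [h1, h2, ← ConcreteCategory.comp_apply, ← Functor.map_comp]
  exact key _ _

/-- functions pulled back from the base along two morphisms with the same composite agree -/
theorem app_app_eq_of_comp_eq' {N X S : Scheme.{u}} (p₁ p₂ : N ⟶ X) (f : X ⟶ S)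
    (h : p₂ ≫ f = p₁ ≫ f) (V : S.Opens) (e : p₁ ⁻¹ᵁ (f ⁻¹ᵁ V) ≤ p₂ ⁻¹ᵁ (f ⁻¹ᵁ V)) (c : Γ(S, V)) :
    N.presheaf.map (homOfLE e).op (p₂.app (f ⁻¹ᵁ V) (f.app V c)) =
      p₁.app (f ⁻¹ᵁ V) (f.app V c) := by
  have h2 := congr($(Scheme.Hom.congr_app h V) c)
  change p₂.app (f ⁻¹ᵁ V) (f.app V c) = N.presheaf.map _ (p₁.app (f ⁻¹ᵁ V) (f.app V c)) at h2
  have key : ∀ (g : op (p₁ ⁻¹ᵁ f ⁻¹ᵁ V) ⟶ op (p₁ ⁻¹ᵁ f ⁻¹ᵁ V)) (z : Γ(N, p₁ ⁻¹ᵁ f ⁻¹ᵁ V)),
      N.presheaf.map g z = z := by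
    intro g z
    rw [Subsingleton.elim g (𝟙 _), N.presheaf.map_id]
    rfl
  rw [h2, ← ConcreteCategory.comp_apply, ← Functor.map_comp]
  exact key _ _

section PP

variable {X S : Scheme.{u}} (f : X ⟶ S)

/-- `c ↦ c₂`: the function `p₂♯ c` read over `p₁⁻¹ U` -/
noncomputable def c2 (n : ℕ) (U : X.Opens) (c : Γ(X, U)) : Γ(PrinPart.nbhd f n, PrinPart.pr1 f n ⁻¹ᵁ U) :=
  (PrinPart.nbhd f n).presheaf.map (homOfLE (PrinPart.preimage_pr1 f n U).le).op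
    ((PrinPart.pr2 f n).app U c)

/-- reading a section of `P^n(F)` over `U` as a section of `p₂^* F` over `p₁⁻¹ U` (the identity) -/
def toM (n : ℕ) (F : X.Modules) (U : X.Opens) : Γ(PrinPart.PMod f n F, U) →+
    Γ((Scheme.Modules.pullback (PrinPart.pr2 f n)).obj F, PrinPart.pr1 f n ⁻¹ᵁ U) where
  toFun x := x
  map_zero' := rfl
  map_add' _ _ := rfl

theorem toM_injective (n : ℕ) (F : X.Modules) (U : X.Opens) : Function.Injective (toM f n F U) :=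
  fun _ _ h => h

theorem toM_dP_strSect (n : ℕ) (U : X.Opens) (c : Γ(X, U)) :
    toM f n _ U (PrinPart.dP f n (Coh.structureModule X) U (OmegaSh.strSect X U c)) =
    c2 f n U c • toM f n _ U (PrinPart.dP f n (Coh.structureModule X) U (OmegaSh.strSect X U 1)) := by
  have h0 : OmegaSh.strSect X U c = c • OmegaSh.strSect X U 1 := by
    rw [← OmegaSh.strSect_mul, mul_one]
  rw [h0, PrinPart.dP_apply, PrinPart.dP_apply, OmegaSh.pullSect_smul]
  exact Scheme.Modules.map_smul _ _ _ _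

theorem toM_smul (n : ℕ) (F : X.Modules) (U : X.Opens) (a : Γ(X, U)) (x : Γ(PrinPart.PMod f n F, U)) :
    toM f n F U (a • x) = ((PrinPart.pr1 f n).app U a) • toM f n F U x := rfl

/-- **square zero**: `(a₂ - a₁)(b₂ - b₁) = 0` on the first infinitesimal neighbourhood of the diagonal -/
theorem sub_mul_sub_eq_zero (U : X.Opens) (a b : Γ(X, U)) :
    (c2 f 1 U a - (PrinPart.pr1 f 1).app U a) * (c2 f 1 U b - (PrinPart.pr1 f 1).app U b) = 0 := by
  have hτι : PrinPart.toNbhd f 1 ≫ ((PrinPart.diagCl f).ker ^ 2).subschemeι = PrinPart.diagCl f :=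
    PrinPart.toInfNbhd_ι (PrinPart.diagCl f) 1
  have hqc : QuasiCompact (PrinPart.toNbhd f 1 ≫ ((PrinPart.diagCl f).ker ^ 2).subschemeι) := by
    rw [hτι]; infer_instance
  have hK : (PrinPart.toNbhd f 1 ≫ ((PrinPart.diagCl f).ker ^ 2).subschemeι).ker =
      (PrinPart.diagCl f).ker := by rw [hτι]
  have hcomp : PrinPart.toNbhd f 1 ≫ PrinPart.pr2 f 1 = PrinPart.toNbhd f 1 ≫ PrinPart.pr1 f 1 := by
    rw [PrinPart.toNbhd_pr1, PrinPart.toNbhd_pr2]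
  have hz : ∀ c : Γ(X, U), (PrinPart.toNbhd f 1).app (PrinPart.pr1 f 1 ⁻¹ᵁ U)
      (c2 f 1 U c - (PrinPart.pr1 f 1).app U c) = 0 := by
    intro c
    rw [map_sub, sub_eq_zero]
    exact app_app_eq_of_comp_eq (PrinPart.toNbhd f 1) (PrinPart.pr1 f 1) (PrinPart.pr2 f 1) hcomp U
      (PrinPart.preimage_pr1 f 1 U).le c
  exact mul_eq_zero_of_app_eq_zero (PrinPart.diagCl f).ker (PrinPart.toNbhd f 1) hK
    (PrinPart.pr1 f 1 ⁻¹ᵁ U) _ _ (hz a) (hz b)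

theorem c2_mul (n : ℕ) (U : X.Opens) (a b : Γ(X, U)) : c2 f n U (a * b) = c2 f n U a * c2 f n U b := by
  simp only [c2, map_mul]

/-- **first-order product rule** for `d^1` on functions -/
theorem dP_one_mul (U : X.Opens) (a b : Γ(X, U)) :
    PrinPart.dP f 1 (Coh.structureModule X) U (OmegaSh.strSect X U (a * b)) =
      a • PrinPart.dP f 1 (Coh.structureModule X) U (OmegaSh.strSect X U b) +
        b • PrinPart.dP f 1 (Coh.structureModule X) U (OmegaSh.strSect X U a) -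
        (a * b) • PrinPart.dP f 1 (Coh.structureModule X) U (OmegaSh.strSect X U 1) := by
  apply toM_injective f 1 _ U
  rw [map_sub, map_add, toM_smul, toM_smul, toM_smul, toM_dP_strSect f 1 U (a * b),
    toM_dP_strSect f 1 U a, toM_dP_strSect f 1 U b, c2_mul, map_mul]
  have h := sub_mul_sub_eq_zero f U a b
  have h' : c2 f 1 U a * c2 f 1 U b = (PrinPart.pr1 f 1).app U a * c2 f 1 U b +
      (PrinPart.pr1 f 1).app U b * c2 f 1 U a -
      (PrinPart.pr1 f 1).app U a * (PrinPart.pr1 f 1).app U b := by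
    linear_combination h
  rw [h', sub_smul, add_smul, mul_smul, mul_smul]

/-- functions from the base: `d^1 (f♯ c) = f♯ c • d^1 1` -/
theorem dP_base (n : ℕ) (V : S.Opens) (c : Γ(S, V)) :
    PrinPart.dP f n (Coh.structureModule X) (f ⁻¹ᵁ V) (OmegaSh.strSect X (f ⁻¹ᵁ V) (f.app V c)) =
      (f.app V c) • PrinPart.dP f n (Coh.structureModule X) (f ⁻¹ᵁ V)
        (OmegaSh.strSect X (f ⁻¹ᵁ V) 1) := by
  apply toM_injective f n _ (f ⁻¹ᵁ V)
  rw [toM_smul, toM_dP_strSect f n (f ⁻¹ᵁ V) (f.app V c)]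
  congr 1
  exact app_app_eq_of_comp_eq' (PrinPart.pr1 f n) (PrinPart.pr2 f n) f (PrinPart.pr1_comp f n).symm V
    (PrinPart.preimage_pr1 f n (f ⁻¹ᵁ V)).le c

end PP

end Groth.Agent.Lib.Helper61.PrinPartOne
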