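import Groth.Agent.Lib.Helper61.PrinPartMap
import Groth.Agent.S5979

/-!
# Principal parts of order zero (helper61)

ns `Groth.Agent.Lib.Helper61.PrinPartZero`.
* `exists_unit_of_eq`: if `p₁ = p₂` then `dPM p₁ p₂` is the unit `F ⟶ p_* p^* F` on sections (so it is `O_X`-linear),
  an isomorphism when `p₂` is.
* `exists_iso_dP_zero`: an isomorphism `η : F ≅ P^0_{X/S}(F)` of `O_X`-modules with `η = d^0` on sections.
-/

set_option autoImplicit false
universe u
open CategoryTheory CategoryTheory.Limits AlgebraicGeometry TopologicalSpace Opposite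

namespace Groth.Agent.Lib.Helper61.PrinPartZero

open Groth.Agent.Lib.Helper61.PrinPartMap

variable {X N : Scheme.{u}}

theorem exists_unit_of_eq (p₁ p₂ : N ⟶ X) (h : p₁ = p₂)
    (hp : ∀ U : X.Opens, p₁ ⁻¹ᵁ U = p₂ ⁻¹ᵁ U) (F : X.Modules) :
    ∃ η : F ⟶ PM p₁ p₂ F, (∀ (U : X.Opens) (t : Γ(F, U)), η.app U t = dPM p₁ p₂ hp F U t) ∧
      (IsIso p₂ → IsIso η) := by
  subst h
  refine ⟨(Scheme.Modules.pullbackPushforwardAdjunction p₁).unit.app F, fun U t => ?_, fun hiso => ?_⟩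
  · rw [dPM_apply]
    have h1 : homOfLE (hp U).le = 𝟙 _ := Subsingleton.elim _ _
    rw [h1]
    simp
    rfl
  · have h1 : IsIso (Scheme.Modules.pullbackPushforwardAdjunction p₁).unit := inferInstance
    infer_instance

variable {S : Scheme.{u}} (f : X ⟶ S)

theorem pr1_zero_eq_pr2_zero : PrinPart.pr1 f 0 = PrinPart.pr2 f 0 := by
  have h1 : IsIso (PrinPart.toNbhd f 0) := Groth.Agent.S5979.isIso_toInfNbhd_zero _
  rw [← cancel_epi (PrinPart.toNbhd f 0), PrinPart.toNbhd_pr1, PrinPart.toNbhd_pr2]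

theorem exists_iso_dP_zero (F : X.Modules) :
    ∃ η : F ⟶ PrinPart.PMod f 0 F, IsIso η ∧
      ∀ (U : X.Opens) (t : Γ(F, U)), η.app U t = PrinPart.dP f 0 F U t := by
  obtain ⟨η, h1, h2⟩ := exists_unit_of_eq (PrinPart.pr1 f 0) (PrinPart.pr2 f 0)
    (pr1_zero_eq_pr2_zero f) (PrinPart.preimage_pr1 f 0) F
  exact ⟨η, h2 (Groth.Agent.S5979.isIso_pr2_zero f), h1⟩

end Groth.Agent.Lib.Helper61.PrinPartZero
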