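import Mathlib
import Groth.Agent.Lib.Helper99.SPush1
import Groth.Agent.Lib.QCoh.Helper18_ZClosStalk
import Groth.Agent.S0484

/-!
# Direct image along a closed embedding preserves colimits and is a left adjoint (helper61)

* `preservesColimits_stalkFunctor` : the stalk functor on `O_X`-modules preserves colimits.
* `preservesColimits_pushforward_of_isClosedEmbedding`.
* `isLeftAdjoint_pushforward_of_isClosedEmbedding` (special adjoint functor theorem).
-/

set_option autoImplicit false
universe u
open CategoryTheory CategoryTheory.Limits AlgebraicGeometry Opposite TopologicalSpace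

namespace Groth.Agent.Lib.Helper61.PushClosedColim

open Groth.Agent.Lib.QCoh Groth.Agent.Lib.Helper20.PushStalk Groth.Agent.Lib.Helper99.SPush

theorem preservesColimit_of_forall_isZero {C E K : Type*} [Category C] [Category E] [Category K]
    [HasZeroMorphisms E] (D : K ⥤ C) (H : C ⥤ E) (h : ∀ X, IsZero (H.obj X)) :
    PreservesColimit D H := by
  refine ⟨fun {t} ht => ⟨?_⟩⟩
  exact
    { desc := fun s => 0
      fac := fun s j => (h _).eq_of_src _ _
      uniq := fun s m hm => (h _).eq_of_src _ _ }

instance preservesColimits_stalkFunctor (X : Scheme.{u}) (x : X) :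
    PreservesColimitsOfSize.{u, u} (stalkFunctor X x) := by
  classical
  have h1 : PreservesColimitsOfSize.{u, u} (SheafOfModules.toSheaf.{u} X.ringCatSheaf) :=
    toSheaf_preservesColimitsOfSize _
  have h2 : PreservesColimitsOfSize.{u, u} (TopCat.Sheaf.forget Ab.{u} X.toTopCat ⋙
      TopCat.Presheaf.stalkFunctor Ab.{u} x) :=
    (stalkSkyscraperSheafAdjunction (C := Ab.{u}) x).leftAdjoint_preservesColimits
  have h3 : PreservesColimitsOfSize.{u, u} (SheafOfModules.toSheaf X.ringCatSheaf ⋙
      (TopCat.Sheaf.forget Ab.{u} X.toTopCat ⋙ TopCat.Presheaf.stalkFunctor Ab.{u} x)) :=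
    @comp_preservesColimits _ _ _ _ _ _ _ _ h1 h2
  exact @preservesColimits_of_natIso _ _ _ _ _ _ (stalkFunctorIso x).symm h3

variable {Z A : Scheme.{u}}

/-- `(c_* -)_{c z} ≅ (-)_z` as functors. -/
noncomputable def pushStalkNatIso (c : Z ⟶ A) (hc : Topology.IsInducing c.base) (z : Z) :
    Scheme.Modules.pushforward c ⋙ stalkFunctor A (c.base z) ≅ stalkFunctor Z z :=
  NatIso.ofComponents
    (fun M => @asIso _ _ _ _ (pushStalk c M z)
        ((ConcreteCategory.isIso_iff_bijective _).2 (pushStalk_bijective c hc M z)))
    (fun {M N} g => by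
      ext m
      exact pushStalk_naturality c g z m)

theorem preservesColimits_pushforward_of_isClosedEmbedding (c : Z ⟶ A)
    (hc : Topology.IsClosedEmbedding c.base) :
    PreservesColimitsOfSize.{u, u} (Scheme.Modules.pushforward c) := by
  refine ⟨fun {K} _ => ⟨fun {D} => ?_⟩⟩
  haveI : IsIso (colimit.post D (Scheme.Modules.pushforward c)) := by
    apply ZClosLib.isIso_of_forall_stalkMap_bijective
    intro y
    have hy : PreservesColimit D (Scheme.Modules.pushforward c ⋙ stalkFunctor A y) := by
      by_cases hyr : y ∈ Set.range c.base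
      · obtain ⟨z, rfl⟩ := hyr
        exact preservesColimit_of_natIso D (pushStalkNatIso c hc.isInducing z).symm
      · apply preservesColimit_of_forall_isZero
        intro M
        haveI : Subsingleton ((Scheme.Modules.pushforward c ⋙ stalkFunctor A y).obj M) :=
          subsingleton_stalk_push_of_notMem_range c hc.isClosed_range M y hyr
        exact AddCommGrpCat.isZero_of_subsingleton _
    have h1 : IsIso (colimit.post D (Scheme.Modules.pushforward c ⋙ stalkFunctor A y)) :=
      inferInstance
    have h2 : IsIso (colimit.post (D ⋙ Scheme.Modules.pushforward c) (stalkFunctor A y)) :=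
      inferInstance
    have h3 := colimit.post_post D (Scheme.Modules.pushforward c) (stalkFunctor A y)
    have h4 : IsIso ((stalkFunctor A y).map (colimit.post D (Scheme.Modules.pushforward c))) := by
      have : IsIso (colimit.post (D ⋙ Scheme.Modules.pushforward c) (stalkFunctor A y) ≫
          (stalkFunctor A y).map (colimit.post D (Scheme.Modules.pushforward c))) := by
        rw [h3]; exact h1
      exact IsIso.of_isIso_comp_left
        (colimit.post (D ⋙ Scheme.Modules.pushforward c) (stalkFunctor A y)) _
    exact (ConcreteCategory.isIso_iff_bijective _).1 h4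
  exact preservesColimit_of_isIso_post _ _

theorem isLeftAdjoint_pushforward_of_isClosedEmbedding (c : Z ⟶ A)
    (hc : Topology.IsClosedEmbedding c.base) : (Scheme.Modules.pushforward c).IsLeftAdjoint := by
  haveI : IsGrothendieckAbelian.{u} Z.Modules :=
    Groth.Agent.S0484.result (Opens.grothendieckTopology Z) Z.ringCatSheaf
  haveI := preservesColimits_pushforward_of_isClosedEmbedding c hc
  obtain ⟨G, hG⟩ := (inferInstance : HasSeparator Z.Modules).hasSeparator
  exact isLeftAdjoint_of_preservesColimits_of_isSeparating hG (Scheme.Modules.pushforward c)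

end Groth.Agent.Lib.Helper61.PushClosedColim
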