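import Groth.Agent.Lib.Helper61.FibreAvoid
import Groth.Agent.Lib.Helper61.IntegralTriv

/-!
# helper61: affine opens with the same preimage under a closed immersion and an integral morphism

* `exists_basicOpen_preimage_le` : for `j : Z ⟶ Y` integral (closed map), a point `y` of an affine
  open `V` and an open `O ⊇ j⁻¹(y)`, there is a basic open `D(g) ∋ y` of `V` with `j⁻¹ D(g) ≤ O`.
* `exists_basicOpen_fibre` : for `j` integral, `V ∋ y` affine with `j⁻¹V` inside an affine open `Z₀`,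
  there is a basic open `D(f)` of `Z₀` with `j⁻¹(y) ⊆ D(f) ⊆ j⁻¹V`.
* `exists_affine_preimage_eq` : Stacks 0E26.
-/

universe u

open CategoryTheory AlgebraicGeometry TopologicalSpace Opposite

namespace Groth.Agent.Lib.Helper61.PushoutAffine

open Groth.Agent.Lib.Helper61.IntegralTriv Groth.Agent.Lib.Helper61.FibreAvoid

theorem exists_basicOpen_preimage_le {Z Y : Scheme.{u}} (j : Z ⟶ Y) [IsIntegralHom j] (y : Y)
    {V : Y.Opens} (hV : IsAffineOpen V) (hyV : y ∈ V) (O : Z.Opens)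
    (hO : j ⁻¹' {y} ⊆ (O : Set Z)) :
    ∃ g : Γ(Y, V), y ∈ Y.basicOpen g ∧ j ⁻¹ᵁ (Y.basicOpen g) ≤ O := by
  have hC : IsClosed (j '' ((O : Set Z)ᶜ)) := j.isClosedMap _ O.isOpen.isClosed_compl
  let W : Y.Opens := ⟨(j '' ((O : Set Z)ᶜ))ᶜ, hC.isOpen_compl⟩
  have hyW : y ∈ W := by
    rintro ⟨z, hz, hzy⟩
    exact hz (hO hzy)
  obtain ⟨g, hg1, hg2⟩ := hV.exists_basicOpen_le (V := W) ⟨y, hyW⟩ hyV
  refine ⟨g, hg2, ?_⟩
  intro z hz
  by_contra h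
  exact hg1 hz ⟨z, h, rfl⟩

theorem exists_basicOpen_fibre {Z Y : Scheme.{u}} (j : Z ⟶ Y) [IsIntegralHom j] (y : Y)
    {V : Y.Opens} (hV : IsAffineOpen V) (hyV : y ∈ V) {Z₀ : Z.Opens} (hZ₀ : IsAffineOpen Z₀)
    (hle : j ⁻¹ᵁ V ≤ Z₀) :
    ∃ f : Γ(Z, Z₀), Z.basicOpen f ≤ j ⁻¹ᵁ V ∧ j ⁻¹' {y} ⊆ (Z.basicOpen f : Set Z) := by
  set W := j ⁻¹ᵁ V with hWdef
  have hW : IsAffineOpen W := hV.preimage j
  let ρ : Γ(Z, Z₀) →+* Γ(Z, W) := (Z.presheaf.map (homOfLE hle).op).hom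
  letI : Algebra Γ(Y, V) Γ(Z, W) := (j.app V).hom.toAlgebra
  have : Algebra.IsIntegral Γ(Y, V) Γ(Z, W) := ⟨IsIntegralHom.isIntegral_app j V hV⟩
  let S : Set Γ(Z, Z₀) := {f | Z.basicOpen f ≤ W}
  have hchar : ∀ f : Γ(Z, Z₀), Z.basicOpen f ≤ W ↔
      ∀ z (hz : z ∈ Z₀), z ∉ W → f ∈ (hZ₀.primeIdealOf ⟨z, hz⟩).asIdeal := by
    intro f
    constructor
    · intro h z hz hzW
      by_contra hf
      exact hzW (h ((mem_basicOpen_iff_notMem_primeIdealOf hZ₀ ⟨z, hz⟩ f).2 hf))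
    · intro h z hz
      have hzZ₀ : z ∈ Z₀ := Z.basicOpen_le f hz
      by_contra hzW
      exact (mem_basicOpen_iff_notMem_primeIdealOf hZ₀ ⟨z, hzZ₀⟩ f).1 hz (h z hzZ₀ hzW)
  have hspan : ∀ f ∈ Ideal.span S, Z.basicOpen f ≤ W := by
    intro f hf
    rw [hchar]
    intro z hz hzW
    refine (Ideal.span_le.2 ?_) hf
    intro f' hf'
    exact (hchar f').1 hf' z hz hzW
  have hρ : ∀ b : Γ(Z, Z₀), Z.basicOpen (ρ b) = W ⊓ Z.basicOpen b := fun b =>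
    Scheme.basicOpen_res Z b (homOfLE hle).op
  have h1 : ∀ 𝔮 : Ideal Γ(Z, W), 𝔮.IsPrime → ∃ a ∈ S, ρ a ∉ 𝔮 := by
    intro 𝔮 h𝔮
    let z := hW.fromSpec ⟨𝔮, h𝔮⟩
    have hzW : z ∈ W := by
      have : z ∈ Set.range hW.fromSpec := ⟨_, rfl⟩
      rw [hW.range_fromSpec] at this
      exact this
    obtain ⟨f, hf1, hf2⟩ := hZ₀.exists_basicOpen_le (V := W) ⟨z, hzW⟩ (hle hzW)
    refine ⟨f, hf1, ?_⟩
    have h3 : z ∈ Z.basicOpen (ρ f) := by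
      rw [hρ]
      exact ⟨hzW, hf2⟩
    have h4 : (⟨𝔮, h𝔮⟩ : Spec Γ(Z, W)) ∈ hW.fromSpec ⁻¹ᵁ Z.basicOpen (ρ f) := h3
    rw [hW.fromSpec_preimage_basicOpen] at h4
    exact h4
  have h2 : ∀ a ∈ S, ∀ c : Γ(Z, W), ∃ (N : ℕ) (a' : Γ(Z, Z₀)), ρ a' = c * ρ a ^ N := by
    intro a ha c
    obtain ⟨n, a₁, h⟩ := exists_eq_pow_mul_of_isAffineOpen Z Z₀ hZ₀ a
      (Z.presheaf.map (homOfLE ha).op c)
    have r1 : ∀ b : Γ(Z, Z₀), Z.presheaf.map (homOfLE ha).op (ρ b) =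
        Z.presheaf.map (homOfLE (Z.basicOpen_le a)).op b := by
      intro b
      change (Z.presheaf.map (homOfLE hle).op ≫ Z.presheaf.map (homOfLE ha).op) b = _
      rw [← Functor.map_comp]
      rfl
    have h' : Z.presheaf.map (homOfLE (Z.basicOpen_le a)).op a₁ =
        (Z.presheaf.map (homOfLE (Z.basicOpen_le a)).op a) ^ n *
          Z.presheaf.map (homOfLE ha).op c := h
    have e1 : Z.presheaf.map (homOfLE ha).op (ρ a₁ - c * ρ a ^ n) = 0 := by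
      rw [map_sub, map_mul, map_pow, r1, r1, h']
      ring
    have hD' : Z.basicOpen (ρ a) ≤ Z.basicOpen a := by
      rw [hρ]
      exact inf_le_right
    have hx : (ρ a₁ - c * ρ a ^ n) |_ Z.basicOpen (ρ a) = 0 := by
      change Z.presheaf.map (homOfLE (Z.basicOpen_le (ρ a))).op (ρ a₁ - c * ρ a ^ n) = 0
      have e2 : Z.presheaf.map (homOfLE (Z.basicOpen_le (ρ a))).op (ρ a₁ - c * ρ a ^ n) =
          Z.presheaf.map (homOfLE hD').op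
            (Z.presheaf.map (homOfLE ha).op (ρ a₁ - c * ρ a ^ n)) := by
        change _ = (Z.presheaf.map (homOfLE ha).op ≫ Z.presheaf.map (homOfLE hD').op) _
        rw [← Functor.map_comp]
        rfl
      rw [e2, e1, map_zero]
    obtain ⟨m, hm⟩ := exists_pow_mul_eq_zero_of_res_basicOpen_eq_zero_of_isAffineOpen Z hW _ (ρ a) hx
    refine ⟨n + m, a ^ m * a₁, ?_⟩
    rw [map_mul, map_pow]
    linear_combination hm
  obtain ⟨f, hfS, hf⟩ := exists_mem_span_forall_notMem_of_integral ρ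
    (hV.primeIdealOf ⟨y, hyV⟩).asIdeal S h1 h2
  refine ⟨f, hspan f hfS, ?_⟩
  intro z hz
  have hzy : j z = y := hz
  have hzW : z ∈ W := by
    change j z ∈ V
    rw [hzy]
    exact hyV
  have hcomap : (hW.primeIdealOf ⟨z, hzW⟩).asIdeal.comap (algebraMap Γ(Y, V) Γ(Z, W)) =
      (hV.primeIdealOf ⟨y, hyV⟩).asIdeal := by
    have h5 := IsAffineOpen.comap_primeIdealOf_appLE (f := j) V hV W hW le_rfl hzW
    rw [← Scheme.Hom.app_eq_appLE] at h5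
    have h6 := congrArg PrimeSpectrum.asIdeal h5
    subst hzy
    exact h6
  have hq := hf (hW.primeIdealOf ⟨z, hzW⟩).asIdeal (hW.primeIdealOf ⟨z, hzW⟩).isPrime hcomap
  have hzmem : z ∈ Z.basicOpen (ρ f) :=
    (mem_basicOpen_iff_notMem_primeIdealOf hW ⟨z, hzW⟩ (ρ f)).2 hq
  rw [hρ] at hzmem
  exact hzmem.2

/-- Stacks 0E26: for a closed immersion `i : Z ⟶ X` and an integral `j : Z ⟶ Y`, if the fibre of `j`
over `y` lies in the preimage of an affine open of `X`, then there are affine opens `U` of `X` and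
`V ∋ y` of `Y` with the same preimage in `Z`. -/
theorem exists_affine_preimage_eq {X Y Z : Scheme.{u}} (i : Z ⟶ X) [IsClosedImmersion i]
    (j : Z ⟶ Y) [IsIntegralHom j] (y : Y) (U₀ : X.Opens) (hU₀ : IsAffineOpen U₀)
    (hfib : j ⁻¹' {y} ⊆ (i ⁻¹ᵁ U₀ : Set Z)) :
    ∃ (U : X.Opens) (V : Y.Opens), IsAffineOpen U ∧ IsAffineOpen V ∧ y ∈ V ∧
      i ⁻¹ᵁ U = j ⁻¹ᵁ V := by
  obtain ⟨_, ⟨V₀, hV₀ : IsAffineOpen V₀, rfl⟩, hyV₀, -⟩ :=
    Y.isBasis_affineOpens.exists_subset_of_mem_open (Set.mem_univ y) isOpen_univ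
  obtain ⟨g₀, hyg₀, hg₀⟩ := exists_basicOpen_preimage_le j y hV₀ hyV₀ (i ⁻¹ᵁ U₀) hfib
  have hV₁ : IsAffineOpen (Y.basicOpen g₀) := hV₀.basicOpen g₀
  have hZ₀ : IsAffineOpen (i ⁻¹ᵁ U₀) := hU₀.preimage i
  obtain ⟨fbar, hf1, hf2⟩ := exists_basicOpen_fibre j y hV₁ hyg₀ hZ₀ hg₀
  obtain ⟨f, rfl⟩ := i.app_surjective U₀ hU₀ fbar
  have hU₁ : IsAffineOpen (X.basicOpen f) := hU₀.basicOpen f
  have hiU₁ : i ⁻¹ᵁ X.basicOpen f = Z.basicOpen (i.app U₀ f) := Scheme.preimage_basicOpen i f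
  obtain ⟨g, hyg, hg⟩ := exists_basicOpen_preimage_le j y hV₁ hyg₀ (i ⁻¹ᵁ X.basicOpen f) (by
    rw [hiU₁]
    exact hf2)
  have hle1 : i ⁻¹ᵁ X.basicOpen f ≤ j ⁻¹ᵁ Y.basicOpen g₀ := by
    rw [hiU₁]
    exact hf1
  obtain ⟨f', hf'⟩ := i.app_surjective (X.basicOpen f) hU₁
    (Z.presheaf.map (homOfLE hle1).op (j.app (Y.basicOpen g₀) g))
  refine ⟨X.basicOpen f', Y.basicOpen g, hU₁.basicOpen f', hV₁.basicOpen g, hyg, ?_⟩
  rw [Scheme.preimage_basicOpen, hf', Scheme.basicOpen_res, ← Scheme.preimage_basicOpen]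
  exact inf_eq_right.2 hg

end Groth.Agent.Lib.Helper61.PushoutAffine
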