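import Mathlib
import Groth.Agent.Lib.RelVA.QCohSAFT
import Groth.Agent.Lib.RelVA.QCohCompact
import Groth.Agent.Lib.QCoh.Helper50_IsoAffineCover
import Groth.Agent.Lib.QCoh.Coherent
import Groth.Agent.Lib.QCoh.CohKernel

/-!
# Noetherian objects of `QCoh(Y)` are the coherent modules, `Y` Noetherian (helper61)
-/

set_option autoImplicit false
universe u
open CategoryTheory CategoryTheory.Limits AlgebraicGeometry Opposite TopologicalSpace

namespace Groth.Agent.Lib.Helper61.QCohNoeth

open QCohCat Groth.Agent.Lib.RelVA.QCohSAFT Groth.Agent.Lib.QCoh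

variable {Y : Scheme.{u}}

/-- A Noetherian object of `QCoh(Y)`, `Y` qcqs, is of finite type. -/
theorem isCoh_of_isNoetherianObject [CompactSpace Y] [QuasiSeparatedSpace Y] (M : QCoh Y)
    [IsNoetherianObject M] : Coh.IsCoh M.obj := by
  haveI hMq : M.obj.IsQuasicoherent := M.property
  obtain ⟨I, _, _, _, D, c, ⟨hc⟩, hD⟩ := FiltColim.exists_filtered_colimit_fp M.obj
  have hDq : ∀ i, isQCoh Y (D.obj i) := fun i => by
    haveI := hD i
    exact (inferInstance : (D.obj i).IsQuasicoherent)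
  let D' : I → QCoh Y := fun i => ⟨D.obj i, hDq i⟩
  let c' : ∀ i, D' i ⟶ M := fun i => ObjectProperty.homMk (c.app i)
  let S : I → Subobject M := fun i => imageSubobject (c' i)
  have hc'map : ∀ {i j : I} (hij : i ≤ j),
      (ObjectProperty.homMk (D.map (homOfLE hij)) : D' i ⟶ D' j) ≫ c' j = c' i := by
    intro i j hij
    apply ObjectProperty.hom_ext
    have := c.naturality (homOfLE hij)
    simp only [Functor.const_obj_obj, Functor.const_obj_map, Category.comp_id] at this
    exact this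
  have hS : Monotone S := by
    intro i j hij
    change imageSubobject (c' i) ≤ imageSubobject (c' j)
    rw [← hc'map hij]
    exact imageSubobject_comp_le _ _
  obtain ⟨i0, hi0⟩ : ∃ i0, ∀ i, S i0 ≤ S i → S i = S i0 := by
    have hwf : WellFoundedGT (Subobject M) := inferInstance
    obtain ⟨s, ⟨i0, rfl⟩, hmax⟩ := hwf.wf.has_min (Set.range S) (Set.range_nonempty S)
    refine ⟨i0, fun i hi => ?_⟩
    by_contra hne
    exact hmax (S i) ⟨i, rfl⟩ (lt_of_le_of_ne hi (Ne.symm hne))
  have hall : ∀ i, S i ≤ S i0 := by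
    intro i
    obtain ⟨j, hij, hi0j⟩ := exists_ge_ge i i0
    have := hi0 j (hS hi0j)
    exact (hS hij).trans this.le
  have hfac : ∀ i, (S i0).Factors (c' i) := fun i => by
    refine Subobject.factors_of_le (c' i) (hall i) ?_
    have h1 : (imageSubobject (c' i)).Factors
        (factorThruImageSubobject (c' i) ≫ (imageSubobject (c' i)).arrow) :=
      Subobject.factors_comp_arrow _
    rwa [imageSubobject_arrow_comp] at h1
  let ρ : ∀ i, D' i ⟶ (S i0 : QCoh Y) := fun i => (S i0).factorThru (c' i) (hfac i)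
  have hρ : ∀ i, ρ i ≫ (S i0).arrow = c' i := fun i => Subobject.factorThru_arrow _ _ _
  have hρmap : ∀ {i j : I} (hij : i ≤ j),
      (ObjectProperty.homMk (D.map (homOfLE hij)) : D' i ⟶ D' j) ≫ ρ j = ρ i := by
    intro i j hij
    rw [← cancel_mono (S i0).arrow, Category.assoc, hρ, hρ, hc'map hij]
  let co : Cocone D :=
    { pt := (S i0 : QCoh Y).obj
      ι := { app := fun i => (ρ i).hom
             naturality := fun i j f => by
               have := congrArg (fun φ => φ.hom) (hρmap (leOfHom f))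
               simp only [Functor.const_obj_obj, Functor.const_obj_map, Category.comp_id]
               exact this } }
  let r : M ⟶ (S i0 : QCoh Y) := ObjectProperty.homMk (hc.desc co)
  have hr : r ≫ (S i0).arrow = 𝟙 M := by
    apply ObjectProperty.hom_ext
    apply hc.hom_ext
    intro i
    have h1 : c.app i ≫ hc.desc co = (ρ i).hom := hc.fac co i
    have h2 : (ρ i).hom ≫ ((S i0).arrow).hom = c.app i := congrArg (fun φ => φ.hom) (hρ i)
    change c.app i ≫ (hc.desc co ≫ ((S i0).arrow).hom) = c.app i ≫ 𝟙 _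
    rw [← Category.assoc, h1, h2, Category.comp_id]
  haveI : Epi (S i0).arrow := epi_of_epi_fac hr
  haveI : Epi (c' i0) := by
    rw [← imageSubobject_arrow_comp (c' i0)]
    exact epi_comp _ _
  haveI := (isQCoh Y).preservesEpimorphisms_ι_of_isNormalMonoCategory
  haveI : Epi (c.app i0) := (isQCoh Y).ι.map_epi (c' i0)
  haveI := hD i0
  have hcoh : Coh.IsCoh (D.obj i0) := ⟨hDq i0, inferInstance⟩
  exact isCoh_of_epi (c.app i0) hcoh hMq

/-- sections of a morphism over an open, as a linear map. -/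
noncomputable def appLin {N M : Y.Modules} (φ : N ⟶ M) (U : Y.Opens) : Γ(N, U) →ₗ[Γ(Y, U)] Γ(M, U) :=
  { toFun := fun x => φ.app U x
    map_add' := fun x y => map_add _ x y
    map_smul' := fun r x => Scheme.Modules.Hom.app_smul φ r x }

/-- the image of the sections of a morphism over an open. -/
noncomputable def rangeSub {N M : Y.Modules} (φ : N ⟶ M) (U : Y.Opens) : Submodule Γ(Y, U) Γ(M, U) :=
  LinearMap.range (appLin φ U)

lemma mem_rangeSub {N M : Y.Modules} (φ : N ⟶ M) (U : Y.Opens) (y : Γ(M, U)) :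
    y ∈ rangeSub φ U ↔ ∃ x, φ.app U x = y := Iff.rfl

lemma rangeSub_le_of_comp {N N' M : Y.Modules} (φ : N ⟶ M) (ψ : N' ⟶ M) (γ : N ⟶ N')
    (h : γ ≫ ψ = φ) (U : Y.Opens) : rangeSub φ U ≤ rangeSub ψ U := by
  intro y hy
  obtain ⟨x, rfl⟩ := (mem_rangeSub φ U y).1 hy
  refine (mem_rangeSub ψ U _).2 ⟨γ.app U x, ?_⟩
  rw [← h, Scheme.Modules.Hom.comp_app, ConcreteCategory.comp_apply]

/-- A coherent module on a Noetherian scheme is a Noetherian object of `QCoh(Y)`. -/
theorem isNoetherianObject_of_isCoh [IsNoetherian Y] (M : QCoh Y) (h : Coh.IsCoh M.obj) :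
    IsNoetherianObject M := by
  haveI : M.obj.IsQuasicoherent := h.1
  haveI : M.obj.IsFiniteType := h.2
  rw [isNoetherianObject_iff_monotone_chain_condition]
  intro f
  obtain ⟨t, ht⟩ : ∃ t : Finset Y.affineOpens, ∀ x : Y, ∃ U ∈ t, x ∈ (U : Y.Opens) := by
    obtain ⟨t, ht⟩ := isCompact_univ.elim_finite_subcover
      (fun U : Y.affineOpens => ((U : Y.Opens) : Set Y)) (fun U => U.1.isOpen) (by
        intro x _
        obtain ⟨U, hU, hxU, -⟩ := Opens.isBasis_iff_nbhd.1 Y.isBasis_affineOpens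
          (show x ∈ (⊤ : Y.Opens) from trivial)
        exact Set.mem_iUnion.2 ⟨⟨U, hU⟩, hxU⟩)
    refine ⟨t, fun x => ?_⟩
    have := ht (Set.mem_univ x)
    simp only [Set.mem_iUnion] at this
    obtain ⟨U, hU, hx⟩ := this
    exact ⟨U, hU, hx⟩
  have hmono : ∀ {a b : ℕ} (hab : a ≤ b) (U : Y.Opens),
      rangeSub ((f a).arrow.hom) U ≤ rangeSub ((f b).arrow.hom) U := by
    intro a b hab U
    refine rangeSub_le_of_comp _ _ (Subobject.ofLE _ _ (f.monotone hab)).hom ?_ U
    exact congrArg (fun φ => φ.hom) (Subobject.ofLE_arrow (f.monotone hab))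
  have hchain : ∀ U : Y.affineOpens, ∃ n, ∀ m, n ≤ m →
      rangeSub ((f n).arrow.hom) U.1 = rangeSub ((f m).arrow.hom) U.1 := by
    intro U
    haveI : IsNoetherianRing Γ(Y, (U : Y.Opens)) := IsLocallyNoetherian.component_noetherian U
    haveI : Module.Finite Γ(Y, (U : Y.Opens)) Γ(M.obj, (U : Y.Opens)) :=
      finite_Γ_of_isAffineOpen U.2 M.obj
    haveI : IsNoetherian Γ(Y, (U : Y.Opens)) Γ(M.obj, (U : Y.Opens)) :=
      isNoetherian_of_isNoetherianRing_of_finite _ _
    let g : ℕ →o Submodule Γ(Y, (U : Y.Opens)) Γ(M.obj, (U : Y.Opens)) :=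
      ⟨fun m => rangeSub ((f m).arrow.hom) U.1, fun a b hab => hmono hab U.1⟩
    exact monotone_stabilizes_iff_noetherian.2 inferInstance g
  choose n hn using hchain
  refine ⟨t.sup n, fun m hm => ?_⟩
  have hle : f (t.sup n) ≤ f m := f.monotone hm
  have hgarrow : Subobject.ofLE _ _ hle ≫ (f m).arrow = (f (t.sup n)).arrow :=
    Subobject.ofLE_arrow hle
  haveI h1 : ((f (t.sup n) : QCoh Y)).obj.IsQuasicoherent := (f (t.sup n) : QCoh Y).property
  haveI h2 : ((f m : QCoh Y)).obj.IsQuasicoherent := (f m : QCoh Y).property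
  haveI hm1 : Mono ((f m).arrow.hom) :=
    inferInstanceAs (Mono ((isQCoh Y).ι.map (f m).arrow))
  haveI hm2 : Mono ((f (t.sup n)).arrow.hom) :=
    inferInstanceAs (Mono ((isQCoh Y).ι.map (f (t.sup n)).arrow))
  have hcomp : ∀ (U : Y.Opens) (x : Γ((f (t.sup n) : QCoh Y).obj, U)),
      (f m).arrow.hom.app U ((Subobject.ofLE _ _ hle).hom.app U x) =
        (f (t.sup n)).arrow.hom.app U x := by
    intro U x
    have := congrArg (fun φ => φ.hom) hgarrow
    change (Subobject.ofLE _ _ hle).hom ≫ (f m).arrow.hom = (f (t.sup n)).arrow.hom at this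
    rw [← this, Scheme.Modules.Hom.comp_app, ConcreteCategory.comp_apply]
  haveI : IsIso (Subobject.ofLE _ _ hle).hom := by
    refine IsoAffineCover.isIso_of_bijective_affine_cover (Subobject.ofLE _ _ hle).hom
      {W | ∃ U ∈ t, W = (U : Y.Opens)} ?_ ?_ ?_
    · intro x
      obtain ⟨U, hU, hx⟩ := ht x
      exact ⟨U.1, ⟨U, hU, rfl⟩, hx⟩
    · rintro W ⟨U, -, rfl⟩
      exact U.2
    · rintro W ⟨U, hU, rfl⟩
      constructor
      · intro x x' hxx'
        apply app_injective_of_mono ((f (t.sup n)).arrow.hom) U.1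
        rw [← hcomp, ← hcomp, hxx']
      · intro y
        have hnU : n U ≤ t.sup n := Finset.le_sup hU
        have e1 := hn U (t.sup n) hnU
        have e2 := hn U m (hnU.trans hm)
        have hy : (f m).arrow.hom.app U.1 y ∈ rangeSub ((f (t.sup n)).arrow.hom) U.1 := by
          rw [← e1, e2]
          exact (mem_rangeSub _ _ _).2 ⟨y, rfl⟩
        obtain ⟨x, hx⟩ := (mem_rangeSub _ _ _).1 hy
        refine ⟨x, app_injective_of_mono ((f m).arrow.hom) U.1 ?_⟩
        rw [hcomp, hx]
  haveI : IsIso ((isQCoh Y).ι.map (Subobject.ofLE _ _ hle)) :=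
    inferInstanceAs (IsIso (Subobject.ofLE _ _ hle).hom)
  haveI : IsIso (Subobject.ofLE _ _ hle) := isIso_of_reflects_iso _ (isQCoh Y).ι
  exact Subobject.eq_of_comm (asIso (Subobject.ofLE _ _ hle)) hgarrow

end Groth.Agent.Lib.Helper61.QCohNoeth
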