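import Mathlib
import Groth.Agent.Lib.Helper61.NowhereDenseFinite
import Groth.Agent.Lib.Helper61.GenFinDense

/-!
# Quasi-finite morphisms are finite over a dense open (Stacks 03I1) (helper61)
-/

universe u

open CategoryTheory CategoryTheory.Limits TopologicalSpace Topology AlgebraicGeometry

namespace Groth.Agent.Lib.Helper61.GenFin

open Groth.Agent.Lib.Helper61.BiratGeneric Groth.Agent.Lib.Helper61.BiratQF
  Groth.Agent.Lib.Helper61.BiratSpreadScheme Groth.Agent.Lib.Helper61.GenFinGlue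
  Groth.Agent.Lib.Helper61.GenFinClosure Groth.Agent.Lib.Helper61.NowhereDense

variable {X Y : Scheme.{u}}

set_option backward.isDefEq.respectTransparency.types false in
/-- Converse of `isFinite_resLE_of_finite_appLE`. -/
theorem finite_appLE_of_isFinite_resLE (f : X ⟶ Y) {V : Y.Opens} (hV : IsAffineOpen V)
    {U : X.Opens} (hU : IsAffineOpen U) (e : U ≤ f ⁻¹ᵁ V)
    (h : IsFinite (f.resLE V U e)) : (f.appLE V U e).hom.Finite := by
  haveI : IsAffine V.toScheme := hV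
  haveI : IsAffine U.toScheme := hU
  rw [HasAffineProperty.iff_of_isAffine (P := @IsFinite)] at h
  have h1 : ((f.resLE V U e).app ⊤).hom.Finite := h.2
  rw [Scheme.Hom.resLE_app_top] at h1
  have h2 : (V.topIso.hom ≫ f.appLE V U e ≫ U.topIso.inv).hom.Finite := h1
  rw [CommRingCat.hom_comp, RingHom.finite_respectsIso.cancel_left_isIso,
    CommRingCat.hom_comp, RingHom.finite_respectsIso.cancel_right_isIso] at h2
  exact h2

/-- **Generic finiteness without quasi-separatedness**: over a non-empty open subset of an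
affine open `V₀` containing a maximal point with finite fibre. -/
theorem exists_nonempty_isFinite_morphismRestrict (f : X ⟶ Y) [LocallyOfFiniteType f]
    {V₀ : Y.Opens} (hV₀ : IsAffineOpen V₀) {η : Y} (hηV₀ : η ∈ V₀)
    (hη : closure {η} ∈ irreducibleComponents ↥Y) (hfib : (f ⁻¹' {η}).Finite)
    {ι : Type*} [Finite ι] (U : ι → X.Opens) (hU : ∀ i, IsAffineOpen (U i))
    (hUV : ∀ i, U i ≤ f ⁻¹ᵁ V₀) (hcov : ∀ x : X, f x ∈ V₀ → ∃ i, x ∈ U i) :
    ∃ V : Y.Opens, V ≤ V₀ ∧ (∃ y : Y, y ∈ V) ∧ IsFinite (f ∣_ V) := by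
  classical
  have := Fintype.ofFinite ι
  haveI := (hV₀.primeIdealOf ⟨η, hηV₀⟩).2
  -- Step 1: local finiteness
  choose g₀ hg₀η hg₀ using fun i => exists_isFinite_resLE f hV₀ (hU i) (hUV i) hηV₀ hη hfib
  let g₁ : Γ(Y, V₀) := ∏ i, g₀ i
  have hηg : ∀ g : Γ(Y, V₀), η ∈ Y.basicOpen g ↔
      g ∉ (hV₀.primeIdealOf ⟨η, hηV₀⟩).asIdeal := by
    intro g
    rw [mem_primeIdealOf_iff hV₀ ⟨η, hηV₀⟩ g, not_not]
  have hηg₁ : η ∈ Y.basicOpen g₁ := by
    rw [hηg]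
    intro hmem
    obtain ⟨i, -, hi⟩ := (Ideal.IsPrime.prod_mem_iff).mp hmem
    exact (hηg _).mp (hg₀η i) hi
  have hdvd₁ : ∀ i, g₀ i ∣ g₁ := fun i => Finset.dvd_prod_of_mem _ (Finset.mem_univ i)
  have hUeq : ∀ (g : Γ(Y, V₀)) i, X.basicOpen (f.appLE V₀ (U i) (hUV i) g) =
      U i ⊓ f ⁻¹ᵁ Y.basicOpen g := fun g i => Scheme.basicOpen_appLE f (U i) V₀ (hUV i) g
  have hUle : ∀ (g : Γ(Y, V₀)) i, X.basicOpen (f.appLE V₀ (U i) (hUV i) g) ≤
      f ⁻¹ᵁ Y.basicOpen g := fun g i => (hUeq g i).le.trans inf_le_right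
  -- Step 2: the bad sets
  have hbad : ∀ i k, ∃ O : Y.Opens,
      (∀ N : Y.Opens, N ≤ Y.basicOpen g₁ → N ⊓ O = ⊥ → N = ⊥) ∧ ∀ x : X,
      x ∈ closure ((X.basicOpen (f.appLE V₀ (U i) (hUV i) g₁) ⊓
        X.basicOpen (f.appLE V₀ (U k) (hUV k) g₁) : X.Opens) : Set X) →
      x ∈ X.basicOpen (f.appLE V₀ (U i) (hUV i) g₁) →
      x ∉ X.basicOpen (f.appLE V₀ (U k) (hUV k) g₁) → f x ∉ O := by
    intro i k
    set V₁ := Y.basicOpen g₁ with hV₁
    set Ui := X.basicOpen (f.appLE V₀ (U i) (hUV i) g₁) with hUi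
    set Uk := X.basicOpen (f.appLE V₀ (U k) (hUV k) g₁) with hUk
    have hfin : IsFinite (f.resLE V₁ Ui (hUle g₁ i)) := hg₀ i g₁ (hdvd₁ i) _
    let r := f.resLE V₁ Ui (hUle g₁ i)
    have hrι : ∀ p : Ui.toScheme, (V₁.ι (r p) : Y) = f p.1 := by
      intro p
      have := Scheme.Hom.resLE_comp_ι f (hUle g₁ i)
      have h2 := congrArg (fun φ : Ui.toScheme ⟶ Y => φ p) this
      exact h2
    let Z₀ : Set X := closure ((Ui ⊓ Uk : X.Opens) : Set X) ∩ (Uk : Set X)ᶜ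
    have hZ₀ : IsClosed Z₀ := isClosed_closure.inter Uk.2.isClosed_compl
    let Z : Set Ui.toScheme := Ui.ι ⁻¹' Z₀
    have hZ : IsClosed Z := hZ₀.preimage Ui.ι.continuous
    have hrZ : IsClosed (r '' Z) := r.isClosedMap _ hZ
    let O' : V₁.toScheme.Opens := ⟨(r '' Z)ᶜ, hrZ.isOpen_compl⟩
    refine ⟨V₁.ι ''ᵁ O', ?_, ?_⟩
    · intro N hNV₁ hNO
      have hUiaff : IsAffineOpen Ui := (hU i).basicOpen _
      have hV₁aff : IsAffineOpen V₁ := hV₀.basicOpen _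
      refine eq_bot_of_subset_image_of_finite_appLE f hV₁aff hUiaff (hUle g₁ i)
        (finite_appLE_of_isFinite_resLE f hV₁aff hUiaff (hUle g₁ i) hfin) Z₀ hZ₀ ?_ N hNV₁ ?_
      · intro W hWUi hWZ
        by_contra hne
        obtain ⟨x, hx⟩ : ∃ x : X, x ∈ W := by
          by_contra hcon
          push Not at hcon
          apply hne
          ext x
          simp only [SetLike.mem_coe, Opens.coe_bot, Set.mem_empty_iff_false, iff_false]
          exact hcon x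
        have hxcl : x ∈ closure ((Ui ⊓ Uk : X.Opens) : Set X) := (hWZ hx).1
        obtain ⟨z, hzW, hzUU⟩ := mem_closure_iff.mp hxcl W W.2 hx
        exact (hWZ hzW).2 hzUU.2
      · intro y hy
        have hyV₁ : y ∈ V₁ := hNV₁ hy
        by_cases hmem : (⟨y, hyV₁⟩ : V₁.toScheme) ∈ r '' Z
        · obtain ⟨b, hbZ, hrb⟩ := hmem
          refine ⟨b.1, ⟨hbZ, b.2⟩, ?_⟩
          rw [← hrι b, hrb]
          rfl
        · exfalso
          have hyO : y ∈ V₁.ι ''ᵁ O' := ⟨⟨y, hyV₁⟩, hmem, rfl⟩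
          have hbot : y ∈ N ⊓ V₁.ι ''ᵁ O' := ⟨hy, hyO⟩
          rw [hNO] at hbot
          exact hbot
    · rintro x hxcl hxi hxk ⟨y, hyO, hy⟩
      have h1 : y = r ⟨x, hxi⟩ := by
        apply V₁.ι.isOpenEmbedding.injective
        exact hy.trans (hrι ⟨x, hxi⟩).symm
      apply hyO
      rw [h1]
      exact ⟨⟨x, hxi⟩, ⟨hxcl, hxk⟩, rfl⟩
  choose O hOdense hO using hbad
  -- Step 3: a point outside the bad sets
  have hdense : ∀ s : Finset (ι × ι), ∀ N : Y.Opens, N ≤ Y.basicOpen g₁ →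
      N ⊓ (s.inf fun p : ι × ι => O p.1 p.2) = ⊥ → N = ⊥ := by
    intro s
    induction s using Finset.induction_on with
    | empty =>
      intro N _ h
      rwa [Finset.inf_empty, inf_top_eq] at h
    | insert p s _ ih =>
      intro N hN h
      rw [Finset.inf_insert, ← inf_assoc] at h
      have h1 : N ⊓ O p.1 p.2 = ⊥ := ih _ (inf_le_left.trans hN) h
      exact hOdense p.1 p.2 N hN h1
  let O₂ : Y.Opens := Y.basicOpen g₁ ⊓ (Finset.univ.inf fun p : ι × ι => O p.1 p.2)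
  obtain ⟨y, hyO₂⟩ : ∃ y : Y, y ∈ O₂ := by
    by_contra hcon
    push Not at hcon
    have hbot : O₂ = ⊥ := by
      ext y
      simp only [SetLike.mem_coe, Opens.coe_bot, Set.mem_empty_iff_false, iff_false]
      exact hcon y
    have := hdense Finset.univ (Y.basicOpen g₁) le_rfl hbot
    rw [this] at hηg₁
    exact hηg₁
  have hyV₀ : y ∈ V₀ := Y.basicOpen_le g₁ hyO₂.1
  obtain ⟨h, hhO, hyh⟩ := hV₀.exists_basicOpen_le (V := O₂) ⟨y, hyO₂⟩ hyV₀
  simp only at hyh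
  let g₂ : Γ(Y, V₀) := g₁ * h
  have hdvd₂ : ∀ i, g₀ i ∣ g₂ := fun i => (hdvd₁ i).trans (Dvd.intro _ rfl)
  have hV₂eq : Y.basicOpen g₂ = Y.basicOpen g₁ ⊓ Y.basicOpen h := Scheme.basicOpen_mul _ _ _
  have hV₂O : ∀ i k, Y.basicOpen g₂ ≤ O i k := by
    intro i k
    rw [hV₂eq]
    refine inf_le_right.trans (hhO.trans (inf_le_right.trans ?_))
    exact Finset.inf_le (f := fun p : ι × ι => O p.1 p.2) (Finset.mem_univ (i, k))
  have hV₂V₁ : Y.basicOpen g₂ ≤ Y.basicOpen g₁ := by rw [hV₂eq]; exact inf_le_left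
  have hyV₂ : y ∈ Y.basicOpen g₂ := by
    rw [hV₂eq]
    exact ⟨hyO₂.1, hyh⟩
  refine ⟨Y.basicOpen g₂, Y.basicOpen_le g₂, ⟨y, hyV₂⟩, ?_⟩
  -- Step 4: glue
  set V := Y.basicOpen g₂ with hV
  let U₂ : ι → X.Opens := fun i => X.basicOpen (f.appLE V₀ (U i) (hUV i) g₂)
  have hU₂V : ∀ i, U₂ i ≤ f ⁻¹ᵁ V := fun i => hUle g₂ i
  have hU₂aff : ∀ i, IsAffineOpen (U₂ i) := fun i => (hU i).basicOpen _
  have hU₂U₁ : ∀ i, U₂ i ≤ X.basicOpen (f.appLE V₀ (U i) (hUV i) g₁) := by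
    intro i
    change X.basicOpen _ ≤ _
    rw [hUeq g₂ i, hUeq g₁ i]
    exact inf_le_inf_left _ (f.preimage_mono hV₂V₁)
  have hfin₂ : ∀ i, IsFinite (f.resLE V (U₂ i) (hU₂V i)) := fun i => hg₀ i g₂ (hdvd₂ i) _
  have hmemU₂ : ∀ i (x : X), x ∈ U₂ i ↔ x ∈ U i ∧ f x ∈ V := by
    intro i x
    change x ∈ X.basicOpen _ ↔ _
    rw [hUeq g₂ i]
    rfl
  -- the key closedness property of overlaps
  have hoverlap : ∀ i k (x : X), x ∈ U₂ i →
      x ∈ closure ((X.basicOpen (f.appLE V₀ (U i) (hUV i) g₁) ⊓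
        X.basicOpen (f.appLE V₀ (U k) (hUV k) g₁) : X.Opens) : Set X) → x ∈ U₂ k := by
    intro i k x hxi hxcl
    have hfxV : f x ∈ V := ((hmemU₂ i x).mp hxi).2
    by_contra hxk
    have hxk₁ : x ∉ X.basicOpen (f.appLE V₀ (U k) (hUV k) g₁) := by
      intro hcon
      apply hxk
      rw [hUeq g₁ k] at hcon
      exact (hmemU₂ k x).mpr ⟨hcon.1, hfxV⟩
    exact hO i k x hxcl (hU₂U₁ i hxi) hxk₁ (hV₂O i k hfxV)
  have hUcpt : ∀ i k, IsCompact ((U₂ i ⊓ U₂ k : X.Opens) : Set X) := by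
    intro i k
    have h1 : ((U₂ i ⊓ U₂ k : X.Opens) : Set X) = (U₂ i : Set X) ∩
        closure ((X.basicOpen (f.appLE V₀ (U i) (hUV i) g₁) ⊓
          X.basicOpen (f.appLE V₀ (U k) (hUV k) g₁) : X.Opens) : Set X) := by
      ext x
      simp only [Opens.coe_inf, Set.mem_inter_iff, SetLike.mem_coe]
      constructor
      · rintro ⟨hxi, hxk⟩
        exact ⟨hxi, subset_closure ⟨hU₂U₁ i hxi, hU₂U₁ k hxk⟩⟩
      · rintro ⟨hxi, hxcl⟩
        exact ⟨hxi, hoverlap i k x hxi hxcl⟩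
    rw [h1]
    exact (hU₂aff i).isCompact.inter_right isClosed_closure
  -- quasi-separatedness
  haveI : QuasiSeparatedSpace (f ⁻¹ᵁ V).toScheme := by
    refine Scheme.quasiSeparatedSpace_of_isOpenCover
      (fun i => (f ⁻¹ᵁ V).ι ⁻¹ᵁ (U₂ i)) ?_ ?_ ?_
    · rw [IsOpenCover, eq_top_iff]
      rintro x -
      obtain ⟨i, hi⟩ := hcov x.1 (Y.basicOpen_le g₂ x.2)
      exact Opens.mem_iSup.mpr ⟨i, (hmemU₂ i x.1).mpr ⟨hi, x.2⟩⟩
    · intro i
      refine (hU₂aff i).preimage_of_isOpenImmersion _ ?_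
      rw [Scheme.Opens.opensRange_ι]
      exact hU₂V i
    · intro i k
      have hind : IsInducing (fun x : (f ⁻¹ᵁ V).toScheme => (f ⁻¹ᵁ V).ι x) :=
        (f ⁻¹ᵁ V).ι.isOpenEmbedding.isInducing
      have h1 : (((f ⁻¹ᵁ V).ι ⁻¹ᵁ (U₂ i) : (f ⁻¹ᵁ V).toScheme.Opens) : Set _) ∩
          ((f ⁻¹ᵁ V).ι ⁻¹ᵁ (U₂ k) : (f ⁻¹ᵁ V).toScheme.Opens) =
          (fun x : (f ⁻¹ᵁ V).toScheme => (f ⁻¹ᵁ V).ι x) ⁻¹' (((U₂ i ⊓ U₂ k : X.Opens)) : Set X) :=
        rfl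
      rw [h1, hind.isCompact_preimage_iff]
      · exact hUcpt i k
      · intro x hx
        exact ⟨⟨x, hU₂V i hx.1⟩, rfl⟩
  haveI : QuasiSeparated (f ∣_ V) := inferInstance
  refine isFinite_of_cover (f ∣_ V) (fun i => (U₂ i).toScheme)
    (fun i => X.homOfLE (hU₂V i)) ?_ ?_ ?_
  · intro x
    obtain ⟨i, hi⟩ := hcov x.1 (Y.basicOpen_le g₂ x.2)
    exact ⟨i, (mem_range_homOfLE_iff _ x).mpr ((hmemU₂ i x.1).mpr ⟨hi, x.2⟩)⟩
  · intro i
    exact hfin₂ i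
  · intro i k z x hzi hzk hzx hxi
    rw [mem_range_homOfLE_iff] at hzi hzk hxi ⊢
    have hzx' : z.1 ⤳ x.1 := (subtype_specializes_iff _ _).mp hzx
    have hxcl : x.1 ∈ closure ((X.basicOpen (f.appLE V₀ (U i) (hUV i) g₁) ⊓
        X.basicOpen (f.appLE V₀ (U k) (hUV k) g₁) : X.Opens) : Set X) := by
      have : z.1 ∈ ((X.basicOpen (f.appLE V₀ (U i) (hUV i) g₁) ⊓
          X.basicOpen (f.appLE V₀ (U k) (hUV k) g₁) : X.Opens) : Set X) :=
        ⟨hU₂U₁ i hzi, hU₂U₁ k hzk⟩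
      exact closure_mono (Set.singleton_subset_iff.mpr this) hzx'.mem_closure
    exact hoverlap i k x.1 hxi hxcl

/-- **Stacks 03I1**: a quasi-finite morphism is finite over a dense open subset of the target. -/
theorem exists_dense_isFinite_of_locallyQuasiFinite (f : X ⟶ Y) [LocallyQuasiFinite f]
    [LocallyOfFiniteType f] [QuasiCompact f] :
    ∃ V : Y.Opens, Dense (V : Set Y) ∧ IsFinite (f ∣_ V) := by
  classical
  let 𝒱 : Set Y.Opens := {V | IsFinite (f ∣_ V)}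
  refine ⟨⨆ V : ↥𝒱, (V : Y.Opens), ?_, isFinite_morphismRestrict_iSup f _ (fun V => V.2)⟩
  rw [dense_iff_inter_open]
  rintro O hO ⟨x, hx⟩
  obtain ⟨_, ⟨V₀, hV₀, rfl⟩, hxV₀, hV₀O⟩ :=
    Y.isBasis_affineOpens.exists_subset_of_mem_open hx hO
  obtain ⟨η, hη, hsp⟩ := exists_generic_specializes x
  have hηV₀ : η ∈ V₀ := hsp.mem_open V₀.2 hxV₀
  have hfib : (f ⁻¹' {η}).Finite := f.finite_preimage_singleton η
  have hc : IsCompact ((f ⁻¹ᵁ V₀ : X.Opens) : Set X) :=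
    QuasiCompact.isCompact_preimage (f := f) _ V₀.2 hV₀.isCompact
  obtain ⟨s, hs, hsU⟩ := (isCompact_iff_finite_and_eq_biUnion_affineOpens).mp hc
  haveI : Finite ↥s := hs.to_subtype
  have hsub : ∀ i : ↥s, (i.1 : X.Opens) ≤ f ⁻¹ᵁ V₀ := by
    intro i
    rw [hsU]
    exact le_iSup₂ (f := fun (j : X.affineOpens) (_ : j ∈ s) => (j : X.Opens)) i.1 i.2
  obtain ⟨V, hVV₀, ⟨y, hyV⟩, hfin⟩ := exists_nonempty_isFinite_morphismRestrict f hV₀ hηV₀ hη hfib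
    (fun i : ↥s => (i.1 : X.Opens)) (fun i => i.1.2) (fun i => hsub i)
    (by
      intro x hx
      have hx' : x ∈ f ⁻¹ᵁ V₀ := hx
      rw [hsU] at hx'
      simp only [Opens.mem_iSup] at hx'
      obtain ⟨j, hj, hxj⟩ := hx'
      exact ⟨⟨j, hj⟩, hxj⟩)
  exact ⟨y, hV₀O (hVV₀ hyV), Opens.mem_iSup.mpr ⟨⟨V, hfin⟩, hyV⟩⟩

/-- **Stacks 0AUW-type statement**: a quasi-finite morphism maps closed nowhere dense sets to
nowhere dense sets. -/
theorem isNowhereDense_image_of_locallyQuasiFinite (f : X ⟶ Y) [LocallyQuasiFinite f]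
    [LocallyOfFiniteType f] [QuasiCompact f] (T : Set X) (hT : IsClosed T)
    (hT' : IsNowhereDense T) : IsNowhereDense (f '' T) := by
  obtain ⟨U, hUd, hfin⟩ := exists_dense_isFinite_of_locallyQuasiFinite f
  haveI := hfin
  rw [hT.isNowhereDense_iff] at hT'
  let g := f ∣_ U
  have hgι : ∀ p : (f ⁻¹ᵁ U).toScheme, (U.ι (g p) : Y) = f p.1 := by
    intro p
    have := morphismRestrict_ι f U
    have h2 := congrArg (fun φ : (f ⁻¹ᵁ U).toScheme ⟶ Y => φ p) this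
    exact h2
  let T' : Set (f ⁻¹ᵁ U).toScheme := (f ⁻¹ᵁ U).ι ⁻¹' T
  have hT'cl : IsClosed T' := hT.preimage (f ⁻¹ᵁ U).ι.continuous
  have hT'nd : IsNowhereDense T' := by
    rw [hT'cl.isNowhereDense_iff]
    by_contra hne
    obtain ⟨w, hw⟩ := Set.nonempty_iff_ne_empty.mpr hne
    have hopen : IsOpen ((f ⁻¹ᵁ U).ι '' interior T') :=
      (f ⁻¹ᵁ U).ι.isOpenEmbedding.isOpenMap _ isOpen_interior
    have hsub : (f ⁻¹ᵁ U).ι '' interior T' ⊆ T := by
      rintro _ ⟨w', hw', rfl⟩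
      have h0 : w' ∈ T' := interior_subset hw'
      exact h0
    have h1 : (f ⁻¹ᵁ U).ι w ∈ interior T := interior_maximal hsub hopen ⟨w, hw, rfl⟩
    rw [hT'] at h1
    exact h1
  have hgT' : IsNowhereDense (g '' T') :=
    Groth.Agent.Lib.Helper61.NowhereDense.isNowhereDense_image_of_isFinite g T' hT'cl hT'nd
  have hgcl : IsClosed (g '' T') := g.isClosedMap _ hT'cl
  rw [hgcl.isNowhereDense_iff] at hgT'
  rw [IsNowhereDense]
  by_contra hne
  obtain ⟨y, hy⟩ := Set.nonempty_iff_ne_empty.mpr hne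
  obtain ⟨y', hy'I, hy'U⟩ := hUd.inter_open_nonempty _ isOpen_interior ⟨y, hy⟩
  let N : Set U.toScheme := U.ι ⁻¹' interior (closure (f '' T))
  have hN : IsOpen N := isOpen_interior.preimage U.ι.continuous
  have hNsub : N ⊆ g '' T' := by
    intro z hz
    by_contra hzg
    let M : Set Y := U.ι '' (g '' T')ᶜ
    have hM : IsOpen M := U.ι.isOpenEmbedding.isOpenMap _ hgcl.isOpen_compl
    have hzM : (U.ι z : Y) ∈ M := ⟨z, hzg, rfl⟩
    have hzcl : (U.ι z : Y) ∈ closure (f '' T) := interior_subset hz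
    obtain ⟨_, ⟨z', hz', hz'eq⟩, ⟨t, ht, rfl⟩⟩ := mem_closure_iff.mp hzcl M hM hzM
    have htU : t ∈ f ⁻¹ᵁ U := by
      change f t ∈ U
      rw [← hz'eq]
      exact z'.2
    apply hz'
    refine ⟨⟨t, htU⟩, ht, ?_⟩
    apply U.ι.isOpenEmbedding.injective
    exact (hgι ⟨t, htU⟩).trans hz'eq.symm
  have h1 : (⟨y', hy'U⟩ : U.toScheme) ∈ interior (g '' T') :=
    interior_maximal hNsub hN hy'I
  rw [hgT'] at h1
  exact h1

end Groth.Agent.Lib.Helper61.GenFin
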