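import Mathlib.AlgebraicGeometry.PullbackCarrier
import Mathlib.AlgebraicGeometry.Morphisms.Separated
import Mathlib.AlgebraicGeometry.Morphisms.UniversallyOpen

/-!
# Graphs of rational maps under base change (helper61)
-/

set_option autoImplicit false
set_option linter.style.haveILetI false
universe u
open AlgebraicGeometry CategoryTheory Limits TopologicalSpace

namespace Groth.Agent.Lib.Helper61.RatPullback

theorem exists_preimage_of_isPullback {P X Y Z : Scheme.{u}} {a : P ⟶ X} {b : P ⟶ Y}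
    {f : X ⟶ Z} {g : Y ⟶ Z} (H : IsPullback a b f g) (x : X) (y : Y) (hxy : f x = g y) :
    ∃ w : P, a w = x ∧ b w = y := by
  obtain ⟨w, hw1, hw2⟩ := Scheme.Pullback.exists_preimage_pullback x y hxy
  refine ⟨H.isoPullback.inv w, ?_, ?_⟩
  · rw [← Scheme.Hom.comp_apply, H.isoPullback_inv_fst, hw1]
  · rw [← Scheme.Hom.comp_apply, H.isoPullback_inv_snd, hw2]

variable {X X' Y S : Scheme.{u}} (pX : X ⟶ S) (pY : Y ⟶ S) (f : X' ⟶ X)

/-- the map `X' ×_S Y ⟶ X ×_S Y` induced by `f : X' ⟶ X` -/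
noncomputable def φ : pullback (f ≫ pX) pY ⟶ pullback pX pY :=
  pullback.lift (pullback.fst (f ≫ pX) pY ≫ f) (pullback.snd (f ≫ pX) pY)
    (by rw [Category.assoc, pullback.condition])

@[reassoc (attr := simp)]
theorem φ_fst : φ pX pY f ≫ pullback.fst pX pY = pullback.fst (f ≫ pX) pY ≫ f :=
  pullback.lift_fst _ _ _

@[reassoc (attr := simp)]
theorem φ_snd : φ pX pY f ≫ pullback.snd pX pY = pullback.snd (f ≫ pX) pY :=
  pullback.lift_snd _ _ _

theorem isPullback_φ :
    IsPullback (φ pX pY f) (pullback.fst (f ≫ pX) pY) (pullback.fst pX pY) f := by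
  refine IsPullback.of_right (h₁₂ := pullback.snd pX pY) (h₂₂ := pX) (v₁₃ := pY) ?_ (φ_fst pX pY f)
    (IsPullback.of_hasPullback pX pY).flip
  rw [φ_snd]
  exact (IsPullback.of_hasPullback (f ≫ pX) pY).flip

instance [UniversallyOpen f] : UniversallyOpen (φ pX pY f) :=
  MorphismProperty.of_isPullback (isPullback_φ pX pY f).flip inferInstance

variable {pX pY}

/-- the graph square is cartesian -/
theorem isPullback_graph (U : X.Opens) (h : U.toScheme ⟶ Y) (hh : U.ι ≫ pX = h ≫ pY)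
    (hh' : (f ⁻¹ᵁ U).ι ≫ f ≫ pX = ((f ∣_ U) ≫ h) ≫ pY) :
    IsPullback (pullback.lift (f ⁻¹ᵁ U).ι ((f ∣_ U) ≫ h) hh') (f ∣_ U) (φ pX pY f)
      (pullback.lift U.ι h hh) := by
  have hcomm : pullback.lift (f ⁻¹ᵁ U).ι ((f ∣_ U) ≫ h) hh' ≫ φ pX pY f =
      (f ∣_ U) ≫ pullback.lift U.ι h hh := by
    apply pullback.hom_ext
    · rw [Category.assoc, φ_fst, pullback.lift_fst_assoc, Category.assoc, pullback.lift_fst,
        morphismRestrict_ι]
    · rw [Category.assoc, φ_snd, pullback.lift_snd, Category.assoc, pullback.lift_snd]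
  refine IsPullback.of_right (h₁₂ := pullback.fst (f ≫ pX) pY) (h₂₂ := pullback.fst pX pY)
    (v₁₃ := f) ?_ hcomm (isPullback_φ pX pY f).flip
  rw [pullback.lift_fst, pullback.lift_fst]
  exact (isPullback_morphismRestrict f U).flip

/-- For `pY` separated, the graph of an `S`-morphism `v' : V' ⟶ Y` on an open `V' ⊆ X'` is closed
in the open subset `fst⁻¹ V'` of `X' ×_S Y`. -/
theorem closure_inter_subset_range_graph {X' Y S : Scheme.{u}} (pX' : X' ⟶ S) (pY : Y ⟶ S)
    [IsSeparated pY] (V' : X'.Opens) (v' : V'.toScheme ⟶ Y) (hv' : V'.ι ≫ pX' = v' ≫ pY)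
    (A : Set ↥(pullback pX' pY))
    (hA : A ∩ (pullback.fst pX' pY) ⁻¹' V' ⊆ Set.range (pullback.lift V'.ι v' hv')) :
    closure A ∩ (pullback.fst pX' pY) ⁻¹' V' ⊆ Set.range (pullback.lift V'.ι v' hv') := by
  set gv := pullback.lift V'.ι v' hv' with hgv
  let O : (pullback pX' pY).Opens := pullback.fst pX' pY ⁻¹ᵁ V'
  have hrange : Set.range gv ⊆ Set.range O.ι := by
    rw [Scheme.Opens.range_ι]
    rintro _ ⟨t, rfl⟩
    change pullback.fst pX' pY (gv t) ∈ V'
    rw [← Scheme.Hom.comp_apply, pullback.lift_fst]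
    exact t.2
  let s : V'.toScheme ⟶ O.toScheme := IsOpenImmersion.lift O.ι gv hrange
  have hs : s ≫ O.ι = gv := IsOpenImmersion.lift_fac _ _ _
  let q : O.toScheme ⟶ V'.toScheme := pullback.fst pX' pY ∣_ V'
  have hq : q ≫ V'.ι = O.ι ≫ pullback.fst pX' pY := morphismRestrict_ι _ _
  have hsq : s ≫ q = 𝟙 _ := by
    rw [← cancel_mono V'.ι, Category.assoc, hq, reassoc_of% hs, pullback.lift_fst, Category.id_comp]
  haveI : IsClosedImmersion (s ≫ q) := by rw [hsq]; infer_instance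
  haveI : IsSeparated q := inferInstanceAs (IsSeparated (pullback.fst pX' pY ∣_ V'))
  haveI : IsClosedImmersion s := .of_comp s q
  have hclosed : IsClosed (Set.range s) := s.isClosedEmbedding.isClosed_range
  rintro w ⟨hw1, hw2⟩
  let o : O.toScheme := ⟨w, hw2⟩
  have ho : o ∈ closure (O.ι ⁻¹' A) := by
    rw [← O.ι.isOpenEmbedding.isOpenMap.preimage_closure_eq_closure_preimage O.ι.continuous]
    exact hw1
  have hsub : O.ι ⁻¹' A ⊆ Set.range s := by
    intro o₂ ho₂
    obtain ⟨t, ht⟩ := hA ⟨ho₂, o₂.2⟩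
    refine ⟨t, O.ι.isOpenEmbedding.injective ?_⟩
    rw [← Scheme.Hom.comp_apply, hs, ht]
  obtain ⟨t, ht⟩ := closure_minimal hsub hclosed ho
  refine ⟨t, ?_⟩
  rw [← hs, Scheme.Hom.comp_apply, ht]
  rfl

end Groth.Agent.Lib.Helper61.RatPullback
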