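import Mathlib
import Groth.Agent.Lib.Helper35.FiberStalk
import Groth.Agent.Lib.Helper91.GenPrime

/-!
Reducedness of the total space of a flat morphism to a Dedekind-like base from reducedness of the
special fibre.
-/

set_option autoImplicit false
set_option backward.isDefEq.respectTransparency.types false

namespace Groth.Agent.Lib.Helper61.ReducedFibre

open AlgebraicGeometry CategoryTheory Limits IsLocalRing

universe u

/-- Algebra core: `A` Noetherian local, `π ∈ 𝔪_A` a nonzerodivisor with `A/πA` reduced (given as a
surjection `ψ` onto a reduced ring with kernel `(π)`). Then `A` is reduced. -/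
theorem isReduced_of_regular_of_quotient_isReduced {A B : Type*} [CommRing A] [CommRing B]
    [IsLocalRing A] [IsNoetherianRing A] [IsReduced B] (ψ : A →+* B) (π : A)
    (hπm : π ∈ maximalIdeal A) (hreg : IsSMulRegular A π)
    (hker : RingHom.ker ψ = Ideal.span {π}) : IsReduced A := by
  have hN : nilradical A ≤ Ideal.span {π} • nilradical A := by
    intro a ha
    have h1 : ψ a = 0 := by
      have : IsNilpotent (ψ a) := (mem_nilradical.mp ha).map ψ
      exact this.eq_zero
    have h2 : a ∈ Ideal.span {π} := by rw [← hker]; exact h1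
    obtain ⟨b, rfl⟩ := Ideal.mem_span_singleton'.mp h2
    have hb : b ∈ nilradical A := by
      obtain ⟨n, hn⟩ := mem_nilradical.mp ha
      rw [mem_nilradical]
      refine ⟨n, ?_⟩
      rw [mul_pow] at hn
      have hreg' : IsSMulRegular A (π ^ n) := hreg.pow n
      apply hreg'
      simp only [smul_eq_mul, mul_zero]
      rw [mul_comm]; exact hn
    rw [mul_comm]
    exact Submodule.smul_mem_smul (Ideal.mem_span_singleton_self π) hb
  have hjac : Ideal.span {π} ≤ Ideal.jacobson (⊥ : Ideal A) := by
    rw [IsLocalRing.jacobson_eq_maximalIdeal ⊥ bot_ne_top, Ideal.span_le]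
    exact Set.singleton_subset_iff.mpr hπm
  have h0 : nilradical A = ⊥ :=
    Submodule.eq_bot_of_le_smul_of_le_jacobson_bot (Ideal.span {π}) (nilradical A)
      (IsNoetherian.noetherian _) hN hjac
  exact nilradical_eq_bot_iff.mp h0

/-- `R'` a local principal ideal domain, `A` Noetherian local, flat over `R'` via a local
homomorphism `φ`, `ψ : A → B` surjective-with-kernel `𝔪_{R'} A` onto a reduced ring: `A` is reduced. -/
theorem isReduced_of_flat_of_fibre_isReduced {R' A B : Type*} [CommRing R'] [IsDomain R']
    [IsLocalRing R'] (hprin : ∃ ϖ : R', maximalIdeal R' = Ideal.span {ϖ}) [CommRing A] [CommRing B]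
    [IsLocalRing A] [IsNoetherianRing A] [IsReduced B] (φ : R' →+* A) [IsLocalHom φ]
    (hflat : φ.Flat) (ψ : A →+* B) (hψ : Function.Surjective ψ)
    (hker : RingHom.ker ψ = (maximalIdeal R').map φ) : IsReduced A := by
  obtain ⟨ϖ, hϖ'⟩ := hprin
  have hker' : RingHom.ker ψ = Ideal.span {φ ϖ} := by
    rw [hker, hϖ', Ideal.map_span, Set.image_singleton]
  by_cases h0 : ϖ = 0
  · -- `A ≅ B`
    have hinj : Function.Injective ψ := by
      rw [RingHom.injective_iff_ker_eq_bot, hker', h0, map_zero]
      simp
    exact isReduced_of_injective ψ hinj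
  · have hm : ϖ ∈ maximalIdeal R' := by rw [hϖ']; exact Ideal.mem_span_singleton_self ϖ
    have hπm : φ ϖ ∈ maximalIdeal A := by
      rw [mem_maximalIdeal, mem_nonunits_iff] at hm ⊢
      exact fun hu => hm (isUnit_of_map_unit φ ϖ hu)
    have hreg : IsSMulRegular A (φ ϖ) := by
      letI := φ.toAlgebra
      haveI : Module.Flat R' A := hflat
      have : IsSMulRegular R' ϖ := (IsRegular.of_ne_zero h0).left.isSMulRegular
      exact IsSMulRegular.of_flat this
    exact isReduced_of_regular_of_quotient_isReduced ψ (φ ϖ) hπm hreg hker'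

/-- If `f : X ⟶ Spec R` (`R` a principal ideal domain) is flat with `X` locally Noetherian, and the
fibre over `s` is reduced, then the local rings of `X` at the points of that fibre are reduced. -/
theorem isReduced_stalk_of_isReduced_fiber {R : Type u} [CommRing R] [IsDomain R]
    [IsPrincipalIdealRing R] {X : Scheme.{u}} [IsLocallyNoetherian X]
    (f : X ⟶ Spec (CommRingCat.of R)) [Flat f] (s : Spec (CommRingCat.of R))
    [AlgebraicGeometry.IsReduced (f.fiber s)] (x' : f.fiber s) :
    _root_.IsReduced (X.presheaf.stalk ((f.fiberι s).base x')) := by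
  set x := (f.fiberι s).base x' with hx
  letI alg : Algebra R ((Spec (CommRingCat.of R)).presheaf.stalk (f.base x)) :=
    StructureSheaf.stalkAlgebra R (f.base x)
  haveI hloc : IsLocalization.AtPrime ((Spec (CommRingCat.of R)).presheaf.stalk (f.base x))
      (f.base x).asIdeal := StructureSheaf.IsLocalization.to_stalk R (f.base x)
  haveI : IsDomain ((Spec (CommRingCat.of R)).presheaf.stalk (f.base x)) :=
    IsLocalization.isDomain_of_le_nonZeroDivisors (M := (f.base x).asIdeal.primeCompl)
      ((Spec (CommRingCat.of R)).presheaf.stalk (f.base x))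
      (Ideal.primeCompl_le_nonZeroDivisors _)
  have hprin : ∃ ϖ : (Spec (CommRingCat.of R)).presheaf.stalk (f.base x),
      maximalIdeal ((Spec (CommRingCat.of R)).presheaf.stalk (f.base x)) = Ideal.span {ϖ} := by
    obtain ⟨ϖ₀, h₀⟩ := (IsPrincipalIdealRing.principal (f.base x).asIdeal).principal
    refine ⟨algebraMap R _ ϖ₀, ?_⟩
    rw [← IsLocalization.AtPrime.map_eq_maximalIdeal (f.base x).asIdeal
      ((Spec (CommRingCat.of R)).presheaf.stalk (f.base x))]
    have h₀' : (f.base x).asIdeal = Ideal.span {ϖ₀} := h₀
    conv_lhs => rw [h₀', Ideal.map_span, Set.image_singleton]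
  exact isReduced_of_flat_of_fibre_isReduced hprin (f.stalkMap x).hom (Flat.stalkMap f x)
    ((f.fiberι s).stalkMap x').hom
    (Groth.Agent.Lib.Helper35.FiberStalk.stalkMap_fiberι_surjective f s x')
    (Groth.Agent.Lib.Helper35.FiberStalk.ker_stalkMap_fiberι f s x')

end Groth.Agent.Lib.Helper61.ReducedFibre
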