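import Groth.Prelude.Def_Flatn

/-!
# Relative finite presentation: basic ring-level and sheaf-level lemmas (helper61)
-/

set_option autoImplicit false
universe u

namespace Groth.Agent.Lib.Helper61.RelFP

open CategoryTheory AlgebraicGeometry Opposite

/-- A retract of a finitely presented module is finitely presented. -/
theorem finitePresentation_of_retract {P N N' : Type*} [Ring P] [AddCommGroup N] [Module P N]
    [AddCommGroup N'] [Module P N'] (i : N' →ₗ[P] N) (p : N →ₗ[P] N') (h : p ∘ₗ i = LinearMap.id)
    [Module.FinitePresentation P N] : Module.FinitePresentation P N' := by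
  have hp : Function.Surjective p := fun x => ⟨i x, by simpa using LinearMap.congr_fun h x⟩
  refine Module.finitePresentation_of_surjective p hp ?_
  have hker : LinearMap.ker p = LinearMap.range (LinearMap.id - i ∘ₗ p) := by
    ext x
    constructor
    · intro hx
      rw [LinearMap.mem_ker] at hx
      exact ⟨x, by simp [hx]⟩
    · rintro ⟨y, rfl⟩
      have := LinearMap.congr_fun h (p y)
      simp only [LinearMap.comp_apply, LinearMap.id_apply] at this
      simp [this]
  rw [hker, LinearMap.range_eq_map]
  exact (Module.Finite.fg_top).map _

/-- Relative finite presentation passes to retracts (ring level). -/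
theorem relFinitePresentation_of_retract {R S : Type u} [CommRing R] [CommRing S] [Algebra R S]
    {N N' : Type u} [AddCommGroup N] [Module S N] [AddCommGroup N'] [Module S N']
    (i : N' →ₗ[S] N) (p : N →ₗ[S] N') (h : p ∘ₗ i = LinearMap.id)
    (hN : FlatCA.RelFinitePresentation R S N) : FlatCA.RelFinitePresentation R S N' := by
  obtain ⟨n, φ, hφ, hfp⟩ := hN
  refine ⟨n, φ, hφ, ?_⟩
  letI : Module (MvPolynomial (Fin n) R) N := Module.compHom N φ.toRingHom
  letI : Module (MvPolynomial (Fin n) R) N' := Module.compHom N' φ.toRingHom
  let i' : N' →ₗ[MvPolynomial (Fin n) R] N :=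
    { toFun := i, map_add' := i.map_add, map_smul' := fun r x => i.map_smul (φ r) x }
  let p' : N →ₗ[MvPolynomial (Fin n) R] N' :=
    { toFun := p, map_add' := p.map_add, map_smul' := fun r x => p.map_smul (φ r) x }
  have h' : p' ∘ₗ i' = LinearMap.id := by
    ext x
    exact LinearMap.congr_fun h x
  haveI : Module.FinitePresentation (MvPolynomial (Fin n) R) N := hfp
  exact finitePresentation_of_retract i' p' h'

end Groth.Agent.Lib.Helper61.RelFP
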