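import Groth.Agent.Lib.Helper61.RelFPPullback
import Mathlib.AlgebraicGeometry.Morphisms.Flat

/-!
# Relative finite presentation: arbitrary base change (helper61)
-/

set_option autoImplicit false
universe u

open TensorProduct

namespace Groth.Agent.Lib.Helper61.RelFPRing

open Groth.Agent.Lib.Helper12

/-- Base change of relative finite presentation along a pushout square. -/
theorem baseChange_pushout {R A R' A' : Type u} [CommRing R] [CommRing A] [CommRing R']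
    [CommRing A'] [Algebra R A] [Algebra R R'] [Algebra A A'] [Algebra R' A'] [Algebra R A']
    [IsScalarTower R A A'] [IsScalarTower R R' A'] [Algebra.IsPushout R A R' A']
    {M : Type u} [AddCommGroup M] [Module A M]
    (h : FlatCA.RelFinitePresentation R A M) : FlatCA.RelFinitePresentation R' A' (A' ⊗[A] M) := by
  have hft : Algebra.FiniteType R A := finiteType h
  have hpush : Algebra.IsPushout R R' A A' := Algebra.IsPushout.symm inferInstance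
  have : Algebra.FiniteType R' A' :=
    Algebra.FiniteType.equiv (inferInstance : Algebra.FiniteType R' (R' ⊗[R] A))
      (Algebra.IsPushout.equiv R R' A A')
  obtain ⟨n, φ, hφ, hfp⟩ := h
  refine of_exists fun γ hγ => ?_
  exact fp_rel_baseChange_pushout (R := R) (A := A) (R' := R') (A' := A') M φ hφ hfp γ hγ

end Groth.Agent.Lib.Helper61.RelFPRing

namespace Groth.Agent.Lib.Helper61.RelFPScheme

open AlgebraicGeometry CategoryTheory CategoryTheory.Limits Opposite TopologicalSpace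
open Groth.Agent.Lib.Helper61 Groth.Agent.Lib.Helper61.QCohPullback

variable {X S X' S' : Scheme.{u}}

/-- A criterion for `IsRelFP` with a chosen family of affine opens covering the base. -/
theorem isRelFP_of_cover (f : X ⟶ S) (F : X.Modules) (𝒱 : Set S.affineOpens)
    (h𝒱 : (⨆ V ∈ 𝒱, (V : S.Opens)) = ⊤)
    (H : ∀ W ∈ 𝒱, ∀ x : X, f x ∈ (W : S.Opens) →
      ∃ (U : X.Opens) (_ : IsAffineOpen U) (h : U ≤ f ⁻¹ᵁ (W : S.Opens)), x ∈ U ∧
        RelFPOn' f F U W h) :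
    Flatn.IsRelFP f F := by
  refine ⟨𝒱, h𝒱, fun W hW => ⟨{U | ∃ h : (U : X.Opens) ≤ f ⁻¹ᵁ (W : S.Opens),
    RelFPOn' f F U W h}, ?_, fun U hU h => ?_⟩⟩
  · apply le_antisymm
    · exact iSup₂_le fun U hU => hU.1
    · intro x hx
      obtain ⟨U, hU, hle, hxU, hrel⟩ := H W hW x hx
      simp only [Opens.mem_iSup]
      exact ⟨⟨U, hU⟩, ⟨hle, hrel⟩, hxU⟩
  · obtain ⟨h', hrel⟩ := hU
    exact hrel

/-- **Base change** of relative finite presentation. -/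
theorem isRelFP_baseChange (f : X ⟶ S) [LocallyOfFiniteType f] (F : X.Modules) [F.IsQuasicoherent]
    (g : S' ⟶ S) (f' : X' ⟶ S') (g' : X' ⟶ X) (hc : IsPullback g' f' f g)
    (hF : Flatn.IsRelFP f F) : Flatn.IsRelFP f' ((Scheme.Modules.pullback g').obj F) := by
  refine isRelFP_of_cover f' _
    {W' | ∃ V : S.Opens, IsAffineOpen V ∧ (W' : S'.Opens) ≤ g ⁻¹ᵁ V} ?_ ?_
  · rw [eq_top_iff]
    intro s' _
    obtain ⟨V, hV, hsV, -⟩ := Opens.isBasis_iff_nbhd.mp S.isBasis_affineOpens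
      (show g s' ∈ (⊤ : S.Opens) from trivial)
    have hs' : s' ∈ g ⁻¹ᵁ V := hsV
    obtain ⟨W', hW', hsW', hW'le⟩ := Opens.isBasis_iff_nbhd.mp S'.isBasis_affineOpens hs'
    simp only [Opens.mem_iSup]
    exact ⟨⟨W', hW'⟩, ⟨V, hV, hW'le⟩, hsW'⟩
  · rintro ⟨W', hW'⟩ ⟨V, hV, hW'V⟩ x' hx'
    change f' x' ∈ W' at hx'
    change W' ≤ g ⁻¹ᵁ V at hW'V
    have hfx : f (g' x') ∈ V := by
      have h1 : f (g' x') = g (f' x') := by
        have := congrArg (fun φ : X' ⟶ S => φ x') hc.w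
        simpa using this
      rw [h1]
      exact hW'V hx'
    have hx'' : g' x' ∈ f ⁻¹ᵁ V := hfx
    obtain ⟨U, hU, hxU, hUV⟩ := Opens.isBasis_iff_nbhd.mp X.isBasis_affineOpens hx''
    have hU'le : g' ⁻¹ᵁ U ⊓ f' ⁻¹ᵁ W' ≤ f' ⁻¹ᵁ W' := inf_le_right
    have hU'le' : g' ⁻¹ᵁ U ⊓ f' ⁻¹ᵁ W' ≤ g' ⁻¹ᵁ U := inf_le_left
    have hU' : IsAffineOpen (g' ⁻¹ᵁ U ⊓ f' ⁻¹ᵁ W') := by
      haveI : IsAffine (V : Scheme.{u}) := hV
      haveI : IsAffine (W' : Scheme.{u}) := hW'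
      haveI : IsAffine (U : Scheme.{u}) := hU
      exact .of_isIso (Scheme.Hom.isPullback_resLE hc hW'V hUV rfl).isoPullback.hom
    refine ⟨g' ⁻¹ᵁ U ⊓ f' ⁻¹ᵁ W', hU', hU'le, ⟨hxU, hx'⟩, ?_⟩
    have H := relFPOn'_of_isRelFP f F hF hU hV hUV
    have hpo : IsPushout (f.appLE V U hUV) (g.appLE V W' hW'V)
        (g'.appLE U (g' ⁻¹ᵁ U ⊓ f' ⁻¹ᵁ W') hU'le') (f'.appLE W' (g' ⁻¹ᵁ U ⊓ f' ⁻¹ᵁ W') hU'le) :=
      (isIso_pushoutSection_iff hc hW'V hUV rfl).mp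
        (isIso_pushoutSection_of_isAffineOpen hc hW'V hUV rfl hV hW' hU)
    unfold RelFPOn' at H ⊢
    letI := (f.appLE V U hUV).hom.toAlgebra
    letI := (g.appLE V W' hW'V).hom.toAlgebra
    letI := (g'.appLE U (g' ⁻¹ᵁ U ⊓ f' ⁻¹ᵁ W') hU'le').hom.toAlgebra
    letI := (f'.appLE W' (g' ⁻¹ᵁ U ⊓ f' ⁻¹ᵁ W') hU'le).hom.toAlgebra
    letI : Algebra Γ(S, V) Γ(X', g' ⁻¹ᵁ U ⊓ f' ⁻¹ᵁ W') :=
      ((f.appLE V U hUV) ≫ (g'.appLE U (g' ⁻¹ᵁ U ⊓ f' ⁻¹ᵁ W') hU'le')).hom.toAlgebra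
    haveI : IsScalarTower Γ(S, V) Γ(X, U) Γ(X', g' ⁻¹ᵁ U ⊓ f' ⁻¹ᵁ W') :=
      IsScalarTower.of_algebraMap_eq' rfl
    haveI : IsScalarTower Γ(S, V) Γ(S', W') Γ(X', g' ⁻¹ᵁ U ⊓ f' ⁻¹ᵁ W') :=
      IsScalarTower.of_algebraMap_eq' (by
        show ((f.appLE V U hUV) ≫ (g'.appLE U _ hU'le')).hom =
          (f'.appLE W' _ hU'le).hom.comp (g.appLE V W' hW'V).hom
        rw [← CommRingCat.hom_comp, hpo.w])
    haveI : Algebra.IsPushout Γ(S, V) Γ(X, U) Γ(S', W') Γ(X', g' ⁻¹ᵁ U ⊓ f' ⁻¹ᵁ W') :=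
      CommRingCat.isPushout_iff_isPushout.mp hpo
    have H1 := RelFPRing.baseChange_pushout (R := Γ(S, V)) (A := Γ(X, U)) (R' := Γ(S', W'))
      (A' := Γ(X', g' ⁻¹ᵁ U ⊓ f' ⁻¹ᵁ W')) H
    exact RelFPRing.of_linearEquiv (sectionsPullbackEquiv g' F hU' hU hU'le').symm H1

end Groth.Agent.Lib.Helper61.RelFPScheme
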