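import Groth.Agent.Lib.Helper61.RelFPScheme
import Mathlib.AlgebraicGeometry.Morphisms.FinitePresentation

/-!
# Relative finite presentation: composition with a morphism locally of finite presentation (helper61)
-/

set_option autoImplicit false
universe u

namespace Groth.Agent.Lib.Helper61.RelFPScheme

open AlgebraicGeometry CategoryTheory Opposite TopologicalSpace
open Groth.Agent.Lib.Helper61.QCohSections Groth.Agent.Lib.Helper61

variable {X Y S : Scheme.{u}}

/-- A criterion for `IsRelFP`: every point of `X` has an affine neighbourhood `U` and its image an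
affine neighbourhood `V ⊇ f(U)`... packaged as: for every affine `W` of the base, every point over
`W` has an affine open neighbourhood `U ≤ f⁻¹ W` with `RelFPOn'`. -/
theorem isRelFP_of_forall_exists (f : X ⟶ S) (F : X.Modules)
    (H : ∀ (W : S.Opens), IsAffineOpen W → ∀ x : X, f x ∈ W →
      ∃ (U : X.Opens) (_ : IsAffineOpen U) (h : U ≤ f ⁻¹ᵁ W), x ∈ U ∧ RelFPOn' f F U W h) :
    Flatn.IsRelFP f F := by
  refine ⟨Set.univ, ?_, fun W _ => ⟨{U | ∃ h : (U : X.Opens) ≤ f ⁻¹ᵁ (W : S.Opens),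
    RelFPOn' f F U W h}, ?_, fun U hU h => ?_⟩⟩
  · rw [eq_top_iff]
    intro s _
    obtain ⟨W, hW, hsW, -⟩ := Opens.isBasis_iff_nbhd.mp S.isBasis_affineOpens
      (show s ∈ (⊤ : S.Opens) from trivial)
    simp only [Opens.mem_iSup]
    exact ⟨⟨W, hW⟩, Set.mem_univ _, hsW⟩
  · apply le_antisymm
    · exact iSup₂_le fun U hU => hU.1
    · intro x hx
      obtain ⟨U, hU, hle, hxU, hrel⟩ := H W W.2 x hx
      simp only [Opens.mem_iSup]
      exact ⟨⟨U, hU⟩, ⟨hle, hrel⟩, hxU⟩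
  · obtain ⟨h', hrel⟩ := hU
    exact hrel

/-- Composition with a morphism locally of finite presentation. -/
theorem isRelFP_comp (f : X ⟶ Y) (g : Y ⟶ S) [LocallyOfFiniteType f] [LocallyOfFinitePresentation g]
    (F : X.Modules) [F.IsQuasicoherent] (hF : Flatn.IsRelFP f F) : Flatn.IsRelFP (f ≫ g) F := by
  refine isRelFP_of_forall_exists (f ≫ g) F fun W hW x hx => ?_
  -- affine `V ∋ f x` inside `g⁻¹ W`
  have hx' : f x ∈ g ⁻¹ᵁ W := hx
  obtain ⟨V, hV, hxV, hVle⟩ := Opens.isBasis_iff_nbhd.mp Y.isBasis_affineOpens hx'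
  have hx'' : x ∈ f ⁻¹ᵁ V := hxV
  obtain ⟨U, hU, hxU, hUle⟩ := Opens.isBasis_iff_nbhd.mp X.isBasis_affineOpens hx''
  have hUW : U ≤ (f ≫ g) ⁻¹ᵁ W := hUle.trans (f.preimage_mono hVle)
  refine ⟨U, hU, hUW, hxU, ?_⟩
  have H := relFPOn'_of_isRelFP f F hF hU hV hUle
  unfold RelFPOn' at H ⊢
  letI := (f.appLE V U hUle).hom.toAlgebra
  letI := (g.appLE W V hVle).hom.toAlgebra
  letI := ((f ≫ g).appLE W U hUW).hom.toAlgebra
  haveI : IsScalarTower Γ(S, W) Γ(Y, V) Γ(X, U) := IsScalarTower.of_algebraMap_eq' (by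
    show ((f ≫ g).appLE W U hUW).hom = (f.appLE V U hUle).hom.comp (g.appLE W V hVle).hom
    rw [← CommRingCat.hom_comp, Scheme.Hom.appLE_comp_appLE])
  haveI : Algebra.FinitePresentation Γ(S, W) Γ(Y, V) :=
    LocallyOfFinitePresentation.finitePresentation_appLE (f := g) hW hV hVle
  exact RelFPRing.trans_of_fp (R := Γ(S, W)) (R' := Γ(Y, V)) (S := Γ(X, U)) H

end Groth.Agent.Lib.Helper61.RelFPScheme
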