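import Groth.Agent.Lib.Helper61.RelFPComp
import Groth.Agent.Lib.QCoh.Extension
import Groth.Agent.Lib.QCoh.AffineOpen

/-!
# Relative finite presentation in short exact sequences (helper61)
-/

set_option autoImplicit false
universe u

namespace Groth.Agent.Lib.Helper61.RelFPRing

variable {R S : Type u} [CommRing R] [CommRing S] [Algebra R S]
  {M₁ M₂ M₃ : Type u} [AddCommGroup M₁] [Module S M₁] [AddCommGroup M₂] [Module S M₂]
  [AddCommGroup M₃] [Module S M₃]

/-- restrict an `S`-linear map to a linear map over a ring mapping to `S`. -/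
def compHomLinear {P : Type*} [CommRing P] (φ : P →+* S) {M N : Type*} [AddCommGroup M] [Module S M]
    [AddCommGroup N] [Module S N] (f : M →ₗ[S] N) :
    letI := Module.compHom M φ
    letI := Module.compHom N φ
    M →ₗ[P] N :=
  letI := Module.compHom M φ
  letI := Module.compHom N φ
  { toFun := f, map_add' := f.map_add, map_smul' := fun p x => f.map_smul (φ p) x }

/-- Extensions: outer terms relatively finitely presented implies the middle one is. -/
theorem of_exact_extremes (f : M₁ →ₗ[S] M₂) (g : M₂ →ₗ[S] M₃) (hf : Function.Injective f)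
    (hg : Function.Surjective g) (hex : Function.Exact f g)
    (h₁ : FlatCA.RelFinitePresentation R S M₁) (h₃ : FlatCA.RelFinitePresentation R S M₃) :
    FlatCA.RelFinitePresentation R S M₂ := by
  obtain ⟨n, φ, hφ, hfp₁⟩ := h₁
  have hfp₃ := forall_presentation h₃ φ hφ
  refine ⟨n, φ, hφ, ?_⟩
  letI := Module.compHom M₁ φ.toRingHom
  letI := Module.compHom M₂ φ.toRingHom
  letI := Module.compHom M₃ φ.toRingHom
  let f' : M₁ →ₗ[MvPolynomial (Fin n) R] M₂ := compHomLinear φ.toRingHom f
  let g' : M₂ →ₗ[MvPolynomial (Fin n) R] M₃ := compHomLinear φ.toRingHom g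
  haveI : Module.FinitePresentation (MvPolynomial (Fin n) R) M₁ := hfp₁
  haveI : Module.FinitePresentation (MvPolynomial (Fin n) R) M₃ := hfp₃
  have hex' : Function.Exact f' g' := hex
  have hker : LinearMap.ker g' = LinearMap.range f' := (LinearMap.exact_iff.mp hex')
  haveI : Module.FinitePresentation (MvPolynomial (Fin n) R) (LinearMap.ker g') := by
    rw [hker]
    exact Module.FinitePresentation.of_equiv (LinearEquiv.ofInjective f' hf)
  exact Module.finitePresentation_of_ker g' hg

/-- Quotients by finitely generated submodules. -/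
theorem of_exact_quotient (f : M₁ →ₗ[S] M₂) (g : M₂ →ₗ[S] M₃)
    (hg : Function.Surjective g) (hex : Function.Exact f g) (hfin : Module.Finite S M₁)
    (h₂ : FlatCA.RelFinitePresentation R S M₂) : FlatCA.RelFinitePresentation R S M₃ := by
  obtain ⟨n, φ, hφ, hfp₂⟩ := h₂
  refine ⟨n, φ, hφ, ?_⟩
  letI := Module.compHom M₁ φ.toRingHom
  letI := Module.compHom M₂ φ.toRingHom
  letI := Module.compHom M₃ φ.toRingHom
  let f' : M₁ →ₗ[MvPolynomial (Fin n) R] M₂ := compHomLinear φ.toRingHom f
  let g' : M₂ →ₗ[MvPolynomial (Fin n) R] M₃ := compHomLinear φ.toRingHom g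
  haveI : Module.FinitePresentation (MvPolynomial (Fin n) R) M₂ := hfp₂
  have hex' : Function.Exact f' g' := hex
  have hker : LinearMap.ker g' = LinearMap.range f' := (LinearMap.exact_iff.mp hex')
  letI : Algebra (MvPolynomial (Fin n) R) S := φ.toRingHom.toAlgebra
  haveI : IsScalarTower (MvPolynomial (Fin n) R) S M₁ := ⟨fun p a m => by
    show (φ p * a) • m = φ p • (a • m)
    rw [mul_smul]⟩
  haveI : Module.Finite (MvPolynomial (Fin n) R) M₁ := ⟨by
    have h0 := (Module.Finite.fg_top : (⊤ : Submodule S M₁).FG).restrictScalars_of_surjective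
      (R := MvPolynomial (Fin n) R) hφ
    simpa using h0⟩
  refine Module.finitePresentation_of_surjective g' hg ?_
  rw [hker, LinearMap.range_eq_map]
  exact Module.Finite.fg_top.map _

end Groth.Agent.Lib.Helper61.RelFPRing

namespace Groth.Agent.Lib.Helper61.QCohSections

open AlgebraicGeometry CategoryTheory CategoryTheory.Limits Opposite TopologicalSpace

variable {X : Scheme.{u}}

/-- Sections over any open of a short exact sequence of `O_X`-modules: injectivity on the left. -/
theorem injective_app_of_shortExact (E : ShortComplex X.Modules) (hE : E.ShortExact) (U : X.Opens) :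
    Function.Injective (E.f.app U) :=
  haveI := hE.mono_f
  Groth.Agent.Lib.QCoh.app_injective_of_mono E.f U

/-- Sections over any open of a short exact sequence of `O_X`-modules: exactness in the middle. -/
theorem exact_app_of_shortExact (E : ShortComplex X.Modules) (hE : E.ShortExact) (U : X.Opens) :
    Function.Exact (E.f.app U) (E.g.app U) := by
  haveI := hE.mono_f
  haveI : PreservesFiniteLimits ((evaluation (Opens ↥X)ᵒᵖ Ab.{u}).obj (op U)) := inferInstance
  haveI : PreservesFiniteLimits (Scheme.Modules.toPresheaf X) := inferInstance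
  haveI : PreservesFiniteLimits
      (Scheme.Modules.toPresheaf X ⋙ (evaluation (Opens ↥X)ᵒᵖ Ab.{u}).obj (op U)) :=
    comp_preservesFiniteLimits _ _
  haveI : (Scheme.Modules.toPresheaf X ⋙
      (evaluation (Opens ↥X)ᵒᵖ Ab.{u}).obj (op U)).PreservesZeroMorphisms := inferInstance
  have hex : (E.map (Scheme.Modules.toPresheaf X ⋙
      (evaluation (Opens ↥X)ᵒᵖ Ab.{u}).obj (op U))).Exact :=
    hE.exact.map_of_mono_of_preservesKernel _ inferInstance inferInstance
  exact (ShortComplex.ab_exact_iff_function_exact _).mp hex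

/-- Sections over an affine open of an epimorphism with quasi-coherent kernel are surjective. -/
theorem surjective_app_of_isAffineOpen (E : ShortComplex X.Modules) (hE : E.ShortExact)
    [E.X₁.IsQuasicoherent] {U : X.Opens} (hU : IsAffineOpen U) :
    Function.Surjective (E.g.app U) := by
  haveI : IsAffine (U : Scheme.{u}) := hU
  have h := Groth.Agent.Lib.QCoh.shortExact_map_restrictFunctor U.ι hE
  haveI : (E.map (Scheme.Modules.restrictFunctor U.ι)).X₁.IsQuasicoherent :=
    inferInstanceAs ((Scheme.Modules.restrictFunctor U.ι).obj E.X₁).IsQuasicoherent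
  have hsurj := Groth.Agent.Lib.QCoh.surjective_app_top_of_shortExact_of_isAffine
    (E.map (Scheme.Modules.restrictFunctor U.ι)) h
  have e : U.ι ''ᵁ ⊤ = U := by simp
  intro y
  obtain ⟨x', hx'⟩ := hsurj (E.X₃.presheaf.map (eqToHom e).op y)
  refine ⟨E.X₂.presheaf.map (eqToHom e.symm).op x', ?_⟩
  have hnat := E.g.mapPresheaf.naturality (eqToHom e.symm).op
  have h2 := congrArg (fun φ => φ x') hnat
  simp only [Scheme.Modules.mapPresheaf_app] at h2
  change E.g.app U (E.X₂.presheaf.map (eqToHom e.symm).op x') =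
    E.X₃.presheaf.map (eqToHom e.symm).op (E.g.app (U.ι ''ᵁ ⊤) x') at h2
  rw [h2]
  change E.X₃.presheaf.map (eqToHom e.symm).op
    (((E.map (Scheme.Modules.restrictFunctor U.ι)).g.app ⊤) x') = y
  rw [hx', ← ConcreteCategory.comp_apply, ← Functor.map_comp, ← op_comp, eqToHom_trans, eqToHom_refl,
    op_id, CategoryTheory.Functor.map_id]
  rfl

end Groth.Agent.Lib.Helper61.QCohSections

namespace Groth.Agent.Lib.Helper61.RelFPScheme

open AlgebraicGeometry CategoryTheory CategoryTheory.Limits Opposite TopologicalSpace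
open Groth.Agent.Lib.Helper61 Groth.Agent.Lib.Helper61.QCohSections

variable {X S : Scheme.{u}}

/-- Extensions of relatively finitely presented quasi-coherent modules. -/
theorem isRelFP_of_shortExact_of_extremes (f : X ⟶ S) [LocallyOfFiniteType f]
    (E : ShortComplex X.Modules) (hE : E.ShortExact)
    [E.X₁.IsQuasicoherent] [E.X₃.IsQuasicoherent]
    (h₁ : Flatn.IsRelFP f E.X₁) (h₃ : Flatn.IsRelFP f E.X₃) : Flatn.IsRelFP f E.X₂ := by
  refine isRelFP_of_forall f _ fun U V h => ?_
  have H₁ := relFPOn'_of_isRelFP f E.X₁ h₁ U.2 V.2 h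
  have H₃ := relFPOn'_of_isRelFP f E.X₃ h₃ U.2 V.2 h
  rw [relFPOn_iff]
  unfold RelFPOn' at H₁ H₃ ⊢
  letI := (f.appLE (V : S.Opens) (U : X.Opens) h).hom.toAlgebra
  exact RelFPRing.of_exact_extremes (E.f.val.app (op (U : X.Opens))).hom
    (E.g.val.app (op (U : X.Opens))).hom
    (injective_app_of_shortExact E hE U) (surjective_app_of_isAffineOpen E hE U.2)
    (exact_app_of_shortExact E hE U) H₁ H₃

/-- Quotients of relatively finitely presented modules by finite type submodules. -/
theorem isRelFP_of_shortExact_of_finiteType_sub (f : X ⟶ S) [LocallyOfFiniteType f]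
    (E : ShortComplex X.Modules) (hE : E.ShortExact)
    [E.X₁.IsQuasicoherent] [E.X₂.IsQuasicoherent]
    [E.X₁.IsFiniteType] (h₂ : Flatn.IsRelFP f E.X₂) : Flatn.IsRelFP f E.X₃ := by
  refine isRelFP_of_forall f _ fun U V h => ?_
  have H₂ := relFPOn'_of_isRelFP f E.X₂ h₂ U.2 V.2 h
  rw [relFPOn_iff]
  unfold RelFPOn' at H₂ ⊢
  letI := (f.appLE (V : S.Opens) (U : X.Opens) h).hom.toAlgebra
  have hfin : Module.Finite Γ(X, (U : X.Opens)) Γ(E.X₁, (U : X.Opens)) :=
    Groth.Agent.Lib.QCoh.finite_Γ_of_isAffineOpen U.2 E.X₁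
  exact RelFPRing.of_exact_quotient (E.f.val.app (op (U : X.Opens))).hom
    (E.g.val.app (op (U : X.Opens))).hom
    (surjective_app_of_isAffineOpen E hE U.2)
    (exact_app_of_shortExact E hE U) hfin H₂

end Groth.Agent.Lib.Helper61.RelFPScheme
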