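import Groth.Agent.Lib.Helper61.RelFPComp
import Groth.Agent.S6992
import Mathlib.AlgebraicGeometry.Morphisms.Finite
import Groth.Agent.Lib.QCoh.Helper50_Pushforward

/-!
# Relative finite presentation and pushforward along finite morphisms (helper61)
-/

set_option autoImplicit false
universe u

namespace Groth.Agent.Lib.Helper61.RelFPRing

/-- Relative finite presentation is insensitive to finite extensions of the algebra. -/
theorem finite_iff {R A B : Type u} [CommRing R] [CommRing A] [CommRing B]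
    [Algebra R A] [Algebra A B] [Algebra R B] [IsScalarTower R A B] [Algebra.FiniteType R A]
    [Module.Finite A B] (M : Type u) [AddCommGroup M] [Module B M] [Module A M]
    [IsScalarTower A B M] :
    FlatCA.RelFinitePresentation R A M ↔ FlatCA.RelFinitePresentation R B M := by
  have : Algebra.FiniteType A B := inferInstance
  have : Algebra.FiniteType R B := Algebra.FiniteType.trans (inferInstance : Algebra.FiniteType R A) this
  obtain ⟨n, α, hα⟩ := Algebra.FiniteType.iff_quotient_mvPolynomial''.mp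
    (inferInstance : Algebra.FiniteType R A)
  obtain ⟨k, β, hβ⟩ := Algebra.FiniteType.iff_quotient_mvPolynomial''.mp
    (inferInstance : Algebra.FiniteType R B)
  constructor
  · intro h
    exact ⟨k, β, hβ, (Groth.Agent.S6992.result M α hα β hβ).mp (forall_presentation h α hα)⟩
  · intro h
    exact ⟨n, α, hα, (Groth.Agent.S6992.result M α hα β hβ).mpr (forall_presentation h β hβ)⟩

end Groth.Agent.Lib.Helper61.RelFPRing

namespace Groth.Agent.Lib.Helper61.RelFPScheme

open AlgebraicGeometry CategoryTheory Opposite TopologicalSpace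
open Groth.Agent.Lib.Helper61

variable {X Y S : Scheme.{u}}

/-- The affine-pair comparison for a finite morphism `π` and `V ⊆ Y` affine. -/
theorem relFPOn'_push_iff (π : X ⟶ Y) (g : Y ⟶ S) [IsFinite π] [LocallyOfFiniteType g]
    (F : X.Modules) {V : Y.Opens} {W : S.Opens} (hV : IsAffineOpen V) (hW : IsAffineOpen W)
    (h : V ≤ g ⁻¹ᵁ W) :
    RelFPOn' g ((Scheme.Modules.pushforward π).obj F) V W h ↔
      RelFPOn' (π ≫ g) F (π ⁻¹ᵁ V) W (π.preimage_mono h) := by
  unfold RelFPOn'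
  letI := (g.appLE W V h).hom.toAlgebra
  letI := ((π ≫ g).appLE W (π ⁻¹ᵁ V) (π.preimage_mono h)).hom.toAlgebra
  letI : Algebra Γ(Y, V) Γ(X, π ⁻¹ᵁ V) := (π.app V).hom.toAlgebra
  haveI : IsScalarTower Γ(S, W) Γ(Y, V) Γ(X, π ⁻¹ᵁ V) := IsScalarTower.of_algebraMap_eq' (by
    show ((π ≫ g).appLE W (π ⁻¹ᵁ V) _).hom = (π.app V).hom.comp (g.appLE W V h).hom
    rw [← CommRingCat.hom_comp, π.app_eq_appLE, Scheme.Hom.appLE_comp_appLE])
  haveI : Algebra.FiniteType Γ(S, W) Γ(Y, V) :=
    LocallyOfFiniteType.finiteType_appLE (f := g) hW hV h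
  haveI : Module.Finite Γ(Y, V) Γ(X, π ⁻¹ᵁ V) := IsFinite.finite_app π V hV
  letI : Module Γ(Y, V) (F.val.obj (op (π ⁻¹ᵁ V))) :=
    (((Scheme.Modules.pushforward π).obj F).val.obj (op V)).isModule
  haveI : IsScalarTower Γ(Y, V) Γ(X, π ⁻¹ᵁ V) (F.val.obj (op (π ⁻¹ᵁ V))) :=
    ⟨fun a b m => by
      show (π.app V a * b) • m = π.app V a • (b • m)
      rw [mul_smul]⟩
  exact RelFPRing.finite_iff (R := Γ(S, W)) (A := Γ(Y, V)) (B := Γ(X, π ⁻¹ᵁ V))
    (F.val.obj (op (π ⁻¹ᵁ V)))

/-- Pushforward along a finite morphism: `F` is relatively finitely presented over `S` iff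
`π_* F` is. -/
theorem isRelFP_push_iff (π : X ⟶ Y) (g : Y ⟶ S) [IsFinite π] [LocallyOfFiniteType g]
    (F : X.Modules) [F.IsQuasicoherent] :
    Flatn.IsRelFP (π ≫ g) F ↔ Flatn.IsRelFP g ((Scheme.Modules.pushforward π).obj F) := by
  haveI : ((Scheme.Modules.pushforward π).obj F).IsQuasicoherent :=
    Groth.Agent.Lib.QCoh.isQuasicoherent_pushforward_of_isAffineHom π F
  constructor
  · intro hF
    refine isRelFP_of_forall_exists g _ fun W hW y hy => ?_
    have hy' : y ∈ g ⁻¹ᵁ W := hy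
    obtain ⟨V, hV, hyV, hVle⟩ := Opens.isBasis_iff_nbhd.mp Y.isBasis_affineOpens hy'
    refine ⟨V, hV, hVle, hyV, ?_⟩
    rw [relFPOn'_push_iff π g F hV hW hVle]
    exact relFPOn'_of_isRelFP (π ≫ g) F hF (hV.preimage π) hW _
  · intro hF
    refine isRelFP_of_forall_exists (π ≫ g) F fun W hW x hx => ?_
    have hx' : π x ∈ g ⁻¹ᵁ W := hx
    obtain ⟨V, hV, hxV, hVle⟩ := Opens.isBasis_iff_nbhd.mp Y.isBasis_affineOpens hx'
    refine ⟨π ⁻¹ᵁ V, hV.preimage π, π.preimage_mono hVle, hxV, ?_⟩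
    rw [← relFPOn'_push_iff π g F hV hW hVle]
    exact relFPOn'_of_isRelFP g _ hF hV hW hVle

end Groth.Agent.Lib.Helper61.RelFPScheme
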