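import Groth.Agent.Lib.Helper61.RelFPComp
import Groth.Agent.Lib.Helper61.QCohPullbackSections

/-!
# Relative finite presentation and pullbacks (helper61)
-/

set_option autoImplicit false
universe u

namespace Groth.Agent.Lib.Helper61.RelFPScheme

open AlgebraicGeometry CategoryTheory Opposite TopologicalSpace TensorProduct
open Groth.Agent.Lib.Helper61 Groth.Agent.Lib.Helper61.QCohPullback

variable {X Y S : Scheme.{u}}

/-- Pullback along a morphism locally of finite presentation. -/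
theorem isRelFP_pullback_of_lfp (f : X ⟶ Y) (g : Y ⟶ S) [LocallyOfFinitePresentation f]
    [LocallyOfFiniteType g] (G : Y.Modules) [G.IsQuasicoherent] (hG : Flatn.IsRelFP g G) :
    Flatn.IsRelFP (f ≫ g) ((Scheme.Modules.pullback f).obj G) := by
  refine isRelFP_of_forall_exists (f ≫ g) _ fun W hW x hx => ?_
  have hx' : f x ∈ g ⁻¹ᵁ W := hx
  obtain ⟨V, hV, hxV, hVle⟩ := Opens.isBasis_iff_nbhd.mp Y.isBasis_affineOpens hx'
  have hx'' : x ∈ f ⁻¹ᵁ V := hxV
  obtain ⟨U, hU, hxU, hUle⟩ := Opens.isBasis_iff_nbhd.mp X.isBasis_affineOpens hx''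
  have hUW : U ≤ (f ≫ g) ⁻¹ᵁ W := hUle.trans (f.preimage_mono hVle)
  refine ⟨U, hU, hUW, hxU, ?_⟩
  have H := relFPOn'_of_isRelFP g G hG hV hW hVle
  unfold RelFPOn' at H ⊢
  letI := (f.appLE V U hUle).hom.toAlgebra
  letI := (g.appLE W V hVle).hom.toAlgebra
  letI := ((f ≫ g).appLE W U hUW).hom.toAlgebra
  haveI : IsScalarTower Γ(S, W) Γ(Y, V) Γ(X, U) := IsScalarTower.of_algebraMap_eq' (by
    show ((f ≫ g).appLE W U hUW).hom = (f.appLE V U hUle).hom.comp (g.appLE W V hVle).hom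
    rw [← CommRingCat.hom_comp, Scheme.Hom.appLE_comp_appLE])
  haveI : Algebra.FinitePresentation Γ(Y, V) Γ(X, U) :=
    LocallyOfFinitePresentation.finitePresentation_appLE (f := f) hV hU hUle
  have H1 := RelFPRing.baseChange_fp (R := Γ(S, W)) (S := Γ(Y, V)) (S' := Γ(X, U)) H
  exact RelFPRing.of_linearEquiv (sectionsPullbackEquiv f G hU hV hUle).symm H1

end Groth.Agent.Lib.Helper61.RelFPScheme
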