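import Groth.Prelude.Def_FlatCA
import Groth.Agent.Lib.Helper12.RelFPBaseChange
import Mathlib.RingTheory.LocalProperties.FinitePresentation
import Mathlib.RingTheory.RingHom.FinitePresentation

/-!
# Relative finite presentation (ring level), packaged for `FlatCA.RelFinitePresentation` (helper61)

Built over helper12's `Lib/Helper12/RelFP*.lean`.
-/

set_option autoImplicit false
universe u

open TensorProduct

namespace Groth.Agent.Lib.Helper61.RelFPRing

open Groth.Agent.Lib.Helper12

variable {R S : Type u} [CommRing R] [CommRing S] [Algebra R S]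

/-- Finite type of the algebra is part of relative finite presentation. -/
theorem finiteType {N : Type u} [AddCommGroup N] [Module S N]
    (h : FlatCA.RelFinitePresentation R S N) : Algebra.FiniteType R S := by
  obtain ⟨n, φ, hφ, -⟩ := h
  exact Algebra.FiniteType.of_surjective φ hφ

/-- Any surjective presentation works. -/
theorem forall_presentation {N : Type u} [AddCommGroup N] [Module S N]
    (h : FlatCA.RelFinitePresentation R S N) {k : ℕ} (β : MvPolynomial (Fin k) R →ₐ[R] S)
    (hβ : Function.Surjective β) :
    @Module.FinitePresentation (MvPolynomial (Fin k) R) N _ _ (Module.compHom N β.toRingHom) := by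
  obtain ⟨n, φ, hφ, hfp⟩ := h
  exact (fp_indep N φ hφ β hβ).mp hfp

/-- To prove relative finite presentation one needs finite type and f.p. for one presentation. -/
theorem of_exists [Algebra.FiniteType R S] {N : Type u} [AddCommGroup N] [Module S N]
    (h : ∀ {k : ℕ} (β : MvPolynomial (Fin k) R →ₐ[R] S), Function.Surjective β →
      @Module.FinitePresentation (MvPolynomial (Fin k) R) N _ _ (Module.compHom N β.toRingHom)) :
    FlatCA.RelFinitePresentation R S N := by
  obtain ⟨k, β, hβ⟩ := Algebra.FiniteType.iff_quotient_mvPolynomial''.mp
    (inferInstance : Algebra.FiniteType R S)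
  exact ⟨k, β, hβ, h β hβ⟩

/-- Transport along a linear equivalence. -/
theorem of_linearEquiv {N N' : Type u} [AddCommGroup N] [Module S N] [AddCommGroup N'] [Module S N']
    (e : N ≃ₗ[S] N') (h : FlatCA.RelFinitePresentation R S N) :
    FlatCA.RelFinitePresentation R S N' := by
  obtain ⟨n, φ, hφ, hfp⟩ := h
  exact ⟨n, φ, hφ, fp_compHom_of_equiv φ.toRingHom e hfp⟩

/-- Base change along a finitely presented ring map `S → S'`. -/
theorem baseChange_fp {S' : Type u} [CommRing S'] [Algebra S S'] [Algebra R S'] [IsScalarTower R S S']
    [Algebra.FinitePresentation S S'] {N : Type u} [AddCommGroup N] [Module S N]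
    (h : FlatCA.RelFinitePresentation R S N) : FlatCA.RelFinitePresentation R S' (S' ⊗[S] N) := by
  have hft := finiteType h
  have : Algebra.FiniteType S S' := inferInstance
  have : Algebra.FiniteType R S' := Algebra.FiniteType.trans hft this
  obtain ⟨n, φ, hφ, hfp⟩ := h
  refine of_exists fun γ hγ => ?_
  exact fp_rel_baseChange N φ hφ hfp γ hγ

/-- Localization away from an element: `N' = N_g` over `S' = S_g`. -/
theorem localization_away {S' : Type u} [CommRing S'] [Algebra S S'] [Algebra R S'] [IsScalarTower R S S']
    (g : S) [IsLocalization.Away g S'] {N N' : Type u} [AddCommGroup N] [Module S N]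
    [AddCommGroup N'] [Module S' N'] [Module S N'] [IsScalarTower S S' N']
    (l : N →ₗ[S] N') [IsLocalizedModule (Submonoid.powers g) l]
    (h : FlatCA.RelFinitePresentation R S N) : FlatCA.RelFinitePresentation R S' N' := by
  have : Algebra.FinitePresentation S S' := IsLocalization.Away.finitePresentation g
  have h1 := baseChange_fp (S' := S') h
  have hb : IsBaseChange S' l := IsLocalizedModule.isBaseChange (Submonoid.powers g) S' l
  exact of_linearEquiv hb.equiv h1

/-- Change of base: relative to a finitely presented `R`-algebra `R'` implies relative to `R`. -/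
theorem trans_of_fp {R' : Type u} [CommRing R'] [Algebra R R'] [Algebra R' S] [IsScalarTower R R' S]
    [Algebra.FinitePresentation R R'] {N : Type u} [AddCommGroup N] [Module S N]
    (h : FlatCA.RelFinitePresentation R' S N) : FlatCA.RelFinitePresentation R S N := by
  have hft := finiteType h
  have : Algebra.FiniteType R R' := inferInstance
  have : Algebra.FiniteType R S := Algebra.FiniteType.trans this hft
  obtain ⟨n, φ, hφ, hfp⟩ := h
  refine of_exists fun γ hγ => ?_
  exact fp_rel_trans N φ hφ γ hγ hfp

/-- Change of base to a localization of the base through which `S` factors. -/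
theorem of_localization_base {R' : Type u} [CommRing R'] [Algebra R R'] [Algebra R' S]
    [IsScalarTower R R' S] (f : R) [IsLocalization.Away f R'] {N : Type u} [AddCommGroup N]
    [Module S N] (h : FlatCA.RelFinitePresentation R S N) : FlatCA.RelFinitePresentation R' S N := by
  have hft := finiteType h
  have : Algebra.FiniteType R' S := Algebra.FiniteType.of_restrictScalars_finiteType R R' S
  have hunit : Algebra.algebraMapSubmonoid S (Submonoid.powers f) ≤ IsUnit.submonoid S := by
    rintro x ⟨y, ⟨n, rfl⟩, rfl⟩
    have : IsUnit (algebraMap R R' f) := IsLocalization.Away.algebraMap_isUnit f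
    rw [IsUnit.mem_submonoid_iff, map_pow, IsScalarTower.algebraMap_apply R R' S]
    exact (this.map _).pow n
  have : IsLocalization (Algebra.algebraMapSubmonoid S (Submonoid.powers f)) S :=
    IsLocalization.of_le_isUnit hunit
  have hpush : Algebra.IsPushout R S R' S :=
    Algebra.isPushout_of_isLocalization (Submonoid.powers f) R' S S
  obtain ⟨n, φ, hφ, hfp⟩ := h
  refine of_exists fun γ hγ => ?_
  have h1 := fp_rel_baseChange_pushout (R := R) (A := S) (R' := R') (A' := S) N φ hφ hfp γ hγ
  exact fp_compHom_of_equiv γ.toRingHom (TensorProduct.lid S N) h1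

/-- Change of base from a localization of the base. -/
theorem of_localization_base' {R' : Type u} [CommRing R'] [Algebra R R'] [Algebra R' S]
    [IsScalarTower R R' S] (f : R) [IsLocalization.Away f R'] {N : Type u} [AddCommGroup N]
    [Module S N] (h : FlatCA.RelFinitePresentation R' S N) : FlatCA.RelFinitePresentation R S N := by
  have : Algebra.FinitePresentation R R' := IsLocalization.Away.finitePresentation f
  exact trans_of_fp h

end Groth.Agent.Lib.Helper61.RelFPRing

namespace Groth.Agent.Lib.Helper61.RelFPRing

open Groth.Agent.Lib.Helper12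

/-- Local-to-global: relative finite presentation can be checked on a family of localizations
away from elements generating the unit ideal. -/
theorem of_localization_span {R S : Type u} [CommRing R] [CommRing S] [Algebra R S]
    [Algebra.FiniteType R S] {N : Type u} [AddCommGroup N] [Module S N]
    (t : Set S) (ht : Ideal.span t = ⊤)
    (S' : t → Type u) [∀ g, CommRing (S' g)] [∀ g, Algebra S (S' g)] [∀ g, Algebra R (S' g)]
    [∀ g, IsScalarTower R S (S' g)] [∀ g : t, IsLocalization.Away g.1 (S' g)]
    (N' : t → Type u) [∀ g, AddCommGroup (N' g)] [∀ g, Module (S' g) (N' g)] [∀ g, Module S (N' g)]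
    [∀ g, IsScalarTower S (S' g) (N' g)]
    (l : ∀ g : t, N →ₗ[S] N' g) [∀ g : t, IsLocalizedModule (Submonoid.powers g.1) (l g)]
    (h : ∀ g, FlatCA.RelFinitePresentation R (S' g) (N' g)) :
    FlatCA.RelFinitePresentation R S N := by
  classical
  refine of_exists fun {k} α hα => ?_
  let P := MvPolynomial (Fin k) R
  let _ : Algebra P S := α.toRingHom.toAlgebra
  let _ : Module P N := Module.compHom N α.toRingHom
  have : IsScalarTower P S N := ⟨fun p a m => by
    show (α p * a) • m = α p • (a • m)
    rw [mul_smul]⟩
  let s : Set P := {p | α p ∈ t ∨ α p = 0}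
  have hs : Ideal.span s = ⊤ := by
    have hker : RingHom.ker α.toRingHom ≤ Ideal.span s := fun p hp => Ideal.subset_span (Or.inr hp)
    have hmap : Ideal.map α.toRingHom (Ideal.span s) = ⊤ := by
      rw [Ideal.map_span, eq_top_iff, ← ht]
      apply Ideal.span_mono
      intro g hg
      obtain ⟨p, rfl⟩ := hα g
      exact ⟨p, Or.inl hg, rfl⟩
    have h3 := Ideal.comap_map_of_surjective α.toRingHom hα (Ideal.span s)
    rw [hmap, Ideal.comap_top] at h3
    rw [h3]
    exact (sup_eq_left.mpr hker).symm
  refine Module.FinitePresentation.of_localizationSpan' s hs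
    (Rₚ := fun g => Localization.Away g.1) (Mₚ := fun g => LocalizedModule (Submonoid.powers g.1) N)
    (fun g => LocalizedModule.mkLinearMap (Submonoid.powers g.1) N) ?_
  rintro ⟨p, hp⟩
  by_cases hp0 : α p = 0
  · have : Subsingleton (LocalizedModule (Submonoid.powers p) N) := by
      refine LocalizedModule.subsingleton_iff.mpr fun m => ⟨p, ⟨1, pow_one p⟩, ?_⟩
      show α p • m = 0
      rw [hp0, zero_smul]
    infer_instance
  · have hpt : α p ∈ t := hp.resolve_right hp0
    let g : t := ⟨α p, hpt⟩
    let Pp := Localization.Away p
    have : IsLocalization.Away (α p) (S' g) := inferInstanceAs (IsLocalization.Away g.1 (S' g))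
    let ψ : Pp →ₐ[R] S' g := IsLocalization.Away.mapₐ Pp (S' g) α p
    have hψ : Function.Surjective ψ := IsLocalization.Away.mapₐ_surjective_of_surjective p hα
    have hψmap : ∀ q : P, ψ (algebraMap P Pp q) = algebraMap S (S' g) (α q) := fun q => by
      show (IsLocalization.Away.map Pp (S' g) α.toRingHom p) (algebraMap P Pp q) = _
      exact IsLocalization.map_eq _ q
    have : Algebra.FinitePresentation P Pp := IsLocalization.Away.finitePresentation p
    have : Algebra.FinitePresentation R Pp := Algebra.FinitePresentation.trans R P Pp
    obtain ⟨m, γ, hγ, hfp⟩ := h g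
    have h1 : @Module.FinitePresentation Pp (N' g) _ _ (Module.compHom (N' g) ψ.toRingHom) :=
      (fp_indep_gen (N' g) ψ hψ γ hγ).mpr hfp
    let _ : Module Pp (N' g) := Module.compHom (N' g) ψ.toRingHom
    let _ : Module P (N' g) := Module.compHom (N' g) α.toRingHom
    have : IsScalarTower P S (N' g) := ⟨fun q a x => by
      show (α q * a) • x = α q • (a • x)
      rw [mul_smul]⟩
    have : IsScalarTower P Pp (N' g) := IsScalarTower.of_algebraMap_smul fun q x => by
      show ψ (algebraMap P Pp q) • x = α q • x
      rw [hψmap, algebraMap_smul]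
    have hloc0 : IsLocalizedModule (Submonoid.powers (algebraMap P S p)) (l g) :=
      inferInstanceAs (IsLocalizedModule (Submonoid.powers g.1) (l g))
    have hloc : IsLocalizedModule (Submonoid.powers p) ((l g).restrictScalars P) :=
      IsLocalizedModule.restrictScalars_powers p (l g)
    let e : LocalizedModule (Submonoid.powers p) N ≃ₗ[P] N' g :=
      IsLocalizedModule.iso (Submonoid.powers p) ((l g).restrictScalars P)
    let e' : LocalizedModule (Submonoid.powers p) N ≃ₗ[Pp] N' g :=
      e.extendScalarsOfIsLocalization (Submonoid.powers p) Pp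
    exact Module.FinitePresentation.of_equiv e'.symm

end Groth.Agent.Lib.Helper61.RelFPRing
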