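import Groth.Prelude.Def_Flatn
import Groth.Agent.Lib.Helper61.RelFPRing
import Groth.Agent.Lib.Helper61.QCohSections
import Mathlib.AlgebraicGeometry.Morphisms.FiniteType

/-!
# Relative finite presentation of quasi-coherent modules: affine-local calculus (helper61)
-/

set_option autoImplicit false
universe u

namespace Groth.Agent.Lib.Helper61.RelFPScheme

open AlgebraicGeometry CategoryTheory Opposite TopologicalSpace
open Groth.Agent.Lib.Helper61.QCohSections Groth.Agent.Lib.Helper61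

variable {X S : Scheme.{u}} (f : X ⟶ S) (F : X.Modules)

/-- `Flatn.RelFPOn` for arbitrary opens (affineness not bundled). -/
def RelFPOn' (U : X.Opens) (V : S.Opens) (h : U ≤ f ⁻¹ᵁ V) : Prop :=
  letI := (f.appLE V U h).hom.toAlgebra
  FlatCA.RelFinitePresentation Γ(S, V) Γ(X, U) (F.val.obj (op U))

theorem relFPOn_iff (U : X.affineOpens) (V : S.affineOpens) (h : (U : X.Opens) ≤ f ⁻¹ᵁ (V : S.Opens)) :
    Flatn.RelFPOn f F U V h ↔ RelFPOn' f F U V h := Iff.rfl

/-- Shrinking the source to a basic open. -/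
theorem relFPOn'_res_source [F.IsQuasicoherent] {U U' : X.Opens} {V : S.Opens} (hU : IsAffineOpen U)
    (g : Γ(X, U)) (hle : U' ≤ U) (e : U' = X.basicOpen g) (h : U ≤ f ⁻¹ᵁ V)
    (H : RelFPOn' f F U V h) : RelFPOn' f F U' V (hle.trans h) := by
  unfold RelFPOn' at H ⊢
  letI := (f.appLE V U h).hom.toAlgebra
  letI := (f.appLE V U' (hle.trans h)).hom.toAlgebra
  letI := resAlgebra (X := X) hle
  letI := resModule F hle
  haveI : IsScalarTower Γ(S, V) Γ(X, U) Γ(X, U') := IsScalarTower.of_algebraMap_eq' (by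
    show (f.appLE V U' (hle.trans h)).hom = (X.presheaf.map (homOfLE hle).op).hom.comp (f.appLE V U h).hom
    rw [← CommRingCat.hom_comp, Scheme.Hom.appLE_map])
  haveI : IsLocalization.Away g Γ(X, U') := hU.isLocalization_of_eq_basicOpen g (homOfLE hle) e
  haveI : IsScalarTower Γ(X, U) Γ(X, U') Γ(F, U') := isScalarTower_res F hle
  haveI : IsLocalizedModule (Submonoid.powers g) (resLinear F hle) := isLocalizedModule_res F hU g hle e
  exact RelFPRing.localization_away (R := Γ(S, V)) (S := Γ(X, U)) (S' := Γ(X, U')) g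
    (N := Γ(F, U)) (N' := Γ(F, U')) (resLinear F hle) H

/-- Shrinking the base to a basic open containing the image. -/
theorem relFPOn'_res_base {U : X.Opens} {V V' : S.Opens} (hV : IsAffineOpen V)
    (a : Γ(S, V)) (hle : V' ≤ V) (e : V' = S.basicOpen a) (h : U ≤ f ⁻¹ᵁ V')
    (H : RelFPOn' f F U V (h.trans (f.preimage_mono hle))) : RelFPOn' f F U V' h := by
  unfold RelFPOn' at H ⊢
  letI := (f.appLE V U (h.trans (f.preimage_mono hle))).hom.toAlgebra
  letI := (f.appLE V' U h).hom.toAlgebra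
  letI : Algebra Γ(S, V) Γ(S, V') := (S.presheaf.map (homOfLE hle).op).hom.toAlgebra
  haveI : IsScalarTower Γ(S, V) Γ(S, V') Γ(X, U) := IsScalarTower.of_algebraMap_eq' (by
    show (f.appLE V U _).hom = (f.appLE V' U h).hom.comp (S.presheaf.map (homOfLE hle).op).hom
    rw [← CommRingCat.hom_comp, Scheme.Hom.map_appLE])
  haveI : IsLocalization.Away a Γ(S, V') := hV.isLocalization_of_eq_basicOpen a (homOfLE hle) e
  exact RelFPRing.of_localization_base (R := Γ(S, V)) (R' := Γ(S, V')) (S := Γ(X, U)) a H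

/-- Enlarging the base from a basic open. -/
theorem relFPOn'_of_res_base {U : X.Opens} {V V' : S.Opens} (hV : IsAffineOpen V)
    (a : Γ(S, V)) (hle : V' ≤ V) (e : V' = S.basicOpen a) (h : U ≤ f ⁻¹ᵁ V')
    (H : RelFPOn' f F U V' h) : RelFPOn' f F U V (h.trans (f.preimage_mono hle)) := by
  unfold RelFPOn' at H ⊢
  letI := (f.appLE V U (h.trans (f.preimage_mono hle))).hom.toAlgebra
  letI := (f.appLE V' U h).hom.toAlgebra
  letI : Algebra Γ(S, V) Γ(S, V') := (S.presheaf.map (homOfLE hle).op).hom.toAlgebra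
  haveI : IsScalarTower Γ(S, V) Γ(S, V') Γ(X, U) := IsScalarTower.of_algebraMap_eq' (by
    show (f.appLE V U _).hom = (f.appLE V' U h).hom.comp (S.presheaf.map (homOfLE hle).op).hom
    rw [← CommRingCat.hom_comp, Scheme.Hom.map_appLE])
  haveI : IsLocalization.Away a Γ(S, V') := hV.isLocalization_of_eq_basicOpen a (homOfLE hle) e
  exact RelFPRing.of_localization_base' (R := Γ(S, V)) (R' := Γ(S, V')) (S := Γ(X, U)) a H

/-- Local-to-global on the source: it suffices to check on basic opens covering `U`. -/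
theorem relFPOn'_of_span [LocallyOfFiniteType f] [F.IsQuasicoherent] {U : X.Opens} {V : S.Opens}
    (hU : IsAffineOpen U) (hV : IsAffineOpen V) (h : U ≤ f ⁻¹ᵁ V)
    (t : Set Γ(X, U)) (ht : Ideal.span t = ⊤)
    (H : ∀ g : t, RelFPOn' f F (X.basicOpen g.1) V ((X.basicOpen_le g.1).trans h)) :
    RelFPOn' f F U V h := by
  unfold RelFPOn' at H ⊢
  letI := (f.appLE V U h).hom.toAlgebra
  haveI : Algebra.FiniteType Γ(S, V) Γ(X, U) :=
    (LocallyOfFiniteType.finiteType_appLE (f := f) hV hU h)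
  letI : ∀ g : t, Algebra Γ(X, U) Γ(X, X.basicOpen g.1) := fun g => resAlgebra (X := X) (X.basicOpen_le g.1)
  letI : ∀ g : t, Algebra Γ(S, V) Γ(X, X.basicOpen g.1) := fun g =>
    (f.appLE V (X.basicOpen g.1) ((X.basicOpen_le g.1).trans h)).hom.toAlgebra
  letI : ∀ g : t, Module Γ(X, U) Γ(F, X.basicOpen g.1) := fun g => resModule F (X.basicOpen_le g.1)
  haveI : ∀ g : t, IsScalarTower Γ(S, V) Γ(X, U) Γ(X, X.basicOpen g.1) := fun g =>
    IsScalarTower.of_algebraMap_eq' (by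
      show (f.appLE V (X.basicOpen g.1) _).hom =
        (X.presheaf.map (homOfLE (X.basicOpen_le g.1)).op).hom.comp (f.appLE V U h).hom
      rw [← CommRingCat.hom_comp, Scheme.Hom.appLE_map])
  haveI : ∀ g : t, IsLocalization.Away g.1 Γ(X, X.basicOpen g.1) := fun g =>
    hU.isLocalization_basicOpen g.1
  haveI : ∀ g : t, IsScalarTower Γ(X, U) Γ(X, X.basicOpen g.1) Γ(F, X.basicOpen g.1) := fun g =>
    isScalarTower_res F (X.basicOpen_le g.1)
  haveI : ∀ g : t, IsLocalizedModule (Submonoid.powers g.1) (resLinear F (X.basicOpen_le g.1)) :=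
    fun g => isLocalizedModule_res_basicOpen F hU g.1
  exact RelFPRing.of_localization_span (R := Γ(S, V)) (S := Γ(X, U)) (N := Γ(F, U)) t ht
    (fun g => Γ(X, X.basicOpen g.1)) (fun g => Γ(F, X.basicOpen g.1))
    (fun g => resLinear F (X.basicOpen_le g.1)) H

/-- Key local step: given one affine pair `(U₀, V₀)` on which `F` is relatively finitely presented,
and any affine pair `(U, V)`, every point of `U ∩ U₀` lying over `V₀` has a basic open
neighbourhood in `U` on which `F` is finitely presented relative to `V`. -/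
theorem exists_basicOpen_relFPOn' [F.IsQuasicoherent] {U U₀ : X.Opens} {V V₀ : S.Opens}
    (hU : IsAffineOpen U) (hU₀ : IsAffineOpen U₀) (hV : IsAffineOpen V) (hV₀ : IsAffineOpen V₀)
    (h : U ≤ f ⁻¹ᵁ V) (h₀ : U₀ ≤ f ⁻¹ᵁ V₀) (H : RelFPOn' f F U₀ V₀ h₀)
    (u : X) (hu : u ∈ U) (hu₀ : u ∈ U₀) :
    ∃ g : Γ(X, U), u ∈ X.basicOpen g ∧
      RelFPOn' f F (X.basicOpen g) V ((X.basicOpen_le g).trans h) := by
  have hfu : f u ∈ V := h hu
  have hfu₀ : f u ∈ V₀ := h₀ hu₀
  obtain ⟨a, b, hab, hfa⟩ := exists_basicOpen_le_affine_inter hV hV₀ (f u) ⟨hfu, hfu₀⟩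
  -- the two basic opens in the source
  have hU₁ : IsAffineOpen (X.basicOpen (f.appLE V U h a)) := hU.basicOpen _
  have hU₂ : IsAffineOpen (X.basicOpen (f.appLE V₀ U₀ h₀ b)) := hU₀.basicOpen _
  have hu₁ : u ∈ X.basicOpen (f.appLE V U h a) := by
    rw [Scheme.basicOpen_appLE]
    exact ⟨hu, hfa⟩
  have hu₂ : u ∈ X.basicOpen (f.appLE V₀ U₀ h₀ b) := by
    rw [Scheme.basicOpen_appLE]
    exact ⟨hu₀, hab ▸ hfa⟩
  obtain ⟨c, d, hcd, huc⟩ := exists_basicOpen_le_affine_inter hU₁ hU₂ u ⟨hu₁, hu₂⟩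
  obtain ⟨g, hg⟩ := hU.basicOpen_basicOpen_is_basicOpen (f.appLE V U h a) c
  obtain ⟨g₀, hg₀⟩ := hU₀.basicOpen_basicOpen_is_basicOpen (f.appLE V₀ U₀ h₀ b) d
  refine ⟨g, hg ▸ huc, ?_⟩
  -- inclusions
  have hle₀ : X.basicOpen g ≤ U₀ := by
    rw [hg, hcd]; exact (X.basicOpen_le d).trans (X.basicOpen_le _)
  have e₀ : X.basicOpen g = X.basicOpen g₀ := by rw [hg, hcd, hg₀]
  have hleV' : X.basicOpen g ≤ f ⁻¹ᵁ (S.basicOpen a) := by
    rw [hg]
    refine (X.basicOpen_le c).trans ?_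
    rw [Scheme.basicOpen_appLE]
    exact inf_le_right
  -- step 1: shrink the source inside `U₀`
  have H1 : RelFPOn' f F (X.basicOpen g) V₀ (hle₀.trans h₀) :=
    relFPOn'_res_source f F hU₀ g₀ hle₀ e₀ h₀ H
  -- step 2: shrink the base to `S.basicOpen a = S.basicOpen b`
  have H2 : RelFPOn' f F (X.basicOpen g) (S.basicOpen a) hleV' :=
    relFPOn'_res_base f F hV₀ b (hab ▸ S.basicOpen_le b) hab hleV' H1
  -- step 3: enlarge the base to `V`
  exact relFPOn'_of_res_base f F hV a (S.basicOpen_le a) rfl hleV' H2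

/-- **Relative finite presentation can be tested on all pairs of affine opens.** -/
theorem relFPOn'_of_isRelFP [LocallyOfFiniteType f] [F.IsQuasicoherent] (hF : Flatn.IsRelFP f F)
    {U : X.Opens} {V : S.Opens} (hU : IsAffineOpen U) (hV : IsAffineOpen V) (h : U ≤ f ⁻¹ᵁ V) :
    RelFPOn' f F U V h := by
  obtain ⟨𝒱, h𝒱, H⟩ := hF
  have key : ∀ u : U, ∃ g : Γ(X, U), u.1 ∈ X.basicOpen g ∧
      RelFPOn' f F (X.basicOpen g) V ((X.basicOpen_le g).trans h) := by
    rintro ⟨u, hu⟩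
    have h1 : f u ∈ (⨆ V ∈ 𝒱, (V : S.Opens)) := by rw [h𝒱]; trivial
    simp only [Opens.mem_iSup] at h1
    obtain ⟨V₀, hV₀mem, hfu₀⟩ := h1
    obtain ⟨𝒰, h𝒰, H'⟩ := H V₀ hV₀mem
    have h2 : u ∈ (⨆ U ∈ 𝒰, (U : X.Opens)) := by rw [h𝒰]; exact hfu₀
    simp only [Opens.mem_iSup] at h2
    obtain ⟨U₀, hU₀mem, hu₀⟩ := h2
    have hle₀ : (U₀ : X.Opens) ≤ f ⁻¹ᵁ (V₀ : S.Opens) := by
      rw [← h𝒰]
      exact le_iSup₂_of_le U₀ hU₀mem le_rfl
    exact exists_basicOpen_relFPOn' f F hU U₀.2 hV V₀.2 h hle₀ (H' U₀ hU₀mem hle₀) u hu hu₀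
  choose g hg₁ hg₂ using key
  refine relFPOn'_of_span f F hU hV h (Set.range g) ?_ ?_
  · rw [← hU.self_le_iSup_basicOpen_iff]
    intro u hu
    simp only [Opens.mem_iSup]
    exact ⟨⟨g ⟨u, hu⟩, ⟨u, hu⟩, rfl⟩, hg₁ ⟨u, hu⟩⟩
  · rintro ⟨_, u, rfl⟩
    exact hg₂ u

/-- The converse: the affine-pair condition gives relative finite presentation. -/
theorem isRelFP_of_forall (H : ∀ (U : X.affineOpens) (V : S.affineOpens)
    (h : (U : X.Opens) ≤ f ⁻¹ᵁ (V : S.Opens)), Flatn.RelFPOn f F U V h) : Flatn.IsRelFP f F := by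
  refine ⟨Set.univ, ?_, fun V _ => ⟨{U | (U : X.Opens) ≤ f ⁻¹ᵁ (V : S.Opens)}, ?_, fun U _ h => H U V h⟩⟩
  · rw [eq_top_iff]
    intro s _
    obtain ⟨W, hW, hsW, -⟩ := Opens.isBasis_iff_nbhd.mp S.isBasis_affineOpens (show s ∈ (⊤ : S.Opens) from trivial)
    simp only [Opens.mem_iSup]
    exact ⟨⟨W, hW⟩, Set.mem_univ _, hsW⟩
  · apply le_antisymm
    · exact iSup₂_le fun U hU => hU
    · intro x hx
      obtain ⟨W, hW, hxW, hWle⟩ := Opens.isBasis_iff_nbhd.mp X.isBasis_affineOpens hx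
      simp only [Opens.mem_iSup]
      exact ⟨⟨W, hW⟩, hWle, hxW⟩

end Groth.Agent.Lib.Helper61.RelFPScheme
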