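import Mathlib
import Groth.Agent.Lib.Helper49.EtaleNormal

/-!
# Schemes smooth over a field are normal (helper61)
-/

set_option autoImplicit false
universe u

open AlgebraicGeometry CategoryTheory Limits

namespace Groth.Agent.Lib.Helper61.SmoothFieldNormal

/-- Localizations of a field at a prime are normal domains. -/
theorem normal_localization_of_isField (A : Type u) [CommRing A] (hA : IsField A)
    (p : Ideal A) [p.IsPrime] :
    IsDomain (Localization.AtPrime p) ∧ IsIntegrallyClosed (Localization.AtPrime p) := by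
  letI := hA.toField
  have hunits : ∀ x ∈ p.primeCompl, IsUnit x := by
    intro x hx
    refine isUnit_iff_ne_zero.mpr ?_
    rintro rfl
    exact hx p.zero_mem
  let e : A ≃ₐ[A] Localization.AtPrime p := IsLocalization.atUnits A p.primeCompl hunits
  exact ⟨e.toRingEquiv.symm.toMulEquiv.isDomain _, IsIntegrallyClosed.of_equiv e.toRingEquiv⟩

/-- The stalks of a scheme smooth over a field are integrally closed domains. -/
theorem normal_stalk_of_smooth_field {k : Type u} [Field k] {Y : Scheme.{u}}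
    (q : Y ⟶ Spec (CommRingCat.of k)) [Smooth q] (y : Y) :
    IsDomain (Y.presheaf.stalk y) ∧ IsIntegrallyClosed (Y.presheaf.stalk y) := by
  let V : (Spec (CommRingCat.of k)).Opens := ⊤
  have hV : IsAffineOpen V := isAffineOpen_top _
  obtain ⟨U, hU, hyU, hUV⟩ := AlgebraicGeometry.exists_isAffineOpen_mem_and_subset (X := Y) (x := y)
    (U := q ⁻¹ᵁ V) trivial
  have hUV' : U ≤ q ⁻¹ᵁ V := hUV
  let eA : Γ(Spec (CommRingCat.of k), V) ≃+* k :=
    (Scheme.ΓSpecIso (CommRingCat.of k)).commRingCatIsoToRingEquiv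
  have hF : IsField Γ(Spec (CommRingCat.of k), V) := eA.toMulEquiv.isField (Field.toIsField k)
  have hN : IsNoetherianRing Γ(Spec (CommRingCat.of k), V) :=
    isNoetherianRing_of_ringEquiv k eA.symm
  have hsm : (q.appLE V U hUV').hom.Smooth :=
    HasRingHomProperty.appLE (P := @Smooth) q inferInstance ⟨V, hV⟩ ⟨U, hU⟩ hUV'
  algebraize [(q.appLE V U hUV').hom]
  obtain ⟨hd, hic⟩ := normal_localization_of_isField _ hF
    ((hU.primeIdealOf ⟨y, hyU⟩).asIdeal.under Γ(Spec (CommRingCat.of k), V))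
  obtain ⟨h1, h2⟩ := Groth.Agent.Lib.Helper49.EtaleNormal.isIntegrallyClosed_localization_of_smooth
    Γ(Spec (CommRingCat.of k), V) Γ(Y, U) (hU.primeIdealOf ⟨y, hyU⟩).asIdeal hd hic
  have eY : Y.presheaf.stalk y ≃+* Localization.AtPrime (hU.primeIdealOf ⟨y, hyU⟩).asIdeal := by
    algebraize [(Y.presheaf.germ U y hyU).hom]
    have := hU.isLocalization_stalk ⟨y, hyU⟩
    exact (IsLocalization.algEquiv (hU.primeIdealOf ⟨y, hyU⟩).asIdeal.primeCompl
      (Y.presheaf.stalk y) (Localization.AtPrime (hU.primeIdealOf ⟨y, hyU⟩).asIdeal)).toRingEquiv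
  exact ⟨eY.toMulEquiv.isDomain _, IsIntegrallyClosed.of_equiv eY.symm⟩

end Groth.Agent.Lib.Helper61.SmoothFieldNormal
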