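import Groth.Prelude.Def_MoreMor
import Mathlib.AlgebraicGeometry.IdealSheaf.Functorial
import Mathlib.AlgebraicGeometry.Morphisms.ClosedImmersion
import Mathlib.AlgebraicGeometry.Morphisms.Affine

/-!
# First order thickenings are stable under base change (helper61)
-/

set_option autoImplicit false
universe u
open AlgebraicGeometry CategoryTheory Limits

namespace Groth.Agent.Lib.Helper61.ThickBC

/-- In a pushout square of commutative rings along a surjection `π`, the kernel of the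
pushed-out map is generated by the image of the kernel of `π`. -/
theorem ker_le_map_of_isPushout {R R' S P : CommRingCat.{u}} {φ : R ⟶ R'} {π : R ⟶ S}
    {π' : R' ⟶ P} {φ' : S ⟶ P} (h : IsPushout φ π π' φ') (hπ : Function.Surjective π.hom) :
    RingHom.ker π'.hom ≤ (RingHom.ker π.hom).map φ.hom := by
  set 𝔟 : Ideal R' := (RingHom.ker π.hom).map φ.hom with h𝔟
  have hle : RingHom.ker π.hom ≤ RingHom.ker ((Ideal.Quotient.mk 𝔟).comp φ.hom) := by
    intro a ha
    rw [RingHom.mem_ker, RingHom.comp_apply, Ideal.Quotient.eq_zero_iff_mem]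
    exact Ideal.mem_map_of_mem _ ha
  let σ : S →+* R' ⧸ 𝔟 := π.hom.liftOfSurjective hπ ⟨(Ideal.Quotient.mk 𝔟).comp φ.hom, hle⟩
  have hσ : σ.comp π.hom = (Ideal.Quotient.mk 𝔟).comp φ.hom :=
    π.hom.liftOfSurjective_comp hπ ⟨(Ideal.Quotient.mk 𝔟).comp φ.hom, hle⟩
  have hcomm : φ ≫ CommRingCat.ofHom (Ideal.Quotient.mk 𝔟) = π ≫ CommRingCat.ofHom σ := by
    ext a
    exact (congrArg (fun F => F a) hσ).symm
  intro x hx
  have h1 : π' ≫ h.desc _ _ hcomm = CommRingCat.ofHom (Ideal.Quotient.mk 𝔟) := h.inl_desc _ _ _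
  have h2 : (h.desc _ _ hcomm).hom (π'.hom x) = Ideal.Quotient.mk 𝔟 x :=
    congrArg (fun F => F.hom x) h1
  rw [RingHom.mem_ker.mp hx, map_zero] at h2
  exact Ideal.Quotient.eq_zero_iff_mem.mp h2.symm

/-- Square-zero kernels are preserved by pushout along surjections. -/
theorem mul_eq_zero_of_isPushout {R R' S P : CommRingCat.{u}} {φ : R ⟶ R'} {π : R ⟶ S}
    {π' : R' ⟶ P} {φ' : S ⟶ P} (h : IsPushout φ π π' φ') (hπ : Function.Surjective π.hom)
    (hsq : ∀ a b : R, π.hom a = 0 → π.hom b = 0 → a * b = 0)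
    (x y : R') (hx : π'.hom x = 0) (hy : π'.hom y = 0) : x * y = 0 := by
  have hx' := ker_le_map_of_isPushout h hπ (RingHom.mem_ker.mpr hx)
  have hy' := ker_le_map_of_isPushout h hπ (RingHom.mem_ker.mpr hy)
  have h1 : x * y ∈ (RingHom.ker π.hom).map φ.hom * (RingHom.ker π.hom).map φ.hom :=
    Ideal.mul_mem_mul hx' hy'
  rw [← Ideal.map_mul] at h1
  have h2 : RingHom.ker π.hom * RingHom.ker π.hom = ⊥ := by
    rw [eq_bot_iff, Ideal.mul_le]
    intro a ha b hb
    exact hsq a b (RingHom.mem_ker.mp ha) (RingHom.mem_ker.mp hb)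
  rw [h2, Ideal.map_bot] at h1
  exact h1

/-- Sections killed by a closed immersion with square-zero ideal multiply to zero (over any
open).  (Same as `Groth.Agent.S1434.sq_zero`.) -/
lemma sq_zero {T T' : Scheme.{u}} (t : T ⟶ T') [QuasiCompact t] (ht : t.ker * t.ker = ⊥)
    (W : T'.Opens) (x y : Γ(T', W)) (hx : (t.app W).hom x = 0) (hy : (t.app W).hom y = 0) :
    x * y = 0 := by
  refine TopCat.Presheaf.section_ext T'.sheaf W (x * y) 0 fun p hp => ?_
  obtain ⟨_, ⟨V, hV, rfl⟩, hpV, hVW⟩ :=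
    T'.isBasis_affineOpens.exists_subset_of_mem_open hp W.isOpen
  have hVW' : V ≤ W := hVW
  have hres : ∀ z : Γ(T', W), (t.app W).hom z = 0 →
      (T'.presheaf.map (homOfLE hVW').op).hom z ∈ t.ker.ideal ⟨V, hV⟩ := by
    intro z hz
    rw [Scheme.Hom.ker_apply, RingHom.mem_ker]
    have := congr($(t.naturality (homOfLE hVW').op).hom z)
    simp only [CommRingCat.hom_comp, RingHom.comp_apply] at this
    erw [this, hz, map_zero]
  have h1 : (T'.presheaf.map (homOfLE hVW').op).hom (x * y) ∈ (t.ker * t.ker).ideal ⟨V, hV⟩ := by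
    rw [map_mul, Scheme.IdealSheafData.ideal_mul]
    exact Ideal.mul_mem_mul (hres x hx) (hres y hy)
  rw [ht, Scheme.IdealSheafData.ideal_bot] at h1
  have h2 : (T'.presheaf.map (homOfLE hVW').op).hom (x * y) = 0 := h1
  have h3 := TopCat.Presheaf.germ_res_apply T'.presheaf (homOfLE hVW') p hpV (x * y)
  erw [h2] at h3
  rw [map_zero] at h3
  rw [map_zero]
  exact h3.symm

/-- The kernel of the restriction of a morphism to an open and its preimage, in terms of
sections over the open. -/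
lemma resLE_appTop_eq_zero_iff {X Y : Scheme.{u}} (f : X ⟶ Y) (U : Y.Opens) (x : Γ(Y, U)) :
    ((f.resLE U (f ⁻¹ᵁ U) le_rfl).appTop).hom (U.topIso.inv.hom x) = 0 ↔ (f.app U).hom x = 0 := by
  have h := (arrowResLEAppIso f U (f ⁻¹ᵁ U) le_rfl).hom.w
  simp only [Arrow.mk_hom, Functor.id_obj, Functor.id_map] at h
  have h' : ((f.resLE U (f ⁻¹ᵁ U) le_rfl).appTop) ≫ (f ⁻¹ᵁ U).topIso.hom =
      U.topIso.hom ≫ f.app U := by
    rw [← Scheme.Hom.appLE_eq_app]
    exact h.symm
  have h2 := congrArg (fun F => F.hom (U.topIso.inv.hom x)) h'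
  simp only [CommRingCat.hom_comp, RingHom.comp_apply] at h2
  have h3 : U.topIso.hom.hom (U.topIso.inv.hom x) = x := by
    rw [← RingHom.comp_apply, ← CommRingCat.hom_comp, Iso.inv_hom_id]
    rfl
  rw [h3] at h2
  rw [← h2]
  constructor
  · intro h0
    rw [h0, map_zero]
  · intro h0
    have hinj : Function.Injective (f ⁻¹ᵁ U).topIso.hom.hom :=
      (ConcreteCategory.bijective_of_isIso (f ⁻¹ᵁ U).topIso.hom).1
    exact hinj (by rw [h0, map_zero])

/-- Square-zero ideals of closed immersions are stable under base change. -/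
theorem ker_mul_ker_eq_bot_of_isPullback {Z' X Z Y : Scheme.{u}} {i' : Z' ⟶ X} {g : Z' ⟶ Z}
    {f : X ⟶ Y} {i : Z ⟶ Y} (hc : IsPullback i' g f i) [IsClosedImmersion i]
    (hsq : i.ker * i.ker = ⊥) : i'.ker * i'.ker = ⊥ := by
  haveI : IsClosedImmersion i' := MorphismProperty.of_isPullback hc.flip inferInstance
  -- local statement
  have key : ∀ (U : X.affineOpens) (V : Y.affineOpens), U.1 ≤ f ⁻¹ᵁ V.1 →
      ∀ x y : Γ(X, U.1), (i'.app U.1).hom x = 0 → (i'.app U.1).hom y = 0 → x * y = 0 := by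
    intro U V hUV x y hx hy
    have hW : IsAffineOpen (i ⁻¹ᵁ V.1) := V.2.preimage i
    have hUY : i' ⁻¹ᵁ U.1 = i' ⁻¹ᵁ U.1 ⊓ g ⁻¹ᵁ (i ⁻¹ᵁ V.1) := by
      refine (inf_eq_left.mpr ?_).symm
      rw [← Scheme.Hom.comp_preimage, ← hc.w, Scheme.Hom.comp_preimage]
      exact i'.preimage_mono hUV
    have hp := Scheme.Hom.isPullback_resLE hc (US := V.1) (UT := i ⁻¹ᵁ V.1) (UX := U.1)
      le_rfl hUV hUY
    haveI : IsAffine (U.1 : Scheme) := U.2
    haveI : IsAffine (V.1 : Scheme) := V.2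
    haveI : IsAffine ((i ⁻¹ᵁ V.1 : Z.Opens) : Scheme) := hW
    have hpo := isPushout_appTop_of_isPullback hp
    have hsurj : Function.Surjective ((i.resLE V.1 (i ⁻¹ᵁ V.1) le_rfl).appTop).hom := by
      haveI : IsClosedImmersion (i.resLE V.1 (i ⁻¹ᵁ V.1) le_rfl) := by
        rw [Scheme.Hom.resLE_eq_morphismRestrict]; infer_instance
      exact (IsClosedImmersion.isAffine_surjective_of_isAffine
        (f := i.resLE V.1 (i ⁻¹ᵁ V.1) le_rfl)).2
    have hsq' : ∀ a b : Γ((V.1 : Scheme), ⊤),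
        ((i.resLE V.1 (i ⁻¹ᵁ V.1) le_rfl).appTop).hom a = 0 →
        ((i.resLE V.1 (i ⁻¹ᵁ V.1) le_rfl).appTop).hom b = 0 → a * b = 0 := by
      intro a b ha hb
      have ha' : V.1.topIso.inv.hom (V.1.topIso.hom.hom a) = a := by
        rw [← RingHom.comp_apply, ← CommRingCat.hom_comp, Iso.hom_inv_id]; rfl
      have hb' : V.1.topIso.inv.hom (V.1.topIso.hom.hom b) = b := by
        rw [← RingHom.comp_apply, ← CommRingCat.hom_comp, Iso.hom_inv_id]; rfl
      rw [← ha'] at ha
      rw [← hb'] at hb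
      rw [resLE_appTop_eq_zero_iff] at ha hb
      have h0 := sq_zero i hsq V.1 _ _ ha hb
      rw [← map_mul] at h0
      have hinj : Function.Injective V.1.topIso.hom.hom :=
        (ConcreteCategory.bijective_of_isIso V.1.topIso.hom).1
      exact hinj (by rw [h0, map_zero])
    have hx' := (resLE_appTop_eq_zero_iff i' U.1 x).mpr hx
    have hy' := (resLE_appTop_eq_zero_iff i' U.1 y).mpr hy
    have h0 := mul_eq_zero_of_isPushout hpo hsurj hsq' _ _ hx' hy'
    rw [← map_mul] at h0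
    have hinj : Function.Injective U.1.topIso.inv.hom :=
      (ConcreteCategory.bijective_of_isIso U.1.topIso.inv).1
    exact hinj (by rw [h0, map_zero])
  refine le_antisymm ?_ bot_le
  refine Scheme.IdealSheafData.le_of_iSup_eq_top
    (ι := {p : X.affineOpens × Y.affineOpens // p.1.1 ≤ f ⁻¹ᵁ p.2.1}) (fun p => p.1.1) ?_ ?_
  · rw [eq_top_iff]
    intro x _
    obtain ⟨_, ⟨V, hV, rfl⟩, hxV, -⟩ :=
      Y.isBasis_affineOpens.exists_subset_of_mem_open (Set.mem_univ (f x)) isOpen_univ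
    obtain ⟨_, ⟨U, hU, rfl⟩, hxU, hUV⟩ :=
      X.isBasis_affineOpens.exists_subset_of_mem_open (show x ∈ (f ⁻¹ᵁ V : X.Opens) from hxV)
        (f ⁻¹ᵁ V).isOpen
    exact TopologicalSpace.Opens.mem_iSup.mpr ⟨⟨⟨⟨U, hU⟩, ⟨V, hV⟩⟩, hUV⟩, hxU⟩
  · rintro ⟨⟨U, V⟩, hUV⟩
    rw [Scheme.IdealSheafData.ideal_mul, Scheme.IdealSheafData.ideal_bot]
    simp only [Pi.mul_apply, Pi.bot_apply]
    rw [Ideal.mul_le]
    intro x hx y hy
    rw [Scheme.Hom.ker_apply, RingHom.mem_ker] at hx hy
    exact key U V hUV x y hx hy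

/-- First order thickenings are stable under base change. -/
theorem isFirstOrderThickening_of_isPullback {Z' X Z Y : Scheme.{u}} {i' : Z' ⟶ X} {g : Z' ⟶ Z}
    {f : X ⟶ Y} {i : Z ⟶ Y} (hc : IsPullback i' g f i) (hi : MoreMor.IsFirstOrderThickening i) :
    MoreMor.IsFirstOrderThickening i' := by
  obtain ⟨⟨hci, hsurj⟩, hsq⟩ := hi
  haveI := hci
  haveI := hsurj
  exact ⟨⟨MorphismProperty.of_isPullback hc.flip inferInstance,
    MorphismProperty.of_isPullback hc.flip inferInstance⟩,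
    ker_mul_ker_eq_bot_of_isPullback hc hsq⟩

/-- `Spec (R ⧸ I) ⟶ Spec R` is a first order thickening when `I ^ 2 = ⊥`. -/
theorem isFirstOrderThickening_SpecMap_mk {R : Type u} [CommRing R] (I : Ideal R) (hI : I ^ 2 = ⊥) :
    MoreMor.IsFirstOrderThickening
      (Spec.map (CommRingCat.ofHom (Ideal.Quotient.mk I))) := by
  have hLL : ∀ x ∈ I, ∀ y ∈ I, x * y = 0 := by
    intro x hx y hy
    have : x * y ∈ I ^ 2 := by rw [sq]; exact Ideal.mul_mem_mul hx hy
    rw [hI] at this
    exact this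
  have hsurjP : ∀ p : PrimeSpectrum R, ∃ q : PrimeSpectrum (R ⧸ I),
      PrimeSpectrum.comap (Ideal.Quotient.mk I) q = p := by
    intro p
    have hIp : I ≤ p.asIdeal := by
      intro x hx
      have h0 : x * x ∈ p.asIdeal := by rw [hLL x hx x hx]; exact Ideal.zero_mem _
      exact (p.isPrime.mem_or_mem h0).elim id id
    have hp' : (p.asIdeal.map (Ideal.Quotient.mk I)).IsPrime :=
      Ideal.map_isPrime_of_surjective Ideal.Quotient.mk_surjective (by rwa [Ideal.mk_ker])
    refine ⟨⟨p.asIdeal.map (Ideal.Quotient.mk I), hp'⟩, ?_⟩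
    apply PrimeSpectrum.ext
    show (p.asIdeal.map (Ideal.Quotient.mk I)).comap (Ideal.Quotient.mk I) = p.asIdeal
    rw [Ideal.comap_map_of_surjective _ Ideal.Quotient.mk_surjective, ← RingHom.ker_eq_comap_bot,
      Ideal.mk_ker, sup_eq_left]
    exact hIp
  refine ⟨⟨IsClosedImmersion.spec_of_surjective (CommRingCat.ofHom (Ideal.Quotient.mk I))
    Ideal.Quotient.mk_surjective, ⟨fun p => hsurjP p⟩⟩, ?_⟩
  · refine le_antisymm ?_ bot_le
    apply Scheme.IdealSheafData.le_of_isAffine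
    rw [Scheme.IdealSheafData.ideal_mul, Scheme.IdealSheafData.ideal_bot]
    simp only [Pi.mul_apply, Pi.bot_apply]
    rw [Ideal.mul_le]
    intro x hx y hy
    rw [Scheme.Hom.ker_apply, RingHom.mem_ker] at hx hy
    rw [Ideal.mem_bot]
    -- transport along `ΓSpecIso`
    have key : ∀ z : Γ(Spec (CommRingCat.of R), ⊤),
        ((Spec.map (CommRingCat.ofHom (Ideal.Quotient.mk I))).app ⊤).hom z = 0 →
        (Scheme.ΓSpecIso (CommRingCat.of R)).hom.hom z ∈ I := by
      intro z hz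
      have hnat := Scheme.ΓSpecIso_naturality (CommRingCat.ofHom (Ideal.Quotient.mk I))
      have h1 := congrArg (fun F => F.hom z) hnat
      simp only [CommRingCat.hom_comp, RingHom.comp_apply] at h1
      rw [← Ideal.Quotient.eq_zero_iff_mem]
      change (Ideal.Quotient.mk I) ((Scheme.ΓSpecIso (CommRingCat.of R)).hom.hom z) = 0
      erw [← h1]
      erw [hz]
      exact map_zero _
    have h0 := hLL _ (key x hx) _ (key y hy)
    rw [← map_mul] at h0
    have hinj : Function.Injective (Scheme.ΓSpecIso (CommRingCat.of R)).hom.hom :=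
      (ConcreteCategory.bijective_of_isIso (Scheme.ΓSpecIso (CommRingCat.of R)).hom).1
    exact hinj (by rw [h0, map_zero])

end Groth.Agent.Lib.Helper61.ThickBC
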