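import Mathlib
import Groth.Agent.Lib.Helper61.BiratGeneric

/-!
# Universal injectivity from generic points (flat separated morphisms) (helper61)
-/

universe u

open CategoryTheory CategoryTheory.Limits TopologicalSpace Topology AlgebraicGeometry

namespace Groth.Agent.Lib.Helper61.UnivInjGeneric

open Groth.Agent.Lib.Helper61.BiratGeneric AlgebraicGeometry.Scheme.Pullback

variable {X Y S : Scheme.{u}}

/-- If the residue field extension at `x` is trivial, `κ(x) ⊗_{κ(s)} κ(y)` has a single prime. -/
lemma subsingleton_Spec_tensor {f : X ⟶ S} {g : Y ⟶ S} (T : Triplet f g)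
    (hsurj : Function.Surjective (f.residueFieldMap T.x).hom) :
    Subsingleton ↥(Spec T.tensor) := by
  haveI h1 : IsIso (f.residueFieldMap T.x) :=
    (ConcreteCategory.isIso_iff_bijective _).mpr ⟨(f.residueFieldMap T.x).hom.injective, hsurj⟩
  haveI h2 : IsIso ((S.residueFieldCongr T.hx).inv ≫ f.residueFieldMap T.x) := inferInstance
  haveI h3 : IsIso (Spec.map ((S.residueFieldCongr T.hx).inv ≫ f.residueFieldMap T.x)) :=
    inferInstance
  haveI h4 : IsIso (Spec.map T.tensorInr) := T.isPullback_SpecMap_tensor.isIso_snd_of_isIso
  refine ⟨fun p q => ?_⟩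
  apply (Spec.map T.tensorInr).isOpenEmbedding.injective
  exact Subsingleton.elim (α := PrimeSpectrum (Y.residueField T.y)) _ _

/-- Points of a fibre product are determined by their projections when one residue field
extension is trivial. -/
lemma eq_of_fst_eq_of_snd_eq (f : X ⟶ S) (g : Y ⟶ S) (t₁ t₂ : ↑(pullback f g))
    (h1 : pullback.fst f g t₁ = pullback.fst f g t₂)
    (h2 : pullback.snd f g t₁ = pullback.snd f g t₂)
    (hsurj : Function.Surjective (f.residueFieldMap (pullback.fst f g t₂)).hom) : t₁ = t₂ := by
  apply carrierEquiv.injective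
  rw [carrierEquiv_eq_iff]
  have hT : Triplet.ofPoint t₁ = Triplet.ofPoint t₂ := Triplet.ext h1 h2
  refine ⟨hT, ?_⟩
  have hsub : Subsingleton ↥(Spec (carrierEquiv t₂).fst.tensor) :=
    subsingleton_Spec_tensor (Triplet.ofPoint t₂) hsurj
  exact hsub.elim _ _

/-- Maximal points map to maximal points under generalizing maps. -/
lemma closure_mem_irreducibleComponents_of_generalizingMap (p : X ⟶ Y)
    (hp : GeneralizingMap p) {z : X} (hz : closure {z} ∈ irreducibleComponents ↥X) :
    closure {p z} ∈ irreducibleComponents ↥Y := by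
  obtain ⟨η, hη, hηξ⟩ := exists_generic_specializes (p z)
  obtain ⟨z', hz', hfz'⟩ := hp hηξ
  have h1 : z' = z := eq_of_specializes_of_mem_irreducibleComponents hz hz'
  rw [h1] at hfz'
  rw [hfz']
  exact hη

/-- **Stacks 0CDZ-type**: a flat separated morphism which is injective on maximal points with
trivial residue field extensions there is universally injective. -/
theorem universallyInjective_of_flat_of_generic (f : X ⟶ Y) [Flat f] [IsSeparated f]
    (h2 : ∀ ξ : X, closure ({ξ} : Set X) ∈ irreducibleComponents ↥X →
      Function.Surjective (f.residueFieldMap ξ).hom)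
    (h3 : Set.InjOn f {ξ : X | closure ({ξ} : Set X) ∈ irreducibleComponents ↥X}) :
    UniversallyInjective f := by
  rw [UniversallyInjective.iff_diagonal]
  refine ⟨fun z => ?_⟩
  have hclosed : IsClosed (Set.range (pullback.diagonal f)) :=
    (pullback.diagonal f).isClosedEmbedding.isClosed_range
  obtain ⟨z₀, hz₀, hsp⟩ := exists_generic_specializes z
  refine hclosed.stableUnderSpecialization hsp ?_
  have hm1 : closure {pullback.fst f f z₀} ∈ irreducibleComponents ↥X :=
    closure_mem_irreducibleComponents_of_generalizingMap _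
      (Flat.generalizingMap (pullback.fst f f)) hz₀
  have hm2 : closure {pullback.snd f f z₀} ∈ irreducibleComponents ↥X :=
    closure_mem_irreducibleComponents_of_generalizingMap _
      (Flat.generalizingMap (pullback.snd f f)) hz₀
  have hcond : f (pullback.fst f f z₀) = f (pullback.snd f f z₀) := by
    have := congr($(pullback.condition (f := f) (g := f)) z₀)
    simpa only [Scheme.Hom.comp_apply] using this
  have heq : pullback.fst f f z₀ = pullback.snd f f z₀ := h3 hm1 hm2 hcond
  refine ⟨pullback.fst f f z₀, ?_⟩
  have hd1 : pullback.fst f f (pullback.diagonal f (pullback.fst f f z₀)) =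
      pullback.fst f f z₀ := by
    rw [← Scheme.Hom.comp_apply, pullback.diagonal_fst]
    rfl
  have hd2 : pullback.snd f f (pullback.diagonal f (pullback.fst f f z₀)) =
      pullback.fst f f z₀ := by
    rw [← Scheme.Hom.comp_apply, pullback.diagonal_snd]
    rfl
  exact eq_of_fst_eq_of_snd_eq f f _ _ hd1 (hd2.trans heq) (h2 _ hm1)

end Groth.Agent.Lib.Helper61.UnivInjGeneric
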