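import Groth.Prelude.Def_Omega3
import Groth.Agent.Lib.Helper61.LiftGlue

/-!
# Universal first order thickenings of schemes: general lemmas (helper61)

* `restrict`: restriction of a universal first order thickening to an open of the source.
* `iso_of_two`: two universal first order thickenings are isomorphic.
* `isOpenImmersion_comparison`: the comparison map for an open immersion is an open immersion.
* `isFirstOrderThickening_of_cover`: being a first order thickening is local on the target.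
* `of_cover`: the universal property is local.
-/

set_option autoImplicit false
universe u
open AlgebraicGeometry CategoryTheory Limits

namespace Groth.Agent.Lib.Helper61.UnivThick

variable {X : Scheme.{u}}

/-- A thickening is a homeomorphism, so opens of the source are preimages of opens of the
target. -/
theorem exists_opens_preimage_eq {Z Z' : Scheme.{u}} (i : Z ⟶ Z') (hi : MoreMor.IsThickening i)
    (V : Z.Opens) : ∃ V' : Z'.Opens, i ⁻¹ᵁ V' = V := by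
  haveI := hi.1
  haveI := hi.2
  have hcl : Topology.IsClosedEmbedding i := i.isClosedEmbedding
  have hsurj : Function.Surjective i := i.surjective
  have hopen : IsOpen (i '' (V : Set Z)) := by
    have : i '' (V : Set Z) = (i '' (V : Set Z)ᶜ)ᶜ := by
      rw [Set.image_compl_eq ⟨hcl.injective, hsurj⟩, compl_compl]
    rw [this]
    exact (hcl.isClosedMap _ V.isOpen.isClosed_compl).isOpen_compl
  refine ⟨⟨_, hopen⟩, ?_⟩
  ext x
  simp only [Scheme.Hom.mem_preimage]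
  constructor
  · rintro ⟨y, hy, hxy⟩
    rwa [← hcl.injective hxy]
  · intro hx
    exact ⟨x, hx, rfl⟩

/-- Restriction of a universal first order thickening along an open immersion into the
source. -/
theorem restrict {Z Z' : Scheme.{u}} {h : Z ⟶ X} {i : Z ⟶ Z'} {h' : Z' ⟶ X}
    (H : OmegaSh.IsUnivThickening h i h') {W : Scheme.{u}} (w : W ⟶ Z) [IsOpenImmersion w] :
    ∃ (W' : Scheme.{u}) (iW : W ⟶ W') (w' : W' ⟶ Z'), IsOpenImmersion w' ∧
      IsPullback iW w w' i ∧ OmegaSh.IsUnivThickening (w ≫ h) iW (w' ≫ h') := by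
  obtain ⟨hi, hfac, hUP⟩ := H
  obtain ⟨V', hV'⟩ := exists_opens_preimage_eq i hi.1 w.opensRange
  have hmem : ∀ x : W, i (w x) ∈ V' := by
    intro x
    have : w x ∈ i ⁻¹ᵁ V' := by rw [hV']; exact ⟨x, rfl⟩
    exact this
  have hrange : Set.range (w ≫ i) ⊆ Set.range V'.ι := by
    rw [Scheme.Opens.range_ι]
    rintro _ ⟨x, rfl⟩
    rw [Scheme.Hom.comp_apply]
    exact hmem x
  let iW : W ⟶ V' := IsOpenImmersion.lift V'.ι (w ≫ i) hrange
  have hiW : iW ≫ V'.ι = w ≫ i := IsOpenImmersion.lift_fac _ _ _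
  have hpb : IsPullback iW w V'.ι i :=
    IsOpenImmersion.isPullback iW w V'.ι i hiW.symm (by rw [Scheme.Opens.opensRange_ι]; exact hV')
  refine ⟨V', iW, V'.ι, inferInstance, hpb,
    ThickBC.isFirstOrderThickening_of_isPullback hpb hi, ?_, ?_⟩
  · rw [← Category.assoc, hiW, Category.assoc, hfac]
  · intro T T' j b a hj hw
    haveI : Surjective j := hj.1.2
    obtain ⟨a', ⟨ha1, ha2⟩, hauniq⟩ := hUP T T' j b (a ≫ w) hj (by rw [hw, Category.assoc])
    have hr : Set.range a' ⊆ Set.range V'.ι := by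
      rw [Scheme.Opens.range_ι]
      rintro _ ⟨y, rfl⟩
      obtain ⟨x, rfl⟩ := j.surjective y
      rw [← Scheme.Hom.comp_apply, ha1, Scheme.Hom.comp_apply, Scheme.Hom.comp_apply]
      exact hmem (a x)
    refine ⟨IsOpenImmersion.lift V'.ι a' hr, ⟨?_, ?_⟩, ?_⟩
    · rw [← cancel_mono V'.ι, Category.assoc, IsOpenImmersion.lift_fac, Category.assoc, hiW, ha1,
        Category.assoc]
    · rw [← Category.assoc, IsOpenImmersion.lift_fac, ha2]
    · rintro a₂ ⟨h1, h2⟩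
      rw [← cancel_mono V'.ι, IsOpenImmersion.lift_fac]
      exact hauniq (a₂ ≫ V'.ι) ⟨by rw [← Category.assoc, h1, Category.assoc, hiW, Category.assoc],
        by rw [Category.assoc, h2]⟩

/-- Two universal first order thickenings of the same morphism are isomorphic. -/
theorem iso_of_two {Z Z₁ Z₂ : Scheme.{u}} {h : Z ⟶ X} {i₁ : Z ⟶ Z₁} {h₁ : Z₁ ⟶ X}
    {i₂ : Z ⟶ Z₂} {h₂ : Z₂ ⟶ X} (H₁ : OmegaSh.IsUnivThickening h i₁ h₁)
    (H₂ : OmegaSh.IsUnivThickening h i₂ h₂) :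
    ∃ e : Z₁ ≅ Z₂, i₁ ≫ e.hom = i₂ ∧ e.hom ≫ h₂ = h₁ := by
  obtain ⟨hi₁, hf₁, hU₁⟩ := H₁
  obtain ⟨hi₂, hf₂, hU₂⟩ := H₂
  obtain ⟨φ, ⟨hφ1, hφ2⟩, -⟩ := hU₂ Z Z₁ i₁ h₁ (𝟙 Z) hi₁ (by rw [hf₁, Category.id_comp])
  obtain ⟨ψ, ⟨hψ1, hψ2⟩, -⟩ := hU₁ Z Z₂ i₂ h₂ (𝟙 Z) hi₂ (by rw [hf₂, Category.id_comp])
  obtain ⟨c₁, -, hc₁⟩ := hU₁ Z Z₁ i₁ h₁ (𝟙 Z) hi₁ (by rw [hf₁, Category.id_comp])
  obtain ⟨c₂, -, hc₂⟩ := hU₂ Z Z₂ i₂ h₂ (𝟙 Z) hi₂ (by rw [hf₂, Category.id_comp])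
  rw [Category.id_comp] at hφ1 hψ1
  refine ⟨⟨φ, ψ, ?_, ?_⟩, hφ1, hφ2⟩
  · rw [hc₁ (φ ≫ ψ) ⟨by rw [← Category.assoc, hφ1, hψ1, Category.id_comp],
      by rw [Category.assoc, hψ2, hφ2]⟩,
      ← hc₁ (𝟙 _) ⟨by rw [Category.comp_id, Category.id_comp], by rw [Category.id_comp]⟩]
  · rw [hc₂ (ψ ≫ φ) ⟨by rw [← Category.assoc, hψ1, hφ1, Category.id_comp],
      by rw [Category.assoc, hφ2, hψ2]⟩,
      ← hc₂ (𝟙 _) ⟨by rw [Category.comp_id, Category.id_comp], by rw [Category.id_comp]⟩]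

/-- If `(i₂, h₂)` is a universal thickening of `g : W₂ ⟶ X`, `w : W₁ ⟶ W₂` is an open immersion
and `(i₁, h₁)` is a universal thickening of `w ≫ g`, then the comparison map is an open
immersion. -/
theorem isOpenImmersion_comparison {W₁ W₂ Z₁ Z₂ : Scheme.{u}} {g : W₂ ⟶ X} (w : W₁ ⟶ W₂)
    [IsOpenImmersion w] {i₁ : W₁ ⟶ Z₁} {h₁ : Z₁ ⟶ X} {i₂ : W₂ ⟶ Z₂} {h₂ : Z₂ ⟶ X}
    (H₁ : OmegaSh.IsUnivThickening (w ≫ g) i₁ h₁) (H₂ : OmegaSh.IsUnivThickening g i₂ h₂)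
    (φ : Z₁ ⟶ Z₂) (hφ1 : i₁ ≫ φ = w ≫ i₂) (hφ2 : φ ≫ h₂ = h₁) : IsOpenImmersion φ := by
  obtain ⟨W', iW, w', hw', hpb, H'⟩ := restrict H₂ w
  obtain ⟨e, he1, he2⟩ := iso_of_two H₁ H'
  obtain ⟨c, -, hc⟩ := H₂.2.2 W₁ Z₁ i₁ h₁ w H₁.1 H₁.2.1
  have : φ = e.hom ≫ w' := by
    rw [hc φ ⟨hφ1, hφ2⟩, hc (e.hom ≫ w') ⟨by rw [← Category.assoc, he1, hpb.w],
      by rw [Category.assoc, he2]⟩]
  rw [this]
  infer_instance

/-- Being a first order thickening is local on the target. -/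
theorem isFirstOrderThickening_of_cover {Z Z' : Scheme.{u}} (i : Z ⟶ Z') (𝒰 : Z'.OpenCover)
    (W : 𝒰.I₀ → Scheme.{u}) (w : ∀ k, W k ⟶ Z) (ik : ∀ k, W k ⟶ 𝒰.X k)
    (hpb : ∀ k, IsPullback (ik k) (w k) (𝒰.f k) i)
    (hik : ∀ k, MoreMor.IsFirstOrderThickening (ik k)) : MoreMor.IsFirstOrderThickening i := by
  have hcl : IsClosedImmersion i := by
    refine IsZariskiLocalAtTarget.of_openCover (P := @IsClosedImmersion) 𝒰 fun k => ?_
    haveI : IsClosedImmersion (ik k) := (hik k).1.1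
    have e : pullback.snd i (𝒰.f k) = (hpb k).flip.isoPullback.inv ≫ ik k := by
      rw [Iso.eq_inv_comp]
      exact (hpb k).flip.isoPullback_hom_snd
    show IsClosedImmersion (pullback.snd i (𝒰.f k))
    rw [e]
    infer_instance
  have hsurj : Surjective i := by
    refine ⟨fun z' => ?_⟩
    obtain ⟨k, x, rfl⟩ := 𝒰.exists_eq z'
    haveI : Surjective (ik k) := (hik k).1.2
    obtain ⟨y, rfl⟩ := (ik k).surjective x
    refine ⟨w k y, ?_⟩
    rw [← Scheme.Hom.comp_apply, ← (hpb k).w, Scheme.Hom.comp_apply]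
  refine ⟨⟨hcl, hsurj⟩, ?_⟩
  refine le_antisymm ?_ bot_le
  refine Scheme.IdealSheafData.le_of_iSup_eq_top
    (ι := {p : Z'.affineOpens × 𝒰.I₀ // p.1.1 ≤ (𝒰.f p.2).opensRange}) (fun p => p.1.1) ?_ ?_
  · rw [eq_top_iff]
    intro z' _
    obtain ⟨k, x, rfl⟩ := 𝒰.exists_eq z'
    obtain ⟨_, ⟨U, hU, rfl⟩, hxU, hUk⟩ :=
      Z'.isBasis_affineOpens.exists_subset_of_mem_open
        (show 𝒰.f k x ∈ ((𝒰.f k).opensRange : Set Z') from ⟨x, rfl⟩) (𝒰.f k).opensRange.isOpen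
    exact TopologicalSpace.Opens.mem_iSup.mpr ⟨⟨⟨⟨U, hU⟩, k⟩, hUk⟩, hxU⟩
  · rintro ⟨⟨U, k⟩, hUk⟩
    rw [Scheme.IdealSheafData.ideal_mul, Scheme.IdealSheafData.ideal_bot]
    simp only [Pi.mul_apply, Pi.bot_apply]
    rw [Ideal.mul_le]
    intro x hx y hy
    rw [Scheme.Hom.ker_apply, RingHom.mem_ker] at hx hy
    rw [Ideal.mem_bot]
    haveI : IsClosedImmersion (ik k) := (hik k).1.1
    have hiso : IsIso ((𝒰.f k).app U.1) := Scheme.Hom.isIso_app (𝒰.f k) U.1 hUk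
    have hinj : Function.Injective ((𝒰.f k).app U.1).hom :=
      (ConcreteCategory.bijective_of_isIso ((𝒰.f k).app U.1)).1
    have hkill : ∀ z : Γ(Z', U.1), (i.app U.1).hom z = 0 →
        ((ik k).app ((𝒰.f k) ⁻¹ᵁ U.1)).hom (((𝒰.f k).app U.1).hom z) = 0 := by
      intro z hz
      have h1 := Scheme.Hom.congr_app (hpb k).w U.1
      rw [Scheme.Hom.comp_app, Scheme.Hom.comp_app] at h1
      have h2 := congr($(h1).hom z)
      refine h2.trans ?_
      show ((W k).presheaf.map _).hom (((w k).app (i ⁻¹ᵁ U.1)).hom ((i.app U.1).hom z)) = 0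
      rw [hz, map_zero, map_zero]
    have h0 := ThickBC.sq_zero (ik k) (hik k).2 ((𝒰.f k) ⁻¹ᵁ U.1) _ _ (hkill x hx) (hkill y hy)
    rw [← map_mul] at h0
    exact hinj (by rw [h0, map_zero])

/-- The universal property of a first order thickening can be checked locally. -/
theorem of_cover {Z Z' : Scheme.{u}} (h : Z ⟶ X) (i : Z ⟶ Z') (h' : Z' ⟶ X) (hfac : i ≫ h' = h)
    (𝒰 : Z'.OpenCover) (W : 𝒰.I₀ → Scheme.{u}) (w : ∀ k, W k ⟶ Z)
    (ik : ∀ k, W k ⟶ 𝒰.X k) (hpb : ∀ k, IsPullback (ik k) (w k) (𝒰.f k) i)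
    (hU : ∀ k, OmegaSh.IsUnivThickening (w k ≫ h) (ik k) (𝒰.f k ≫ h')) :
    OmegaSh.IsUnivThickening h i h' := by
  classical
  have hwopen : ∀ k, IsOpenImmersion (w k) := fun k =>
    MorphismProperty.of_isPullback (P := @IsOpenImmersion) (hpb k) inferInstance
  have hi : MoreMor.IsFirstOrderThickening i :=
    isFirstOrderThickening_of_cover i 𝒰 W w ik hpb (fun k => (hU k).1)
  refine ⟨hi, hfac, ?_⟩
  intro T T' j b a hj hw
  haveI : IsClosedImmersion j := hj.1.1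
  haveI : Surjective j := hj.1.2
  -- membership in the range of `w k`
  have hmemW : ∀ (k : 𝒰.I₀) (z : Z), i z ∈ Set.range (𝒰.f k) → z ∈ Set.range (w k) := by
    rintro k z ⟨x', hx'⟩
    obtain ⟨p, -, hp⟩ := Scheme.exists_preimage_of_isPullback (hpb k) x' z hx'
    exact ⟨p, hp⟩
  have hex : ∀ y : T', ∃ (k : 𝒰.I₀) (N : T'.Opens), y ∈ N ∧ j ⁻¹ᵁ N = a ⁻¹ᵁ (w k).opensRange := by
    intro y
    obtain ⟨x, rfl⟩ := j.surjective y
    obtain ⟨k, x', hx'⟩ := 𝒰.exists_eq (i (a x))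
    haveI := hwopen k
    obtain ⟨N, hN⟩ := exists_opens_preimage_eq j hj.1 (a ⁻¹ᵁ (w k).opensRange)
    refine ⟨k, N, ?_, hN⟩
    have : x ∈ j ⁻¹ᵁ N := by
      rw [hN]
      exact hmemW k (a x) ⟨x', hx'⟩
    exact this
  choose k N hyN hN using hex
  have hcov : TopologicalSpace.IsOpenCover N := by
    rw [TopologicalSpace.IsOpenCover, eq_top_iff]
    intro y _
    exact TopologicalSpace.Opens.mem_iSup.mpr ⟨y, hyN y⟩
  refine LiftGlue.existsUnique_lift_of_cover ?_ (T'.openCoverOfIsOpenCover N hcov) ?_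
  · -- uniqueness
    intro V ι _ l l' g1 g2
    refine Scheme.hom_ext_of_forall l l' fun v => ?_
    have htV : MoreMor.IsFirstOrderThickening (pullback.snd j ι) :=
      ThickBC.isFirstOrderThickening_of_isPullback (IsPullback.of_hasPullback j ι).flip hj
    haveI : Surjective (pullback.snd j ι) := htV.1.2
    obtain ⟨p, rfl⟩ := (pullback.snd j ι).surjective v
    have hlp : l (pullback.snd j ι p) = i (a (pullback.fst j ι p)) := by
      rw [← Scheme.Hom.comp_apply, g1.1, Scheme.Hom.comp_apply, Scheme.Hom.comp_apply]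
    have hl'p : l' (pullback.snd j ι p) = i (a (pullback.fst j ι p)) := by
      rw [← Scheme.Hom.comp_apply, g2.1, Scheme.Hom.comp_apply, Scheme.Hom.comp_apply]
    obtain ⟨k, x', hx'⟩ := 𝒰.exists_eq (i (a (pullback.fst j ι p)))
    let N : V.Opens := l ⁻¹ᵁ (𝒰.f k).opensRange ⊓ l' ⁻¹ᵁ (𝒰.f k).opensRange
    have hvN : pullback.snd j ι p ∈ N := by
      refine ⟨?_, ?_⟩
      · show l (pullback.snd j ι p) ∈ Set.range (𝒰.f k)
        rw [hlp]; exact ⟨x', hx'⟩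
      · show l' (pullback.snd j ι p) ∈ Set.range (𝒰.f k)
        rw [hl'p]; exact ⟨x', hx'⟩
    refine ⟨N, hvN, ?_⟩
    have hrl : Set.range (N.ι ≫ l) ⊆ Set.range (𝒰.f k) := by
      rintro _ ⟨n, rfl⟩
      rw [Scheme.Hom.comp_apply]
      exact n.2.1
    have hrl' : Set.range (N.ι ≫ l') ⊆ Set.range (𝒰.f k) := by
      rintro _ ⟨n, rfl⟩
      rw [Scheme.Hom.comp_apply]
      exact n.2.2
    let lN := IsOpenImmersion.lift (𝒰.f k) (N.ι ≫ l) hrl
    let l'N := IsOpenImmersion.lift (𝒰.f k) (N.ι ≫ l') hrl'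
    have hlN : lN ≫ 𝒰.f k = N.ι ≫ l := IsOpenImmersion.lift_fac _ _ _
    have hl'N : l'N ≫ 𝒰.f k = N.ι ≫ l' := IsOpenImmersion.lift_fac _ _ _
    obtain ⟨G11, G12⟩ := LiftGlue.good_comp g1 N.ι
    obtain ⟨G21, G22⟩ := LiftGlue.good_comp g2 N.ι
    have htN : MoreMor.IsFirstOrderThickening (pullback.snd j (N.ι ≫ ι)) :=
      ThickBC.isFirstOrderThickening_of_isPullback (IsPullback.of_hasPullback j (N.ι ≫ ι)).flip hj
    let aN : pullback j (N.ι ≫ ι) ⟶ W k :=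
      (hpb k).lift (pullback.snd j (N.ι ≫ ι) ≫ lN) (pullback.fst j (N.ι ≫ ι) ≫ a) (by
        rw [Category.assoc, hlN, G11, Category.assoc])
    have haN1 : aN ≫ ik k = pullback.snd j (N.ι ≫ ι) ≫ lN := (hpb k).lift_fst _ _ _
    have haN2 : aN ≫ w k = pullback.fst j (N.ι ≫ ι) ≫ a := (hpb k).lift_snd _ _ _
    have haN1' : aN ≫ ik k = pullback.snd j (N.ι ≫ ι) ≫ l'N := by
      haveI := hwopen k
      have : aN = (hpb k).lift (pullback.snd j (N.ι ≫ ι) ≫ l'N) (pullback.fst j (N.ι ≫ ι) ≫ a) (by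
          rw [Category.assoc, hl'N, G21, Category.assoc]) := by
        rw [← cancel_mono (w k), haN2, (hpb k).lift_snd]
      rw [this, (hpb k).lift_fst]
    have hcond : pullback.snd j (N.ι ≫ ι) ≫ ((N.ι ≫ ι) ≫ b) = aN ≫ (w k ≫ h) := by
      calc pullback.snd j (N.ι ≫ ι) ≫ ((N.ι ≫ ι) ≫ b)
          = (pullback.snd j (N.ι ≫ ι) ≫ (N.ι ≫ l)) ≫ h' := by rw [← G12]; simp only [Category.assoc]
        _ = (pullback.fst j (N.ι ≫ ι) ≫ a) ≫ (i ≫ h') := by rw [G11]; simp only [Category.assoc]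
        _ = aN ≫ (w k ≫ h) := by rw [← haN2, hfac, Category.assoc]
    obtain ⟨c, -, hc⟩ := (hU k).2.2 _ _ (pullback.snd j (N.ι ≫ ι)) ((N.ι ≫ ι) ≫ b) aN htN hcond
    have e1 : lN = c := hc lN ⟨haN1.symm, by rw [← Category.assoc, hlN, G12]⟩
    have e2 : l'N = c := hc l'N ⟨haN1'.symm, by rw [← Category.assoc, hl'N, G22]⟩
    rw [← hlN, ← hl'N, e1, e2]
  · -- local existence
    intro y
    show ∃ l : ((N y : T'.Opens) : Scheme.{u}) ⟶ Z', LiftGlue.Good j (a ≫ i) h' b (N y).ι l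
    haveI := hwopen (k y)
    have htN : MoreMor.IsFirstOrderThickening (pullback.snd j (N y).ι) :=
      ThickBC.isFirstOrderThickening_of_isPullback (IsPullback.of_hasPullback j (N y).ι).flip hj
    have hr : Set.range (pullback.fst j (N y).ι ≫ a) ⊆ Set.range (w (k y)) := by
      rintro _ ⟨p, rfl⟩
      rw [Scheme.Hom.comp_apply]
      have : pullback.fst j (N y).ι p ∈ j ⁻¹ᵁ N y := by
        show j (pullback.fst j (N y).ι p) ∈ N y
        rw [← Scheme.Hom.comp_apply, pullback.condition, Scheme.Hom.comp_apply]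
        exact (pullback.snd j (N y).ι p).2
      rw [hN y] at this
      exact this
    let aN : pullback j (N y).ι ⟶ W (k y) :=
      IsOpenImmersion.lift (w (k y)) (pullback.fst j (N y).ι ≫ a) hr
    have haN : aN ≫ w (k y) = pullback.fst j (N y).ι ≫ a := IsOpenImmersion.lift_fac _ _ _
    have hcond : pullback.snd j (N y).ι ≫ ((N y).ι ≫ b) = aN ≫ (w (k y) ≫ h) := by
      rw [← Category.assoc, ← pullback.condition, Category.assoc, hw, ← Category.assoc, ← haN,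
        Category.assoc]
    obtain ⟨a', ⟨ha'1, ha'2⟩, -⟩ :=
      (hU (k y)).2.2 _ _ (pullback.snd j (N y).ι) ((N y).ι ≫ b) aN htN hcond
    refine ⟨a' ≫ 𝒰.f (k y), ?_, ?_⟩
    · rw [← Category.assoc, ha'1, Category.assoc, (hpb (k y)).w, ← Category.assoc, haN,
        Category.assoc]
    · rw [Category.assoc, ha'2]

end Groth.Agent.Lib.Helper61.UnivThick
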