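import Groth.Prelude.Def_Omega3
import Mathlib.RingTheory.Kaehler.Basic
import Mathlib.RingTheory.Derivation.ToSquareZero
import Mathlib.RingTheory.Unramified.Basic
import Mathlib.Algebra.MvPolynomial.Derivation

/-!
# Universal first order thickening of a formally unramified algebra (helper61)
-/

set_option autoImplicit false
universe u
open TensorProduct KaehlerDifferential

namespace Groth.Agent.Lib.Helper61.UnivThickRing

section Key

variable {R P S A : Type u} [CommRing R] [CommRing P] [CommRing S] [CommRing A]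
  [Algebra R P] [Algebra P S] [Algebra R S] [IsScalarTower R P S]
  [Algebra R A] [Algebra P A] [IsScalarTower R P A]

/-- A derivation `P → I` into a square-zero ideal `I` of a `P`-algebra `A`, where `A ⧸ I` receives
a compatible map from `S`, kills every `z` with `1 ⊗ dz = 0` in `S ⊗_P Ω_{P/R}`. -/
theorem derivation_eq_zero_of_tmul_eq_zero (I : Ideal A) (hI : I ^ 2 = ⊥) (a : S →ₐ[R] A ⧸ I)
    (ha : ∀ p : P, Ideal.Quotient.mk I (algebraMap P A p) = a (algebraMap P S p))
    (D : Derivation R P I) (z : P) (hz : (1 : S) ⊗ₜ[P] KaehlerDifferential.D R P z = 0) :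
    D z = 0 := by
  classical
  have hLL : ∀ x ∈ I, ∀ y ∈ I, x * y = 0 := by
    intro x hx y hy
    have : x * y ∈ I ^ 2 := by rw [sq]; exact Ideal.mul_mem_mul hx hy
    rw [hI] at this
    exact this
  letI m1 : Module (A ⧸ I) I := Module.IsTorsionBySet.module (R := A) (M := I) (I := I) (by
    intro x a
    exact Subtype.ext (hLL a.1 a.2 x.1 x.2))
  letI m2 : Module S I := Module.compHom I a.toRingHom
  have hsmul : ∀ (p : P) (l : I), algebraMap P S p • l = p • l := by
    intro p l
    show a (algebraMap P S p) • l = p • l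
    rw [← ha, Module.IsTorsionBySet.mk_smul]
    exact algebraMap_smul A p l
  haveI : IsScalarTower P S I := IsScalarTower.of_algebraMap_smul hsmul
  have h1 : D z = LinearMap.liftBaseChange S D.liftKaehlerDifferential
      ((1 : S) ⊗ₜ[P] KaehlerDifferential.D R P z) := by
    rw [LinearMap.liftBaseChange_tmul, one_smul, Derivation.liftKaehlerDifferential_comp_D]
  rw [h1, hz, map_zero]

end Key

section Main

variable (R S : Type u) [CommRing R] [CommRing S] [Algebra R S]

/-- Existence of the universal first order thickening of a formally unramified algebra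
(Stacks 04E3). -/
theorem exists_isUnivThickeningRing [Algebra.FormallyUnramified R S] :
    ∃ (S' : Type u) (_ : CommRing S') (_ : Algebra R S') (π : S' →ₐ[R] S),
      OmegaSh.IsUnivThickeningRing R S S' π := by
  classical
  let φ : MvPolynomial S R →ₐ[R] S := MvPolynomial.aeval (fun s : S => s)
  have hφsurj : Function.Surjective φ := fun s => ⟨MvPolynomial.X s, by simp [φ]⟩
  letI : Algebra (MvPolynomial S R) S := φ.toRingHom.toAlgebra
  haveI : IsScalarTower R (MvPolynomial S R) S :=
    IsScalarTower.of_algebraMap_eq (fun r => (φ.commutes r).symm)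
  have hsurj : Function.Surjective (algebraMap (MvPolynomial S R) S) := hφsurj
  have hex : ∀ s : S, ∃ x : MvPolynomial S R, algebraMap (MvPolynomial S R) S x = 0 ∧
      (1 : S) ⊗ₜ[MvPolynomial S R] D R (MvPolynomial S R) (MvPolynomial.X s - x) = 0 := by
    intro s
    have hexact := KaehlerDifferential.exact_kerCotangentToTensor_mapBaseChange R
      (MvPolynomial S R) S hsurj
    have hmem : (1 : S) ⊗ₜ[MvPolynomial S R] D R (MvPolynomial S R) (MvPolynomial.X s) ∈
        Set.range (kerCotangentToTensor R (MvPolynomial S R) S) :=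
      (hexact _).mp (Subsingleton.elim _ _)
    obtain ⟨c, hc⟩ := hmem
    obtain ⟨x, rfl⟩ := Ideal.toCotangent_surjective _ c
    refine ⟨x.1, RingHom.mem_ker.mp x.2, ?_⟩
    rw [map_sub, tmul_sub, ← hc, kerCotangentToTensor_toCotangent, sub_self]
  choose f hf0 hf1 using hex
  let J : Ideal (MvPolynomial S R) := RingHom.ker (algebraMap (MvPolynomial S R) S)
  let K : Ideal (MvPolynomial S R) := J ^ 2 ⊔ Ideal.span (Set.range f)
  have hKJ : K ≤ J := sup_le (Ideal.pow_le_self two_ne_zero)
    (Ideal.span_le.mpr (by rintro _ ⟨s, rfl⟩; exact RingHom.mem_ker.mpr (hf0 s)))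
  let π : MvPolynomial S R ⧸ K →ₐ[R] S :=
    Ideal.Quotient.liftₐ K (IsScalarTower.toAlgHom R (MvPolynomial S R) S) (fun x hx => hKJ hx)
  have hπmk : ∀ p : MvPolynomial S R, π (Ideal.Quotient.mk K p) = algebraMap _ S p := fun p => rfl
  refine ⟨MvPolynomial S R ⧸ K, inferInstance, inferInstance, π, ?_, ?_, ?_⟩
  · intro s
    obtain ⟨p, rfl⟩ := hsurj s
    exact ⟨Ideal.Quotient.mk K p, rfl⟩
  · have hker : RingHom.ker π.toRingHom = J.map (Ideal.Quotient.mk K) :=
      Ideal.ker_quotient_lift (algebraMap (MvPolynomial S R) S) (fun x hx => hKJ hx)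
    rw [hker, ← Ideal.map_pow, Ideal.map_eq_bot_iff_le_ker, Ideal.mk_ker]
    exact le_sup_left
  · intro A _ _ I hI a
    have hLL : ∀ x ∈ I, ∀ y ∈ I, x * y = 0 := by
      intro x hx y hy
      have : x * y ∈ I ^ 2 := by rw [sq]; exact Ideal.mul_mem_mul hx hy
      rw [hI] at this
      exact this
    -- existence
    have hexist : ∃ a' : MvPolynomial S R ⧸ K →ₐ[R] A,
        (Ideal.Quotient.mkₐ R I).comp a' = a.comp π := by
      let φ₀ : MvPolynomial S R →ₐ[R] A :=
        MvPolynomial.aeval (fun s : S => Function.surjInv Ideal.Quotient.mk_surjective (a s))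
      have hφ₀ : (Ideal.Quotient.mkₐ R I).comp φ₀ =
          a.comp (IsScalarTower.toAlgHom R (MvPolynomial S R) S) := by
        apply MvPolynomial.algHom_ext
        intro s
        show Ideal.Quotient.mk I (φ₀ (MvPolynomial.X s)) = a (φ (MvPolynomial.X s))
        simp only [φ₀, φ, MvPolynomial.aeval_X]
        exact Function.surjInv_eq Ideal.Quotient.mk_surjective (a s)
      have hφ₀' : ∀ p, Ideal.Quotient.mk I (φ₀ p) = a (algebraMap _ S p) := fun p =>
        congrArg (fun F => F p) hφ₀
      letI : Algebra (MvPolynomial S R) A := φ₀.toRingHom.toAlgebra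
      haveI : IsScalarTower R (MvPolynomial S R) A :=
        IsScalarTower.of_algebraMap_eq (fun r => (φ₀.commutes r).symm)
      have hφ₀J : ∀ x ∈ J, φ₀ x ∈ I := by
        intro x hx
        rw [← Ideal.Quotient.eq_zero_iff_mem, hφ₀', RingHom.mem_ker.mp hx, map_zero]
      let D₀ : Derivation R (MvPolynomial S R) I :=
        MvPolynomial.mkDerivation R (fun s => ⟨φ₀ (f s), hφ₀J _ (RingHom.mem_ker.mpr (hf0 s))⟩)
      let χP : MvPolynomial S R →ₐ[R] A := liftOfDerivationToSquareZero I hI (-D₀)
      have hχP : ∀ p, χP p = φ₀ p - (D₀ p : A) := by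
        intro p
        show (((-D₀) p : I) : A) + algebraMap (MvPolynomial S R) A p = φ₀ p - (D₀ p : A)
        rw [Derivation.neg_apply, Submodule.coe_neg]
        show -(D₀ p : A) + φ₀ p = φ₀ p - (D₀ p : A)
        ring
      have hχPI : ∀ x ∈ J, χP x ∈ I := by
        intro x hx
        rw [hχP]
        exact I.sub_mem (hφ₀J x hx) (D₀ x).2
      have hχPK : ∀ x ∈ K, χP x = 0 := by
        intro x hx
        have hle : K ≤ RingHom.ker χP.toRingHom := by
          refine sup_le ?_ (Ideal.span_le.mpr ?_)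
          · rw [sq, Ideal.mul_le]
            intro x hx y hy
            rw [RingHom.mem_ker]
            show χP (x * y) = 0
            rw [map_mul]
            exact hLL _ (hχPI x hx) _ (hχPI y hy)
          · rintro _ ⟨s, rfl⟩
            rw [SetLike.mem_coe, RingHom.mem_ker]
            show χP (f s) = 0
            rw [hχP]
            have h0 : D₀ (MvPolynomial.X s - f s) = 0 :=
              derivation_eq_zero_of_tmul_eq_zero (S := S) I hI a hφ₀' D₀ _ (hf1 s)
            rw [map_sub, sub_eq_zero, MvPolynomial.mkDerivation_X] at h0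
            rw [← h0]
            exact sub_self _
        exact RingHom.mem_ker.mp (hle hx)
      refine ⟨Ideal.Quotient.liftₐ K χP hχPK, ?_⟩
      apply AlgHom.ext
      intro c
      obtain ⟨p, rfl⟩ := Ideal.Quotient.mk_surjective c
      show Ideal.Quotient.mk I (χP p) = a (π (Ideal.Quotient.mk K p))
      rw [hχP, map_sub, Ideal.Quotient.eq_zero_iff_mem.mpr (D₀ p).2, sub_zero, hφ₀', hπmk]
    obtain ⟨a', ha'⟩ := hexist
    refine ⟨a', ha', ?_⟩
    -- uniqueness
    intro a'' ha''
    have hfK : ∀ s, Ideal.Quotient.mk K (f s) = 0 := fun s =>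
      Ideal.Quotient.eq_zero_iff_mem.mpr (le_sup_right (a := J ^ 2)
        (Ideal.subset_span ⟨s, rfl⟩))
    let φ₁ : MvPolynomial S R →ₐ[R] A := a''.comp (Ideal.Quotient.mkₐ R K)
    let φ₂ : MvPolynomial S R →ₐ[R] A := a'.comp (Ideal.Quotient.mkₐ R K)
    letI : Algebra (MvPolynomial S R) A := φ₂.toRingHom.toAlgebra
    haveI : IsScalarTower R (MvPolynomial S R) A :=
      IsScalarTower.of_algebraMap_eq (fun r => (φ₂.commutes r).symm)
    have hφ₂' : ∀ p, Ideal.Quotient.mk I (algebraMap (MvPolynomial S R) A p) =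
        a (algebraMap _ S p) := fun p =>
      congrArg (fun F => F (Ideal.Quotient.mk K p)) ha'
    have hφ₁' : ∀ p, Ideal.Quotient.mk I (φ₁ p) = a (algebraMap _ S p) := fun p =>
      congrArg (fun F => F (Ideal.Quotient.mk K p)) ha''
    have he : (Ideal.Quotient.mkₐ R I).comp φ₁ =
        IsScalarTower.toAlgHom R (MvPolynomial S R) (A ⧸ I) := by
      apply AlgHom.ext
      intro p
      show Ideal.Quotient.mk I (φ₁ p) = Ideal.Quotient.mk I (algebraMap (MvPolynomial S R) A p)
      rw [hφ₁', hφ₂']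
    let D : Derivation R (MvPolynomial S R) I := derivationToSquareZeroOfLift I hI φ₁ he
    have hD : ∀ p, (D p : A) = φ₁ p - φ₂ p := fun p => rfl
    have hφ : φ₁ = φ₂ := by
      apply MvPolynomial.algHom_ext
      intro s
      have h0 : D (MvPolynomial.X s - f s) = 0 :=
        derivation_eq_zero_of_tmul_eq_zero (S := S) I hI a hφ₂' D _ (hf1 s)
      have h1 : (D (f s) : A) = 0 := by
        rw [hD]
        show a'' (Ideal.Quotient.mk K (f s)) - a' (Ideal.Quotient.mk K (f s)) = 0
        rw [hfK, map_zero, map_zero, sub_zero]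
      have h2 : (D (MvPolynomial.X s) : A) = 0 := by
        have := congrArg (fun x : I => (x : A)) h0
        simp only [map_sub, Submodule.coe_sub, Submodule.coe_zero, h1, sub_zero] at this
        exact this
      rw [hD, sub_eq_zero] at h2
      exact h2
    apply AlgHom.ext
    intro c
    obtain ⟨p, rfl⟩ := Ideal.Quotient.mk_surjective c
    exact congrArg (fun F => F p) hφ

end Main

section FU

variable {A B' : Type u} [CommRing A] [CommRing B'] [Algebra A B']

/-- If `N` is a square-zero ideal of `B'` such that two `A`-algebra maps `B' → C` that agree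
modulo a square-zero ideal `I'` containing the image of `N` are equal, then `B'` is formally
unramified over `A`. -/
theorem formallyUnramified_of_unique (N : Ideal B') (hN : N ^ 2 = ⊥)
    (huniq : ∀ (C : Type u) [CommRing C] [Algebra A C] (I' : Ideal C), I' ^ 2 = ⊥ →
      ∀ g₁ g₂ : B' →ₐ[A] C, (Ideal.Quotient.mkₐ A I').comp g₁ = (Ideal.Quotient.mkₐ A I').comp g₂ →
        (∀ n ∈ N, g₂ n ∈ I') → g₁ = g₂) :
    Algebra.FormallyUnramified A B' := by
  rw [Algebra.FormallyUnramified.iff_comp_injective]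
  intro C _ _ I hI g₁ g₂ hg
  have hg' : ∀ b, g₁ b - g₂ b ∈ I := fun b => by
    rw [← Ideal.Quotient.eq_zero_iff_mem, map_sub, sub_eq_zero]
    exact congrArg (fun F => F b) hg
  set Ng : Ideal C := N.map g₂.toRingHom with hNg
  have hNg2 : Ng * Ng = ⊥ := by
    rw [hNg, ← Ideal.map_mul, ← sq, hN, Ideal.map_bot]
  have hI2 : I * I = ⊥ := by rw [← sq, hI]
  have hNgmem : ∀ n ∈ N, g₂ n ∈ Ng := fun n hn => Ideal.mem_map_of_mem _ hn
  set L : Ideal C := Ng * I with hL
  -- Step 1: `g₁ ≡ g₂` modulo `L`
  have step1 : ∀ b, g₁ b - g₂ b ∈ L := by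
    have hsq : ((I ⊔ Ng).map (Ideal.Quotient.mk L)) ^ 2 = ⊥ := by
      rw [← Ideal.map_pow, Ideal.map_eq_bot_iff_le_ker, Ideal.mk_ker, sq, Ideal.sup_mul,
        Ideal.mul_sup, Ideal.mul_sup, hI2, hNg2]
      simp only [bot_sup_eq, sup_bot_eq]
      exact sup_le (by rw [mul_comm]) le_rfl
    have h1 := huniq (C ⧸ L) ((I ⊔ Ng).map (Ideal.Quotient.mk L)) hsq
      ((Ideal.Quotient.mkₐ A L).comp g₁) ((Ideal.Quotient.mkₐ A L).comp g₂) (by
        apply AlgHom.ext
        intro b
        show Ideal.Quotient.mk _ (Ideal.Quotient.mk L (g₁ b)) =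
          Ideal.Quotient.mk _ (Ideal.Quotient.mk L (g₂ b))
        rw [← sub_eq_zero, ← map_sub, ← map_sub, Ideal.Quotient.eq_zero_iff_mem]
        exact Ideal.mem_map_of_mem _ (Ideal.mem_sup_left (hg' b)))
      (fun n hn => Ideal.mem_map_of_mem _ (Ideal.mem_sup_right (hNgmem n hn)))
    intro b
    have := congrArg (fun F => F b) h1
    rw [← Ideal.Quotient.eq_zero_iff_mem, map_sub, sub_eq_zero]
    exact this
  -- Step 2
  have hsq3 : (L ⊔ Ng) ^ 2 = ⊥ := by
    have hLL : L * L = ⊥ := by
      rw [eq_bot_iff, ← hI2]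
      exact Ideal.mul_mono Ideal.mul_le_right Ideal.mul_le_right
    have hLN : L * Ng = ⊥ := by
      rw [hL, mul_comm Ng I, mul_assoc, hNg2, Ideal.mul_bot]
    rw [sq, Ideal.sup_mul, Ideal.mul_sup, Ideal.mul_sup, hLL, hLN, hNg2, mul_comm Ng L, hLN]
    simp
  exact huniq C (L ⊔ Ng) hsq3 g₁ g₂ (by
      apply AlgHom.ext
      intro b
      show Ideal.Quotient.mk _ (g₁ b) = Ideal.Quotient.mk _ (g₂ b)
      rw [← sub_eq_zero, ← map_sub, Ideal.Quotient.eq_zero_iff_mem]
      exact Ideal.mem_sup_left (step1 b))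
    (fun n hn => Ideal.mem_sup_right (hNgmem n hn))

/-- A universal first order thickening of `B` over `A` is formally unramified over `A`. -/
theorem formallyUnramified_of_isUnivThickeningRing {B : Type u} [CommRing B] [Algebra A B]
    (π : B' →ₐ[A] B) (h : OmegaSh.IsUnivThickeningRing A B B' π) :
    Algebra.FormallyUnramified A B' := by
  obtain ⟨hsurj, hsq, huniv⟩ := h
  refine formallyUnramified_of_unique (RingHom.ker π.toRingHom) hsq ?_
  intro C _ _ I' hI' g₁ g₂ hg hN
  have hker : RingHom.ker π.toRingHom ≤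
      RingHom.ker ((Ideal.Quotient.mkₐ A I').comp g₂).toRingHom := by
    intro n hn
    rw [RingHom.mem_ker]
    show Ideal.Quotient.mk I' (g₂ n) = 0
    exact Ideal.Quotient.eq_zero_iff_mem.mpr (hN n hn)
  let a : B →ₐ[A] C ⧸ I' :=
    AlgHom.liftOfSurjective π hsurj ((Ideal.Quotient.mkₐ A I').comp g₂) hker
  have ha : a.comp π = (Ideal.Quotient.mkₐ A I').comp g₂ :=
    AlgHom.liftOfSurjective_comp π hsurj _ hker
  obtain ⟨a', -, ha'uniq⟩ := huniv C I' hI' a
  rw [ha'uniq g₁ (hg.trans ha.symm), ha'uniq g₂ ha.symm]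

end FU

end Groth.Agent.Lib.Helper61.UnivThickRing
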