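import Groth.Agent.Lib.Helper61.UnivThick
import Groth.Agent.Lib.Helper61.UnivThickRing
import Mathlib.AlgebraicGeometry.Morphisms.FormallyUnramified

/-!
# Universal first order thickenings: the affine case (helper61)
-/

set_option autoImplicit false
universe u
open AlgebraicGeometry CategoryTheory Limits

namespace Groth.Agent.Lib.Helper61.UnivThick

/-- Precomposing a first order thickening with an isomorphism. -/
theorem isFirstOrderThickening_iso_comp {W T T' : Scheme.{u}} (e : W ≅ T) (t : T ⟶ T')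
    (ht : MoreMor.IsFirstOrderThickening t) : MoreMor.IsFirstOrderThickening (e.hom ≫ t) := by
  have hpb : IsPullback (e.hom ≫ t) e.hom (𝟙 T') t :=
    IsPullback.of_vert_isIso ⟨by rw [Category.comp_id]⟩
  exact ThickBC.isFirstOrderThickening_of_isPullback hpb ht

/-- `Spec` of a surjective ring map with square zero kernel is a first order thickening. -/
theorem isFirstOrderThickening_SpecMap_of_surjective {B' B : Type u} [CommRing B'] [CommRing B]
    (π : B' →+* B) (hπ : Function.Surjective π) (hK : RingHom.ker π ^ 2 = ⊥) :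
    MoreMor.IsFirstOrderThickening (Spec.map (CommRingCat.ofHom π)) := by
  let ρ : B' ⧸ RingHom.ker π ≃+* B := RingHom.quotientKerEquivOfSurjective hπ
  let e : Spec (CommRingCat.of B) ≅ Spec (CommRingCat.of (B' ⧸ RingHom.ker π)) :=
    Scheme.Spec.mapIso ρ.toCommRingCatIso.op
  have he : e.hom = Spec.map (CommRingCat.ofHom ρ.toRingHom) := rfl
  have hfac : Spec.map (CommRingCat.ofHom π) =
      e.hom ≫ Spec.map (CommRingCat.ofHom (Ideal.Quotient.mk (RingHom.ker π))) := by
    rw [he, ← Spec.map_comp]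
    congr 1
  rw [hfac]
  exact isFirstOrderThickening_iso_comp e _ (ThickBC.isFirstOrderThickening_SpecMap_mk _ hK)

/-- Existence of the universal first order thickening of a formally unramified morphism from an
affine scheme which factors through an affine open of the target. -/
theorem exists_of_affine {W X : Scheme.{u}} [IsAffine W] (g : W ⟶ X) [FormallyUnramified g]
    (U : X.Opens) (hU : IsAffineOpen U) (hg : Set.range g ⊆ U) :
    ∃ (W' : Scheme.{u}) (i : W ⟶ W') (h' : W' ⟶ X), OmegaSh.IsUnivThickening g i h' := by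
  classical
  have hle : (⊤ : W.Opens) ≤ g ⁻¹ᵁ U := fun x _ => hg ⟨x, rfl⟩
  let φ : Γ(X, U) ⟶ Γ(W, ⊤) := g.appLE U ⊤ hle
  letI algB : Algebra Γ(X, U) Γ(W, ⊤) := φ.hom.toAlgebra
  haveI hfu : Algebra.FormallyUnramified Γ(X, U) Γ(W, ⊤) :=
    Scheme.Hom.formallyUnramified_appLE g hU (isAffineOpen_top W) hle
  obtain ⟨B', _, _, π, hπsurj, hπker, hπUP⟩ :=
    UnivThickRing.exists_isUnivThickeningRing Γ(X, U) Γ(W, ⊤)
  -- the key geometric identity
  have hφ : Spec.map φ ≫ hU.fromSpec = W.isoSpec.inv ≫ g := by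
    rw [hU.SpecMap_appLE_fromSpec g (isAffineOpen_top W) hle, IsAffineOpen.fromSpec_top]
  have hπφ : CommRingCat.ofHom (algebraMap Γ(X, U) B') ≫ CommRingCat.ofHom π.toRingHom = φ := by
    ext r
    exact π.commutes r
  let i : W ⟶ Spec (CommRingCat.of B') := W.isoSpec.hom ≫ Spec.map (CommRingCat.ofHom π.toRingHom)
  let h' : Spec (CommRingCat.of B') ⟶ X :=
    Spec.map (CommRingCat.ofHom (algebraMap Γ(X, U) B')) ≫ hU.fromSpec
  have hfac : i ≫ h' = g := by
    show (W.isoSpec.hom ≫ Spec.map (CommRingCat.ofHom π.toRingHom)) ≫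
      Spec.map (CommRingCat.ofHom (algebraMap Γ(X, U) B')) ≫ hU.fromSpec = g
    rw [Category.assoc, ← Category.assoc (Spec.map _), ← Spec.map_comp, hπφ, hφ,
      Iso.hom_inv_id_assoc]
  have hi : MoreMor.IsFirstOrderThickening i :=
    isFirstOrderThickening_iso_comp W.isoSpec _
      (isFirstOrderThickening_SpecMap_of_surjective π.toRingHom hπsurj hπker)
  refine ⟨Spec (CommRingCat.of B'), i, h', hi, hfac, ?_⟩
  intro T T' j b a hj hw
  have hw' : j ≫ b = (a ≫ i) ≫ h' := by rw [Category.assoc, hfac, hw]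
  refine LiftGlue.existsUnique_lift_of_standard j hj (a ≫ i) h' b hw'
    (fun T₀ a₀ => ∃ a₁ : T₀ ⟶ W, a₀ = a₁ ≫ i)
    (fun T₀ T₁ m a₀ ⟨a₁, ha₁⟩ => ⟨m ≫ a₁, by rw [ha₁, Category.assoc]⟩) ⟨a, rfl⟩ ?_
  rintro C _ I hI a₀ b₀ ⟨a₁, rfl⟩ hsq
  have ht := ThickBC.isFirstOrderThickening_SpecMap_mk I hI
  haveI : Surjective (Spec.map (CommRingCat.ofHom (Ideal.Quotient.mk I))) := ht.1.2
  -- `b₀` factors through `U`
  have hb : Set.range b₀ ⊆ Set.range hU.fromSpec := by
    rintro _ ⟨y, rfl⟩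
    obtain ⟨x, rfl⟩ := (Spec.map (CommRingCat.ofHom (Ideal.Quotient.mk I))).surjective y
    rw [← Scheme.Hom.comp_apply, hsq]
    show ((a₁ ≫ i) ≫ Spec.map (CommRingCat.ofHom (algebraMap Γ(X, U) B')) ≫ hU.fromSpec) x ∈ _
    rw [← Category.assoc, Scheme.Hom.comp_apply]
    exact ⟨_, rfl⟩
  let b₁ : Spec (CommRingCat.of C) ⟶ Spec Γ(X, U) := IsOpenImmersion.lift hU.fromSpec b₀ hb
  have hb₁ : b₁ ≫ hU.fromSpec = b₀ := IsOpenImmersion.lift_fac _ _ _
  let β : Γ(X, U) ⟶ CommRingCat.of C := Spec.preimage b₁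
  have hβ : Spec.map β = b₁ := Spec.map_preimage b₁
  let α : Γ(W, ⊤) ⟶ CommRingCat.of (C ⧸ I) := Spec.preimage (a₁ ≫ W.isoSpec.hom)
  have hα : Spec.map α = a₁ ≫ W.isoSpec.hom := Spec.map_preimage _
  have hcomm : φ ≫ α = β ≫ CommRingCat.ofHom (Ideal.Quotient.mk I) := by
    apply Spec.map_injective
    rw [← cancel_mono hU.fromSpec, Spec.map_comp, Spec.map_comp, Category.assoc, Category.assoc,
      hφ, hα, hβ, hb₁, hsq, Category.assoc, Iso.hom_inv_id_assoc, Category.assoc, hfac]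
  letI algC : Algebra Γ(X, U) C := β.hom.toAlgebra
  let αAlg : Γ(W, ⊤) →ₐ[Γ(X, U)] C ⧸ I :=
    { toRingHom := α.hom
      commutes' := fun r => congr($(hcomm).hom r) }
  obtain ⟨γ, hγ, hγuniq⟩ := hπUP C I hI αAlg
  -- translate the ring level equations
  have hγ1 : CommRingCat.ofHom γ.toRingHom ≫ CommRingCat.ofHom (Ideal.Quotient.mk I) =
      CommRingCat.ofHom π.toRingHom ≫ α := by
    ext x
    exact congrArg (fun F => F x) hγ
  have hγ2 : CommRingCat.ofHom (algebraMap Γ(X, U) B') ≫ CommRingCat.ofHom γ.toRingHom = β := by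
    ext r
    exact γ.commutes r
  refine ⟨Spec.map (CommRingCat.ofHom γ.toRingHom), ⟨?_, ?_⟩, ?_⟩
  · rw [← Spec.map_comp, hγ1, Spec.map_comp, hα, Category.assoc]
  · show Spec.map (CommRingCat.ofHom γ.toRingHom) ≫
      Spec.map (CommRingCat.ofHom (algebraMap Γ(X, U) B')) ≫ hU.fromSpec = b₀
    rw [← Category.assoc, ← Spec.map_comp, hγ2, hβ, hb₁]
  · rintro l' ⟨hl1, hl2⟩
    let γ' : CommRingCat.of B' ⟶ CommRingCat.of C := Spec.preimage l'
    have hγ' : Spec.map γ' = l' := Spec.map_preimage l'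
    have h2' : CommRingCat.ofHom (algebraMap Γ(X, U) B') ≫ γ' = β := by
      apply Spec.map_injective
      rw [← cancel_mono hU.fromSpec, Spec.map_comp, Category.assoc, hγ', hβ, hb₁]
      exact hl2
    have h1' : γ' ≫ CommRingCat.ofHom (Ideal.Quotient.mk I) =
        CommRingCat.ofHom π.toRingHom ≫ α := by
      apply Spec.map_injective
      rw [Spec.map_comp, Spec.map_comp, hγ', hl1, hα, Category.assoc]
    let γ'Alg : B' →ₐ[Γ(X, U)] C :=
      { toRingHom := γ'.hom
        commutes' := fun r => congr($(h2').hom r) }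
    have hγ'eq : γ'Alg = γ := hγuniq γ'Alg (by
      ext x
      exact congr($(h1').hom x))
    rw [← hγ']
    congr 1
    ext x
    exact congrArg (fun F : B' →ₐ[Γ(X, U)] C => F x) hγ'eq

end Groth.Agent.Lib.Helper61.UnivThick
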