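import Groth.Agent.Lib.Helper61.UnivThickRing
import Mathlib.Algebra.TrivSqZeroExt.Basic

/-!
# Extending derivations to a universal first order thickening (helper61)
-/

set_option autoImplicit false
universe u
open TensorProduct KaehlerDifferential

namespace Groth.Agent.Lib.Helper61.UnivThickDer

open TrivSqZeroExt in
/-- Every `R`-derivation from `A` into a `B'`-module killed by the kernel of a universal first
order thickening `B' → B` (over `A`) extends to an `R`-derivation of `B'`. -/
theorem exists_derivation_extension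
    {R A B B' : Type u} [CommRing R] [CommRing A] [CommRing B] [CommRing B']
    [Algebra R A] [Algebra A B] [Algebra A B'] [Algebra R B'] [IsScalarTower R A B']
    (π : B' →ₐ[A] B) (h : OmegaSh.IsUnivThickeningRing A B B' π)
    (M : Type u) [AddCommGroup M] [Module B' M] [Module A M] [IsScalarTower A B' M]
    [Module R M] [IsScalarTower R B' M]
    (hNM : ∀ n ∈ RingHom.ker π.toRingHom, ∀ m : M, n • m = 0)
    (D : Derivation R A M) : ∃ D' : Derivation R B' M, ∀ a, D' (algebraMap A B' a) = D a := by
  classical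
  obtain ⟨hsurj, hsq, huniv⟩ := h
  letI : Module B'ᵐᵒᵖ M := Module.compHom M ((RingHom.id B').fromOpposite mul_comm)
  haveI : IsCentralScalar B' M := ⟨fun r m => rfl⟩
  have hNN : ∀ x ∈ RingHom.ker π.toRingHom, ∀ y ∈ RingHom.ker π.toRingHom, x * y = 0 := by
    intro x hx y hy
    have : x * y ∈ (RingHom.ker π.toRingHom) ^ 2 := by rw [sq]; exact Ideal.mul_mem_mul hx hy
    rw [hsq] at this
    exact this
  -- the twisted algebra structure
  let ρ : A →+* TrivSqZeroExt B' M :=
    { toFun := fun a => inl (algebraMap A B' a) + inr (D a)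
      map_one' := by
        ext
        · simp
        · simp
      map_mul' := fun a b => by
        ext
        · simp
        · simp only [snd_add, snd_inl, snd_inr, zero_add, snd_mul, fst_add, fst_inl, fst_inr,
            add_zero, D.leibniz, op_smul_eq_smul, algebraMap_smul]
      map_zero' := by
        ext
        · simp
        · simp
      map_add' := fun a b => by
        ext
        · simp
        · simp }
  letI algTw : Algebra A (TrivSqZeroExt B' M) := ρ.toAlgebra
  have hρ : ∀ a, algebraMap A (TrivSqZeroExt B' M) a = inl (algebraMap A B' a) + inr (D a) :=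
    fun a => rfl
  -- the square-zero ideal
  let q : TrivSqZeroExt B' M →+* B := π.toRingHom.comp (fstHom B' B' M).toRingHom
  have hq : ∀ x, q x = π x.fst := fun x => rfl
  let I' : Ideal (TrivSqZeroExt B' M) := RingHom.ker q
  have hI'mem : ∀ x, x ∈ I' ↔ x.fst ∈ RingHom.ker π.toRingHom := fun x => by
    rw [RingHom.mem_ker, RingHom.mem_ker]; rfl
  have hI' : I' ^ 2 = ⊥ := by
    rw [eq_bot_iff, sq, Ideal.mul_le]
    intro x hx y hy
    rw [hI'mem] at hx hy
    rw [Ideal.mem_bot]
    ext
    · rw [fst_mul, fst_zero]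
      exact hNN _ hx _ hy
    · rw [snd_mul, snd_zero, op_smul_eq_smul, hNM _ hx, hNM _ hy, add_zero]
  have hinr : ∀ m : M, (inr m : TrivSqZeroExt B' M) ∈ I' := fun m => by
    rw [hI'mem, fst_inr]; exact Ideal.zero_mem _
  -- the map `B → C ⧸ I'`
  let gAlg : B' →ₐ[A] TrivSqZeroExt B' M ⧸ I' :=
    { toRingHom := (Ideal.Quotient.mk I').comp (inlHom B' M)
      commutes' := fun a => by
        show Ideal.Quotient.mk I' (inl (algebraMap A B' a)) =
          Ideal.Quotient.mk I' (algebraMap A (TrivSqZeroExt B' M) a)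
        rw [hρ, map_add, Ideal.Quotient.eq_zero_iff_mem.mpr (hinr _), add_zero] }
  have hgAlg : ∀ b, gAlg b = Ideal.Quotient.mk I' (inl b) := fun b => rfl
  have hker : RingHom.ker π.toRingHom ≤ RingHom.ker gAlg.toRingHom := by
    intro n hn
    rw [RingHom.mem_ker]
    show Ideal.Quotient.mk I' (inl n) = 0
    rw [Ideal.Quotient.eq_zero_iff_mem, hI'mem, fst_inl]
    exact hn
  let abar : B →ₐ[A] TrivSqZeroExt B' M ⧸ I' := AlgHom.liftOfSurjective π hsurj gAlg hker
  have habar : abar.comp π = gAlg := AlgHom.liftOfSurjective_comp π hsurj gAlg hker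
  obtain ⟨a', ha', -⟩ := huniv (TrivSqZeroExt B' M) I' hI' abar
  have ha'mk : ∀ b, Ideal.Quotient.mk I' (a' b) = Ideal.Quotient.mk I' (inl b) := by
    intro b
    have h1 := congrArg (fun F => F b) ha'
    have h2 := congrArg (fun F => F b) habar
    exact h1.trans h2
  have ha'fstmem : ∀ b, (a' b).fst - b ∈ RingHom.ker π.toRingHom := by
    intro b
    have h1 := ha'mk b
    rw [← sub_eq_zero, ← map_sub, Ideal.Quotient.eq_zero_iff_mem, hI'mem] at h1
    simpa using h1
  -- `fst ∘ a' = id` by uniqueness
  have hfst : ∀ b, (a' b).fst = b := by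
    let fstAlg : TrivSqZeroExt B' M →ₐ[A] B' :=
      { toRingHom := (fstHom B' B' M).toRingHom
        commutes' := fun a => by
          show (algebraMap A (TrivSqZeroExt B' M) a).fst = algebraMap A B' a
          rw [hρ]; simp }
    have hkerN : RingHom.ker π.toRingHom ≤
        RingHom.ker (Ideal.Quotient.mkₐ A (RingHom.ker π.toRingHom)).toRingHom := by
      intro n hn
      rw [RingHom.mem_ker]
      exact Ideal.Quotient.eq_zero_iff_mem.mpr hn
    let a₀ : B →ₐ[A] B' ⧸ RingHom.ker π.toRingHom :=
      AlgHom.liftOfSurjective π hsurj (Ideal.Quotient.mkₐ A _) hkerN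
    have ha₀ : a₀.comp π = Ideal.Quotient.mkₐ A _ := AlgHom.liftOfSurjective_comp π hsurj _ hkerN
    obtain ⟨c, -, hcuniq⟩ := huniv B' (RingHom.ker π.toRingHom) hsq a₀
    have h1 : fstAlg.comp a' = c := hcuniq _ (by
      rw [ha₀]
      apply AlgHom.ext
      intro b
      show Ideal.Quotient.mk _ (a' b).fst = Ideal.Quotient.mk _ b
      rw [← sub_eq_zero, ← map_sub, Ideal.Quotient.eq_zero_iff_mem]
      exact ha'fstmem b)
    have h2 : AlgHom.id A B' = c := hcuniq _ (by rw [ha₀]; rfl)
    intro b
    have := congrArg (fun F => F b) (h1.trans h2.symm)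
    exact this
  have ha'alg : ∀ a, a' (algebraMap A B' a) = inl (algebraMap A B' a) + inr (D a) := fun a => by
    rw [a'.commutes, hρ]
  -- the derivation
  let D'lin : B' →ₗ[R] M :=
    { toFun := fun b => (a' b).snd
      map_add' := fun x y => by rw [map_add, snd_add]
      map_smul' := fun r x => by
        have h1 : r • x = algebraMap A B' (algebraMap R A r) * x := by
          rw [← IsScalarTower.algebraMap_apply, Algebra.smul_def]
        rw [RingHom.id_apply, h1, map_mul, ha'alg, snd_mul]
        simp only [fst_add, fst_inl, fst_inr, add_zero, snd_add, snd_inl, snd_inr, zero_add,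
          D.map_algebraMap, smul_zero]
        rw [← IsScalarTower.algebraMap_apply, algebraMap_smul] }
  have hD'lin : ∀ b, D'lin b = (a' b).snd := fun b => rfl
  refine ⟨Derivation.mk' D'lin (fun x y => ?_), fun a => ?_⟩
  · rw [hD'lin, hD'lin, hD'lin, map_mul, snd_mul, hfst, hfst, op_smul_eq_smul]
  · show (a' (algebraMap A B' a)).snd = D a
    rw [ha'alg]; simp

section Inj

variable (R A B B' : Type u) [CommRing R] [CommRing A] [CommRing B] [CommRing B']
  [Algebra R A] [Algebra A B'] [Algebra B' B]

/-- A copy of `B ⊗[B'] (B' ⊗[A] Ω[A⁄R])` carrying only the `B`- and `B'`-module structures (to avoid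
competing scalar actions of `A`). -/
def Msrc : Type u := B ⊗[B'] (B' ⊗[A] Ω[A⁄R])

noncomputable instance : AddCommGroup (Msrc R A B B') :=
  inferInstanceAs (AddCommGroup (B ⊗[B'] (B' ⊗[A] Ω[A⁄R])))

noncomputable instance : Module B' (Msrc R A B B') :=
  inferInstanceAs (Module B' (B ⊗[B'] (B' ⊗[A] Ω[A⁄R])))

noncomputable instance : Module B (Msrc R A B B') :=
  inferInstanceAs (Module B (B ⊗[B'] (B' ⊗[A] Ω[A⁄R])))

instance : IsScalarTower B' B (Msrc R A B B') :=
  inferInstanceAs (IsScalarTower B' B (B ⊗[B'] (B' ⊗[A] Ω[A⁄R])))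

/-- The identity map into the copy. -/
noncomputable def toMsrc : B ⊗[B'] (B' ⊗[A] Ω[A⁄R]) ≃ₗ[B] Msrc R A B B' := LinearEquiv.refl _ _

variable {R A B B'}

theorem baseChange_mapBaseChange_injective [Algebra A B] [Algebra R B'] [IsScalarTower R A B']
    [IsScalarTower A B' B]
    (h : OmegaSh.IsUnivThickeningRing A B B' (IsScalarTower.toAlgHom A B' B)) :
    Function.Injective ((KaehlerDifferential.mapBaseChange R A B').baseChange B) := by
  classical
  letI mA : Module A (Msrc R A B B') := Module.compHom _ (algebraMap A B')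
  letI mR : Module R (Msrc R A B B') := Module.compHom _ (algebraMap R B')
  have hAsmul : ∀ (a : A) (m : Msrc R A B B'), a • m = algebraMap A B' a • m := fun a m => rfl
  have hRsmul : ∀ (r : R) (m : Msrc R A B B'), r • m = algebraMap R B' r • m := fun r m => rfl
  haveI tA : IsScalarTower A B' (Msrc R A B B') := ⟨fun a b m => by
    rw [hAsmul, Algebra.smul_def, mul_smul]⟩
  haveI tR : IsScalarTower R B' (Msrc R A B B') := ⟨fun r b m => by
    rw [hRsmul, Algebra.smul_def, mul_smul]⟩
  haveI tRA : IsScalarTower R A (Msrc R A B B') := ⟨fun r a m => by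
    rw [hRsmul, hAsmul, hAsmul, Algebra.smul_def, map_mul, mul_smul,
      ← IsScalarTower.algebraMap_apply]⟩
  let f : Ω[A⁄R] →ₗ[A] Msrc R A B B' :=
    { toFun := fun ω => toMsrc R A B B' ((1 : B) ⊗ₜ[B'] ((1 : B') ⊗ₜ[A] ω))
      map_add' := fun x y => by rw [TensorProduct.tmul_add, TensorProduct.tmul_add, map_add]
      map_smul' := fun a ω => by
        rw [RingHom.id_apply, hAsmul]
        show (1 : B) ⊗ₜ[B'] ((1 : B') ⊗ₜ[A] (a • ω)) =
          algebraMap A B' a • ((1 : B) ⊗ₜ[B'] ((1 : B') ⊗ₜ[A] ω))
        rw [TensorProduct.tmul_smul, TensorProduct.smul_tmul', Algebra.smul_def, mul_one,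
          ← TensorProduct.tmul_smul (R := B'), TensorProduct.smul_tmul', smul_eq_mul, mul_one] }
  let D₀ : Derivation R A (Msrc R A B B') := f.compDer (KaehlerDifferential.D R A)
  have hD₀ : ∀ a, D₀ a =
      toMsrc R A B B' ((1 : B) ⊗ₜ[B'] ((1 : B') ⊗ₜ[A] KaehlerDifferential.D R A a)) :=
    fun a => rfl
  obtain ⟨D', hD'⟩ := exists_derivation_extension
    (IsScalarTower.toAlgHom A B' B) h (Msrc R A B B') (by
      intro n hn m
      have hn' : algebraMap B' B n = 0 := hn
      show n • (show B ⊗[B'] (B' ⊗[A] Ω[A⁄R]) from m) = 0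
      induction (show B ⊗[B'] (B' ⊗[A] Ω[A⁄R]) from m) using TensorProduct.induction_on with
      | zero => rw [smul_zero]
      | add x y hx hy => rw [smul_add, hx, hy, add_zero]
      | tmul b x =>
        rw [TensorProduct.smul_tmul', Algebra.smul_def, hn', zero_mul, TensorProduct.zero_tmul])
    D₀
  let L : B ⊗[B'] Ω[B'⁄R] →ₗ[B] Msrc R A B B' :=
    LinearMap.liftBaseChange B D'.liftKaehlerDifferential
  let g : Ω[A⁄R] →ₗ[A] Msrc R A B B' :=
    (D'.liftKaehlerDifferential.restrictScalars A) ∘ₗ (KaehlerDifferential.map R R A B')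
  have hgf : g = f := by
    apply Derivation.liftKaehlerDifferential_unique
    ext a
    show D'.liftKaehlerDifferential (KaehlerDifferential.map R R A B' (KaehlerDifferential.D R A a))
      = D₀ a
    rw [KaehlerDifferential.map_D, Derivation.liftKaehlerDifferential_comp_D, hD']
  have hg : ∀ ω, D'.liftKaehlerDifferential (KaehlerDifferential.map R R A B' ω) =
      toMsrc R A B B' ((1 : B) ⊗ₜ[B'] ((1 : B') ⊗ₜ[A] ω)) := fun ω =>
    congrArg (fun F => F ω) hgf
  have hL : ∀ m, L ((KaehlerDifferential.mapBaseChange R A B').baseChange B m) =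
      toMsrc R A B B' m := by
    intro m
    induction m using TensorProduct.induction_on with
    | zero => rw [map_zero, map_zero, map_zero]
    | add x y hx hy => rw [map_add, map_add, map_add, hx, hy]
    | tmul b x =>
      induction x using TensorProduct.induction_on with
      | zero => rw [TensorProduct.tmul_zero, map_zero, map_zero, map_zero]
      | add x y hx hy => rw [TensorProduct.tmul_add, map_add, map_add, map_add, hx, hy]
      | tmul b' ω =>
        rw [LinearMap.baseChange_tmul, LinearMap.liftBaseChange_tmul,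
          KaehlerDifferential.mapBaseChange_tmul, map_smul, hg]
        show b • b' • ((1 : B) ⊗ₜ[B'] ((1 : B') ⊗ₜ[A] ω)) = b ⊗ₜ[B'] (b' ⊗ₜ[A] ω)
        rw [← TensorProduct.tmul_smul (R := B'), TensorProduct.smul_tmul', smul_eq_mul, mul_one,
          TensorProduct.smul_tmul', smul_eq_mul, mul_one]
  intro m₁ m₂ hm
  have := congrArg L hm
  rw [hL, hL] at this
  exact (toMsrc R A B B').injective this

end Inj

end Groth.Agent.Lib.Helper61.UnivThickDer
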