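import Mathlib
import Groth.Prelude.Def_CurvBase
import Groth.Agent.Lib.Helper61.WeakAssBC3
import Groth.Agent.Lib.QCoh.Helper18_PullbackStalk

/-!
# Weakly associated points under base change along a field extension (helper61)

`isWeakAssPoint_of_bc` : if `y ∈ X_K` is weakly associated to the pullback of a quasi-coherent `F`,
then its image in `X` is weakly associated to `F`.
-/

set_option autoImplicit false

universe u

open CategoryTheory CategoryTheory.Limits AlgebraicGeometry TopologicalSpace TensorProduct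
open Groth.Agent.Lib.QCoh Groth.Agent.Lib.Helper18

namespace Groth.Agent.Lib.Helper61.WeakAssBCSch

set_option maxHeartbeats 1600000 in
set_option synthInstance.maxHeartbeats 400000 in
theorem isWeakAssPoint_of_bc (k : Type u) [Field k] (K : Type u) [Field K] [Algebra k K]
    (X : Scheme.{u}) [X.Over (Spec (CommRingCat.of k))] (F : X.Modules) [F.IsQuasicoherent]
    (y : ↥(Curv2.bc k X K))
    (hy : Curv2.IsWeakAssPoint ((Scheme.Modules.pullback (Curv2.bcFst k X K)).obj F) y) :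
    Curv2.IsWeakAssPoint F (Curv2.bcFst k X K y) := by
  have H : IsPullback (Curv2.bcFst k X K) (Curv2.bcSnd k X K) (X ↘ Spec (CommRingCat.of k))
      (Spec.map (CommRingCat.ofHom (algebraMap k K))) := IsPullback.of_hasPullback _ _
  obtain ⟨U, hU, hxU, -⟩ :=
    exists_isAffineOpen_mem_and_subset (x := Curv2.bcFst k X K y) (U := ⊤) trivial
  haveI : IsAffineHom (Spec.map (CommRingCat.ofHom (algebraMap k K))) := inferInstance
  haveI : IsAffineHom (Curv2.bcFst k X K) := MorphismProperty.pullback_fst _ _ ‹_›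
  obtain ⟨V, hVeq⟩ : ∃ V : (Curv2.bc k X K).Opens, V = Curv2.bcFst k X K ⁻¹ᵁ U := ⟨_, rfl⟩
  have hV : IsAffineOpen V := by rw [hVeq]; exact hU.preimage _
  have hyV : y ∈ V := by rw [hVeq]; exact hxU
  have hVdef : V = Curv2.bcFst k X K ⁻¹ᵁ U ⊓ Curv2.bcSnd k X K ⁻¹ᵁ ⊤ := by rw [hVeq]; simp
  have hUST : (⊤ : (Spec (CommRingCat.of K)).Opens) ≤
      (Spec.map (CommRingCat.ofHom (algebraMap k K))) ⁻¹ᵁ ⊤ := fun _ _ => trivial
  have hUSX : U ≤ (X ↘ Spec (CommRingCat.of k)) ⁻¹ᵁ ⊤ := fun _ _ => trivial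
  have hle1 : V ≤ Curv2.bcFst k X K ⁻¹ᵁ U := hVeq.le
  have hle2 : V ≤ Curv2.bcSnd k X K ⁻¹ᵁ ⊤ := fun _ _ => trivial
  have hiso := isIso_pushoutSection_of_isAffineOpen H hUST hUSX hVdef (isAffineOpen_top _)
    (isAffineOpen_top _) hU
  have HP : IsPushout ((X ↘ Spec (CommRingCat.of k)).appLE ⊤ U hUSX)
      ((Spec.map (CommRingCat.ofHom (algebraMap k K))).appLE ⊤ ⊤ hUST)
      ((Curv2.bcFst k X K).appLE U V hle1) ((Curv2.bcSnd k X K).appLE ⊤ V hle2) :=
    (isIso_pushoutSection_iff H hUST hUSX hVdef).mp hiso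
  -- algebra structures
  letI algkR : Algebra k Γ(X, U) := ((Scheme.ΓSpecIso (CommRingCat.of k)).inv ≫
    (X ↘ Spec (CommRingCat.of k)).appLE ⊤ U hUSX).hom.toAlgebra
  letI algRRK : Algebra Γ(X, U) Γ(Curv2.bc k X K, V) :=
    ((Curv2.bcFst k X K).appLE U V hle1).hom.toAlgebra
  letI algKRK : Algebra K Γ(Curv2.bc k X K, V) := ((Scheme.ΓSpecIso (CommRingCat.of K)).inv ≫
    (Curv2.bcSnd k X K).appLE ⊤ V hle2).hom.toAlgebra
  letI algkRK : Algebra k Γ(Curv2.bc k X K, V) :=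
    ((algebraMap Γ(X, U) Γ(Curv2.bc k X K, V)).comp (algebraMap k Γ(X, U))).toAlgebra
  haveI : IsScalarTower k Γ(X, U) Γ(Curv2.bc k X K, V) :=
    IsScalarTower.of_algebraMap_eq (fun _ => rfl)
  have e2 : (Spec.map (CommRingCat.ofHom (algebraMap k K))).appLE ⊤ ⊤ hUST =
      (Spec.map (CommRingCat.ofHom (algebraMap k K))).appTop := Scheme.Hom.appLE_eq_app _
  have h1 : IsPushout (CommRingCat.ofHom (algebraMap k Γ(X, U)))
      (CommRingCat.ofHom (algebraMap k K))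
      (CommRingCat.ofHom (algebraMap Γ(X, U) Γ(Curv2.bc k X K, V)))
      (CommRingCat.ofHom (algebraMap K Γ(Curv2.bc k X K, V))) := by
    refine HP.of_iso (Scheme.ΓSpecIso (CommRingCat.of k)) (Iso.refl _)
      (Scheme.ΓSpecIso (CommRingCat.of K)) (Iso.refl _) ?_ ?_ ?_ ?_
    · rw [Iso.refl_hom, Category.comp_id]
      show _ = (Scheme.ΓSpecIso (CommRingCat.of k)).hom ≫
        ((Scheme.ΓSpecIso (CommRingCat.of k)).inv ≫ (X ↘ Spec (CommRingCat.of k)).appLE ⊤ U hUSX)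
      rw [Iso.hom_inv_id_assoc]
    · rw [e2]
      exact Scheme.ΓSpecIso_naturality _
    · rw [Iso.refl_hom, Iso.refl_hom, Category.comp_id, Category.id_comp]
      rfl
    · rw [Iso.refl_hom, Category.comp_id]
      show _ = (Scheme.ΓSpecIso (CommRingCat.of K)).hom ≫
        ((Scheme.ΓSpecIso (CommRingCat.of K)).inv ≫ (Curv2.bcSnd k X K).appLE ⊤ V hle2)
      rw [Iso.hom_inv_id_assoc]
  haveI : IsScalarTower k K Γ(Curv2.bc k X K, V) := by
    refine IsScalarTower.of_algebraMap_eq (fun a => ?_)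
    have := congrArg (fun m => m.hom a) h1.w
    exact this
  haveI : Algebra.IsPushout k K Γ(X, U) Γ(Curv2.bc k X K, V) :=
    CommRingCat.isPushout_iff_isPushout.1 h1.flip
  -- modules
  haveI hq : ((Scheme.Modules.pullback (Curv2.bcFst k X K)).obj F).IsQuasicoherent :=
    isQuasicoherent_pullback _ F
  obtain ⟨m', hm'⟩ := (isWeakAssPoint_iff_of_isAffineOpen
    ((Scheme.Modules.pullback (Curv2.bcFst k X K)).obj F) hV y hyV).1 hy
  let e : Γ((Scheme.Modules.pullback (Curv2.bcFst k X K)).obj F, V) ≃ₗ[Γ(Curv2.bc k X K, V)]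
      Γ(Curv2.bc k X K, V) ⊗[Γ(X, U)] Γ(F, U) :=
    pullbackΓLinearEquiv (Curv2.bcFst k X K) F hU hV hle1
  have hq1 : (hV.primeIdealOf ⟨y, hyV⟩).asIdeal ∈
      FlatCA.weakAss Γ(Curv2.bc k X K, V) (Γ(Curv2.bc k X K, V) ⊗[Γ(X, U)] Γ(F, U)) :=
    Groth.Agent.Lib.Helper61.WeakAssBC.mem_weakAss_of_linearEquiv e
      ⟨m', by rw [Groth.Agent.Lib.Helper61.WeakAssBC.annSpan_eq_ann]; exact hm'⟩
  have hgood := (Groth.Agent.Lib.Helper61.WeakAssBC.good_of_isPushout_field (k := k) (K := K)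
    (R := Γ(X, U)) (RK := Γ(Curv2.bc k X K, V))) Γ(F, U) _ hq1
  have hcomap : (hV.primeIdealOf ⟨y, hyV⟩).asIdeal.comap
      (algebraMap Γ(X, U) Γ(Curv2.bc k X K, V)) =
      (hU.primeIdealOf ⟨Curv2.bcFst k X K y, hxU⟩).asIdeal :=
    congrArg PrimeSpectrum.asIdeal
      (IsAffineOpen.comap_primeIdealOf_appLE U hU V hV hle1 hyV)
  rw [hcomap] at hgood
  obtain ⟨m, hm⟩ := hgood
  rw [Groth.Agent.Lib.Helper61.WeakAssBC.annSpan_eq_ann] at hm
  exact (isWeakAssPoint_iff_of_isAffineOpen F hU _ hxU).2 ⟨m, hm⟩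

end Groth.Agent.Lib.Helper61.WeakAssBCSch
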