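import Groth.Prelude.Def_WittGrp
import Groth.Prelude.Def_AlgGrp
import Mathlib.AlgebraicGeometry.Morphisms.Flat
import Mathlib.AlgebraicGeometry.Morphisms.Separated
import Mathlib.AlgebraicGeometry.Morphisms.ClosedImmersion

set_option autoImplicit false
universe u
open CategoryTheory MonoidalCategory CartesianMonoidalCategory MonObj AlgebraicGeometry
  CategoryTheory.Limits
open WittGrp

namespace Groth.Agent.Lib.Helper61

variable (p : ℕ) [hp : Fact p.Prime] {n m : ℕ} {S : Scheme.{u}}

/-- Two morphisms into a Witt group scheme with the same Witt vector of coordinates are equal. -/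
theorem witt_hom_ext {T : Over S} {x y : T ⟶ W p n S}
    (h : pts p T (Additive.ofMul x) = pts p T (Additive.ofMul y)) : x = y :=
  pts_injective p T h

/-- The point of `W_n` with a given Witt vector of coordinates. -/
noncomputable def ofPts (T : Over S) (v : TruncatedWittVector p n Γ(T.left, ⊤)) : T ⟶ W p n S :=
  (ptsMul p T).symm (Multiplicative.ofAdd v)

@[simp]
theorem pts_ofPts (T : Over S) (v : TruncatedWittVector p n Γ(T.left, ⊤)) :
    pts p T (Additive.ofMul (ofPts p T v)) = v := by
  change Multiplicative.toAdd ((ptsMul p T) ((ptsMul p T).symm (Multiplicative.ofAdd v))) = v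
  rw [MulEquiv.apply_symm_apply, toAdd_ofAdd]

/-- Ring level: the last `m` components of a Witt vector of length `n + m`. -/
def tailFun {A : Type*} [CommRing A] (x : TruncatedWittVector p (n + m) A) :
    TruncatedWittVector p m A :=
  TruncatedWittVector.mk p fun i => x.coeff (Fin.natAdd n i)

@[simp]
theorem coeff_tailFun {A : Type*} [CommRing A] (x : TruncatedWittVector p (n + m) A) (i : Fin m) :
    (tailFun p (n := n) x).coeff i = x.coeff (Fin.natAdd n i) :=
  TruncatedWittVector.coeff_mk _ _

theorem truncMap_tailFun {A B : Type*} [CommRing A] [CommRing B] (f : A →+* B)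
    (x : TruncatedWittVector p (n + m) A) :
    truncMap p m f (tailFun p (n := n) x) = tailFun p (n := n) (truncMap p (n + m) f x) :=
  TruncatedWittVector.ext fun i => by simp only [coeff_truncMap, coeff_tailFun]

variable (S) (n m) in
/-- The morphism of schemes over `S` keeping the last `m` coordinates (not a homomorphism). -/
noncomputable def tail : W p (n + m) S ⟶ W p m S :=
  ofPts p _ (tailFun p (n := n) (pts p (W p (n + m) S) (Additive.ofMul (𝟙 _))))

theorem pts_tail {T : Over S} (x : T ⟶ W p (n + m) S) :
    pts p T (Additive.ofMul (x ≫ tail p n m S)) = tailFun p (n := n) (pts p T (Additive.ofMul x)) := by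
  rw [pts_comp, tail, pts_ofPts, truncMap_tailFun, ← pts_comp, Category.comp_id]

theorem V_comp_tail : V p S (Nat.le_add_left m n) ≫ tail p n m S = 𝟙 _ := by
  refine witt_hom_ext p ?_
  rw [pts_tail, ← Category.id_comp (V p S (Nat.le_add_left m n)), pts_V]
  generalize pts p (W p m S) (Additive.ofMul (𝟙 (W p m S))) = x
  refine TruncatedWittVector.ext fun i => ?_
  rw [coeff_tailFun, coeff_shift]
  have e : n + m - m = n := by omega
  rw [dif_pos (by simp [e])]
  congr 1
  ext
  simp [e]

/-- Ring level: concatenation of Witt vectors (as tuples of components). -/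
def appendFun {A : Type*} [CommRing A] (x : TruncatedWittVector p n A)
    (y : TruncatedWittVector p m A) : TruncatedWittVector p (n + m) A :=
  TruncatedWittVector.mk p fun i => Fin.addCases (fun j => x.coeff j) (fun j => y.coeff j) i

theorem truncate_appendFun {A : Type*} [CommRing A] (x : TruncatedWittVector p n A)
    (y : TruncatedWittVector p m A) :
    TruncatedWittVector.truncate (Nat.le_add_right n m) (appendFun p x y) = x :=
  TruncatedWittVector.ext fun i => by
    rw [TruncatedWittVector.coeff_truncate, appendFun, TruncatedWittVector.coeff_mk]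
    have : Fin.castLE (Nat.le_add_right n m) i = Fin.castAdd m i := rfl
    rw [this, Fin.addCases_left]

theorem tailFun_appendFun {A : Type*} [CommRing A] (x : TruncatedWittVector p n A)
    (y : TruncatedWittVector p m A) : tailFun p (n := n) (appendFun p x y) = y :=
  TruncatedWittVector.ext fun i => by
    rw [coeff_tailFun, appendFun, TruncatedWittVector.coeff_mk, Fin.addCases_right]

theorem appendFun_truncate_tailFun {A : Type*} [CommRing A]
    (z : TruncatedWittVector p (n + m) A) :
    appendFun p (TruncatedWittVector.truncate (Nat.le_add_right n m) z) (tailFun p (n := n) z) = z :=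
  TruncatedWittVector.ext fun i => by
    rw [appendFun, TruncatedWittVector.coeff_mk]
    refine Fin.addCases (fun j => ?_) (fun j => ?_) i
    · rw [Fin.addCases_left, TruncatedWittVector.coeff_truncate]
      rfl
    · rw [Fin.addCases_right, coeff_tailFun]

variable (S) (n m) in
/-- `W_{n+m}` is the product of `W_n` and `W_m` as a scheme over `S`, through restriction and tail. -/
noncomputable def isLimitRTail :
    IsLimit (BinaryFan.mk (R p S (Nat.le_add_right n m)) (tail p n m S)) :=
  BinaryFan.IsLimit.mk _
    (fun {T} a b => ofPts p T (appendFun p (pts p T (Additive.ofMul a)) (pts p T (Additive.ofMul b))))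
    (fun {T} a b => witt_hom_ext p (by
      change pts p T (Additive.ofMul (ofPts p T _ ≫ R p S (Nat.le_add_right n m))) = _
      rw [pts_R, pts_ofPts, truncate_appendFun]))
    (fun {T} a b => witt_hom_ext p (by
      change pts p T (Additive.ofMul (ofPts p T _ ≫ tail p n m S)) = _
      rw [pts_tail, pts_ofPts, tailFun_appendFun]))
    (fun {T} a b l h1 h2 => witt_hom_ext p (by
      change l ≫ R p S (Nat.le_add_right n m) = a at h1
      change l ≫ tail p n m S = b at h2
      subst h1 h2
      rw [pts_ofPts, pts_R, pts_tail, appendFun_truncate_tailFun]))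

theorem isPullback_R_tail :
    IsPullback (R p S (Nat.le_add_right n m)).left (tail p n m S).left (W p n S).hom (W p m S).hom :=
  Over.isPullback_of_binaryFan_isLimit _ (isLimitRTail p n m S)

section AffineSpace

variable (J : Type u) (S)

open MvPolynomial in
set_option backward.isDefEq.respectTransparency.types false in
/-- Affine space over any base is flat over the base. -/
instance flat_affineSpace_over : Flat (𝔸(J; S) ↘ S) :=
  MorphismProperty.pullback_fst _ _ <| by
  have := isIso_of_isTerminal specULiftZIsTerminal.{u} terminalIsTerminal (terminal.from _)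
  rw [← terminal.comp_from (Spec.map (CommRingCat.ofHom C)),
    MorphismProperty.cancel_right_of_respectsIso (P := @Flat),
    HasRingHomProperty.Spec_iff (P := @Flat)]
  simp only [CommRingCat.hom_ofHom]
  have : (C : ULift.{u} ℤ →+* MvPolynomial J (ULift.{u} ℤ)) =
      algebraMap (ULift.{u} ℤ) (MvPolynomial J (ULift.{u} ℤ)) := rfl
  rw [this, RingHom.flat_algebraMap_iff]
  infer_instance

end AffineSpace

theorem flat_W_hom : Flat (W p n S).hom := by
  change Flat (𝔸(ULift.{u} (Fin n); S) ↘ S)
  infer_instance

theorem surjective_W_hom : Surjective (W p n S).hom := by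
  change Surjective (𝔸(ULift.{u} (Fin n); S) ↘ S)
  infer_instance

theorem isAffineHom_W_hom : IsAffineHom (W p n S).hom := by
  change IsAffineHom (𝔸(ULift.{u} (Fin n); S) ↘ S)
  infer_instance

theorem flat_R_left : Flat (R p S (Nat.le_add_right n m)).left :=
  MorphismProperty.of_isPullback (isPullback_R_tail p).flip (flat_W_hom p)

theorem surjective_R_left : Surjective (R p S (Nat.le_add_right n m)).left :=
  MorphismProperty.of_isPullback (isPullback_R_tail p).flip (surjective_W_hom p)

theorem isSeparated_left {X Y : Over S} (f : X ⟶ Y) (hX : IsAffineHom X.hom) : IsSeparated f.left := by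
  have : IsSeparated (f.left ≫ Y.hom) := by rw [Over.w f]; infer_instance
  exact IsSeparated.of_comp f.left Y.hom

theorem isClosedImmersion_V_left : IsClosedImmersion (V p S (Nat.le_add_left m n)).left := by
  have h1 : (V p S (Nat.le_add_left m n)).left ≫ (tail p n m S).left = 𝟙 _ := by
    rw [← Over.comp_left, V_comp_tail, Over.id_left]
  have : IsClosedImmersion ((V p S (Nat.le_add_left m n)).left ≫ (tail p n m S).left) := by
    rw [h1]; infer_instance
  have : IsSeparated (tail p n m S).left := isSeparated_left _ (isAffineHom_W_hom p)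
  exact IsClosedImmersion.of_comp (V p S (Nat.le_add_left m n)).left (tail p n m S).left

theorem shift_tailFun_of_truncate_eq_zero {A : Type*} [CommRing A]
    (z : TruncatedWittVector p (n + m) A)
    (hz : TruncatedWittVector.truncate (Nat.le_add_right n m) z = 0) :
    shift p (Nat.le_add_left m n) (tailFun p (n := n) z) = z := by
  refine TruncatedWittVector.ext fun i => ?_
  rw [coeff_shift]
  have e : n + m - m = n := by omega
  by_cases hi : n ≤ (i : ℕ)
  · rw [dif_pos (by simpa [e] using hi), coeff_tailFun]
    congr 1
    ext
    simp only [Fin.natAdd_mk, e]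
    omega
  · rw [dif_neg (by simpa [e] using hi)]
    have h := congrArg (fun w => TruncatedWittVector.coeff (p := p) ⟨i, by omega⟩ w) hz
    simp only [TruncatedWittVector.coeff_truncate, TruncatedWittVector.coeff_zero] at h
    rw [← h]
    rfl

theorem truncate_shift_eq_zero {A : Type*} [CommRing A] (x : TruncatedWittVector p m A) :
    TruncatedWittVector.truncate (Nat.le_add_right n m) (shift p (Nat.le_add_left m n) x) = 0 := by
  refine TruncatedWittVector.ext fun i => ?_
  rw [TruncatedWittVector.coeff_truncate, coeff_shift, TruncatedWittVector.coeff_zero]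
  have e : n + m - m = n := by omega
  rw [dif_neg]
  simp only [e, Fin.val_castLE, not_le]
  exact i.2

theorem V_comp_R_eq_one :
    V p S (Nat.le_add_left m n) ≫ R p S (Nat.le_add_right n m) = 1 := by
  refine witt_hom_ext p ?_
  rw [pts_R, ← Category.id_comp (V p S (Nat.le_add_left m n)), pts_V, truncate_shift_eq_zero,
    pts_one]

theorem isKernel_V_R :
    AlgGrp.IsKernel (V p S (Nat.le_add_left m n)) (R p S (Nat.le_add_right n m)) := by
  have hw : V p S (Nat.le_add_left m n) ≫ R p S (Nat.le_add_right n m) =
      toUnit (W p m S) ≫ η[W p n S] := by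
    rw [V_comp_R_eq_one, Hom.one_def]
  refine IsPullback.mk ⟨hw⟩ ⟨PullbackCone.IsLimit.mk hw (fun s => s.fst ≫ tail p n m S)
    (fun s => ?_) (fun s => toUnit_unique _ _) (fun s l h1 _ => ?_)⟩
  · refine witt_hom_ext p ?_
    rw [pts_V, pts_tail]
    refine shift_tailFun_of_truncate_eq_zero p _ ?_
    rw [← pts_R, s.condition, ← pts_one (p := p) (n := n) (S := S) s.pt, Hom.one_def,
      toUnit_unique (s.snd) (toUnit s.pt)]
  · rw [← h1, Category.assoc, V_comp_tail, Category.comp_id]

end Groth.Agent.Lib.Helper61
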